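import Mathlib
import Cfsg.Agent.ThreePrime.SzDataExists

/-!
# More facts on `Sz(F)` from the parametrisation `SzRel.Rel`

The centre `Z` of the Sylow 2-subgroup, its order, commutators, generation, and the automorphisms centralising `Z`
or the torus.
-/

set_option autoImplicit false

open scoped commutatorElement Pointwise

namespace Cfsg.Agent.ThreePrime.SzRel

variable {J : Type*} [Group J] {F : Type*} [Field F]

namespace Rel

variable (R : Rel J F)

/-- the centre of the unipotent subgroup -/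
def Z : Subgroup J where
  carrier := {g | ∃ b : F, g = R.u 0 b}
  mul_mem' := by
    rintro g h ⟨b, rfl⟩ ⟨c, rfl⟩
    refine ⟨b + c, ?_⟩
    rw [R.u_mul]
    congr 1
    · ring
    · ring
  one_mem' := ⟨0, R.u_zero.symm⟩
  inv_mem' := by
    rintro g ⟨b, rfl⟩
    refine ⟨b, ?_⟩
    rw [R.u_inv]
    congr 1
    ring

theorem mem_Z (g : J) : g ∈ R.Z ↔ ∃ b : F, g = R.u 0 b := Iff.rfl

theorem Z_le_T : R.Z ≤ R.T := by
  rintro g ⟨b, rfl⟩
  exact R.u_mem 0 b

theorem u_zero_mem_Z (b : F) : R.u 0 b ∈ R.Z := ⟨b, rfl⟩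

theorem mem_Z_iff {x : J} (hx : x ∈ R.T) : x ∈ R.Z ↔ x * x = 1 := by
  obtain ⟨a, b, rfl⟩ := hx
  rw [R.u_sq_iff]
  constructor
  · rintro ⟨c, h⟩
    exact (R.u_inj h).1
  · rintro rfl
    exact R.u_zero_mem_Z b

theorem Z_central {z x : J} (hz : z ∈ R.Z) (hx : x ∈ R.T) : z * x = x * z := by
  obtain ⟨b, rfl⟩ := hz
  obtain ⟨c, e, rfl⟩ := hx
  rw [R.comm_iff, map_zero]
  ring

theorem sq_mem_Z {x : J} (hx : x ∈ R.T) : x * x ∈ R.Z := by
  obtain ⟨a, b, rfl⟩ := hx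
  rw [R.u_mul_self]
  exact R.u_zero_mem_Z _

theorem commutator_u (a b c e : F) : ⁅R.u a b, R.u c e⁆ = R.u 0 (a * R.θ c + c * R.θ a) := by
  rw [commutatorElement_def, R.u_mul, R.u_inv, R.u_mul, R.u_inv, R.u_mul]
  congr 1
  · linear_combination (a + c) * R.two
  · linear_combination (b + e + a * R.θ a + c * R.θ c + a * R.θ c) * R.two

theorem commutator_mem_Z {x y : J} (hx : x ∈ R.T) (hy : y ∈ R.T) : ⁅x, y⁆ ∈ R.Z := by
  obtain ⟨a, b, rfl⟩ := hx
  obtain ⟨c, e, rfl⟩ := hy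
  rw [R.commutator_u]
  exact R.u_zero_mem_Z _

theorem card_Z : Nat.card R.Z = Nat.card F := by
  symm
  refine Nat.card_congr (Equiv.ofBijective (fun b : F => (⟨R.u 0 b, R.u_zero_mem_Z b⟩ : R.Z)) ⟨?_, ?_⟩)
  · intro b c h
    exact (R.u_inj (congrArg Subtype.val h)).2
  · rintro ⟨g, b, rfl⟩
    exact ⟨b, rfl⟩

theorem card_T : Nat.card R.T = Nat.card F * Nat.card F := by
  rw [← Nat.card_prod]
  symm
  refine Nat.card_congr (Equiv.ofBijective (fun p : F × F => (⟨R.u p.1 p.2, R.u_mem _ _⟩ : R.T)) ⟨?_, ?_⟩)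
  · intro p q h
    have := R.u_inj (congrArg Subtype.val h)
    exact Prod.ext this.1 this.2
  · rintro ⟨g, a, b, rfl⟩
    exact ⟨(a, b), rfl⟩

theorem Z_eq [Finite F] (h8 : 8 ≤ Nat.card F) : R.Z = ⁅R.T, R.T⁆ := by
  rw [R.comm_eq h8]
  ext x
  rw [R.mem_center_iff h8]
  exact Iff.rfl

/-- elements outside `Z` have at least three different nontrivial commutators; we record two. -/
theorem exists_two_comm [Finite F] (h8 : 8 ≤ Nat.card F) {x : J} (hx : x ∈ R.T) (hxZ : x ∉ R.Z) :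
    ∃ y ∈ R.T, ∃ y' ∈ R.T, ⁅x, y⁆ ≠ 1 ∧ ⁅x, y'⁆ ≠ 1 ∧ ⁅x, y⁆ ≠ ⁅x, y'⁆ := by
  classical
  obtain ⟨a, b, rfl⟩ := hx
  have ha : a ≠ 0 := by
    rintro rfl
    exact hxZ (R.u_zero_mem_Z b)
  have ht : R.θ a ≠ 0 := fun h' => ha ((map_eq_zero R.θ).mp h')
  have key : ∀ c : F, a * R.θ c + c * R.θ a = 0 → c = 0 ∨ c = a := by
    intro c h
    have h3 : R.θ (c / a) = c / a := by
      rw [map_div₀, div_eq_div_iff ht ha]
      linear_combination h - (c * R.θ a) * R.two
    rcases R.fix_theta h3 with h4 | h4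
    · left
      rcases div_eq_zero_iff.mp h4 with h5 | h5
      · exact h5
      · exact absurd h5 ha
    · right
      exact (div_eq_one_iff_eq ha).mp h4
  obtain ⟨c, hc⟩ := exists_not_mem h8 ({0, a} : Finset F) (by
    calc ({0, a} : Finset F).card ≤ 2 := Finset.card_le_two
      _ ≤ 7 := by norm_num)
  obtain ⟨c', hc'⟩ := exists_not_mem h8 ({0, a, c, c + a} : Finset F) (by
    calc ({0, a, c, c + a} : Finset F).card ≤ 4 := Finset.card_le_four
      _ ≤ 7 := by norm_num)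
  simp only [Finset.mem_insert, Finset.mem_singleton, not_or] at hc hc'
  refine ⟨R.u c 0, R.u_mem _ _, R.u c' 0, R.u_mem _ _, ?_, ?_, ?_⟩
  · rw [R.commutator_u, ← R.u_zero]
    intro h
    rcases key c (R.u_inj h).2 with h1 | h1
    · exact hc.1 h1
    · exact hc.2 h1
  · rw [R.commutator_u, ← R.u_zero]
    intro h
    rcases key c' (R.u_inj h).2 with h1 | h1
    · exact hc'.1 h1
    · exact hc'.2.1 h1
  · rw [R.commutator_u, R.commutator_u]
    intro h
    have h1 := (R.u_inj h).2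
    have h2 : a * R.θ (c + c') + (c + c') * R.θ a = 0 := by
      rw [map_add]
      linear_combination h1 + (a * R.θ c' + c' * R.θ a) * R.two
    rcases key _ h2 with h3 | h3
    · apply hc'.2.2.1
      linear_combination h3 - c * R.two
    · apply hc'.2.2.2
      linear_combination h3 - c * R.two

theorem conj_d_pow_w (k : Fˣ) : R.w * R.d k * R.w = (R.d k)⁻¹ := by
  rw [R.w_mul_d, mul_assoc, R.w_mul_w, mul_one, R.d_inv]

theorem w_ne_one : R.w ≠ 1 := by
  intro h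
  apply R.w_ne 0 0 1
  rw [h, R.u_zero, R.d_one, one_mul]

/-- a subgroup containing the Borel subgroup and a further element is everything -/
theorem eq_top_of_le {H : Subgroup J} (hT : R.T ≤ H) (hD : R.D ≤ H) {g : J} (hg : g ∈ H)
    (hg' : g ∉ Subgroup.normalizer (R.T : Set J)) : H = ⊤ := by
  have hw : R.w ∈ H := by
    rcases R.bruhat g with ⟨a, b, k, h⟩ | ⟨a, b, c, e, k, h⟩
    · exact absurd (by rw [h]; exact R.ud_mem_normalizer a b k) hg'
    · have h1 : R.w = (R.u a b)⁻¹ * g * (R.u c e * R.d k)⁻¹ := by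
        rw [h]; group
      rw [h1]
      exact mul_mem (mul_mem (inv_mem (hT (R.u_mem _ _))) hg)
        (inv_mem (mul_mem (hT (R.u_mem _ _)) (hD (R.d_mem _))))
  rw [eq_top_iff]
  intro x _
  rcases R.bruhat x with ⟨a, b, k, h⟩ | ⟨a, b, c, e, k, h⟩
  · rw [h]
    exact mul_mem (hT (R.u_mem _ _)) (hD (R.d_mem _))
  · rw [h]
    exact mul_mem (mul_mem (hT (R.u_mem _ _)) hw) (mul_mem (hT (R.u_mem _ _)) (hD (R.d_mem _)))

/-- the centraliser of a torus element in the whole group -/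
theorem cent_d [Finite F] {k : Fˣ} (hk : k ≠ 1) {g : J} (hg : g * R.d k = R.d k * g) : g ∈ R.D := by
  rcases R.bruhat g with ⟨a, b, l, h⟩ | ⟨a, b, c, e, l, h⟩
  · -- g = u a b * d l
    have h1 : R.d k * R.u a b * (R.d k)⁻¹ = R.u a b := by
      have h2 : R.d k * g * (R.d k)⁻¹ = g := by rw [← hg]; group
      have h3 : R.d k * g * (R.d k)⁻¹ = R.d k * R.u a b * (R.d k)⁻¹ * R.d l := by
        rw [h]
        have : R.d k * R.d l = R.d l * R.d k := by rw [R.d_mul, R.d_mul, mul_comm]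
        calc R.d k * (R.u a b * R.d l) * (R.d k)⁻¹ = R.d k * R.u a b * (R.d k)⁻¹ * (R.d k * R.d l) * (R.d k)⁻¹ := by
              group
          _ = R.d k * R.u a b * (R.d k)⁻¹ * R.d l := by rw [this]; group
      rw [h3, h] at h2
      exact mul_right_cancel h2
    rcases R.fpf h1 with h2 | ⟨h2, h3⟩
    · exact absurd h2 hk
    · rw [h, h2, h3, R.u_zero, one_mul]
      exact R.d_mem l
  · -- g = u a b * w * (u c e * d l): impossible
    exfalso
    have hL : R.d k * g = R.u (a * k ^ 2 * (R.θ k)⁻¹) (b * R.θ k) * R.w *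
        (R.u (c * (k⁻¹ : Fˣ) ^ 2 * (R.θ (k⁻¹ : Fˣ))⁻¹) (e * R.θ (k⁻¹ : Fˣ)) * R.d (k⁻¹ * l)) := by
      have e1 : R.d k * R.w = R.w * R.d k⁻¹ := by rw [R.w_mul_d, inv_inv]
      calc R.d k * g = (R.d k * R.u a b) * R.w * (R.u c e * R.d l) := by rw [h]; group
        _ = R.u (a * k ^ 2 * (R.θ k)⁻¹) (b * R.θ k) * (R.d k * R.w) * (R.u c e * R.d l) := by
            rw [R.d_mul_u]; group
        _ = R.u (a * k ^ 2 * (R.θ k)⁻¹) (b * R.θ k) * R.w * ((R.d k⁻¹ * R.u c e) * R.d l) := by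
            rw [e1]; group
        _ = _ := by rw [R.d_mul_u, mul_assoc (R.u _ _) (R.d k⁻¹), R.d_mul]
    have hR : g * R.d k = R.u a b * R.w * (R.u c e * R.d (l * k)) := by
      rw [h, mul_assoc, mul_assoc (R.u c e), R.d_mul]
    rw [hL, hR] at hg
    set a' := a * k ^ 2 * (R.θ k)⁻¹
    set b' := b * R.θ k
    set c' := c * (k⁻¹ : Fˣ) ^ 2 * (R.θ (k⁻¹ : Fˣ))⁻¹
    set e' := e * R.θ (k⁻¹ : Fˣ)
    obtain ⟨p, q, hpq⟩ : ∃ p q, (R.u a' b')⁻¹ * R.u a b = R.u p q := by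
      have := mul_mem (inv_mem (R.u_mem a' b')) (R.u_mem a b)
      exact this
    have h6 : R.w * R.u p q * R.w = (R.u c' e' * R.d (k⁻¹ * l)) * (R.u c e * R.d (l * k))⁻¹ := by
      rw [← hpq, eq_mul_inv_iff_mul_eq]
      calc R.w * ((R.u a' b')⁻¹ * R.u a b) * R.w * (R.u c e * R.d (l * k))
          = R.w * (R.u a' b')⁻¹ * (R.u a b * R.w * (R.u c e * R.d (l * k))) := by group
        _ = R.w * (R.u a' b')⁻¹ * (R.u a' b' * R.w * (R.u c' e' * R.d (k⁻¹ * l))) := by rw [hg]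
        _ = (R.w * R.w) * (R.u c' e' * R.d (k⁻¹ * l)) := by group
        _ = R.u c' e' * R.d (k⁻¹ * l) := by rw [R.w_mul_w, one_mul]
    have h7 : ∃ x y m, (R.u c' e' * R.d (k⁻¹ * l)) * (R.u c e * R.d (l * k))⁻¹ = R.u x y * R.d m := by
      refine ⟨c' + c * (k⁻¹ * l * (l * k)⁻¹ : Fˣ) ^ 2 * (R.θ (k⁻¹ * l * (l * k)⁻¹ : Fˣ))⁻¹,
        e' + (e + c * R.θ c) * R.θ (k⁻¹ * l * (l * k)⁻¹ : Fˣ) +
          c' * R.θ (c * (k⁻¹ * l * (l * k)⁻¹ : Fˣ) ^ 2 * (R.θ (k⁻¹ * l * (l * k)⁻¹ : Fˣ))⁻¹),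
        k⁻¹ * l * (l * k)⁻¹, ?_⟩
      rw [_root_.mul_inv_rev, R.d_inv, R.u_inv]
      calc R.u c' e' * R.d (k⁻¹ * l) * (R.d (l * k)⁻¹ * R.u c (e + c * R.θ c))
          = R.u c' e' * ((R.d (k⁻¹ * l) * R.d (l * k)⁻¹) * R.u c (e + c * R.θ c)) := by group
        _ = R.u c' e' * (R.d (k⁻¹ * l * (l * k)⁻¹) * R.u c (e + c * R.θ c)) := by rw [R.d_mul]
        _ = _ := by rw [R.d_mul_u, ← mul_assoc, R.u_mul]
    obtain ⟨x, y, m, h8⟩ := h7
    rw [h8] at h6
    obtain ⟨rfl, rfl⟩ := R.inter _ _ _ _ _ h6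
    rw [R.u_zero] at hpq
    have h9 : R.u a b = R.u a' b' := (inv_mul_eq_one.mp hpq).symm
    rw [h9] at hg
    have h10 := mul_left_cancel hg
    have h11 := (R.ud_inj h10).2.2
    have h12 : k * k = 1 := by
      have : l * k = k⁻¹ * l := h11
      rw [mul_comm (k⁻¹) l] at this
      have := mul_left_cancel this
      exact eq_inv_iff_mul_eq_one.mp this
    apply hk
    have h13 : (k : F) ^ 2 ^ 1 = 1 := by
      have := congrArg Units.val h12
      rw [Units.val_mul, Units.val_one] at this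
      rw [pow_one, pow_two]; exact this
    exact Units.ext (by rw [Units.val_one]; exact pow_two_eq_one R h13)

/-- centralisers in `J` of nontrivial elements of `Z` are in `T` -/
theorem mem_T_of_comm_Z {z g : J} (hz : z ∈ R.Z) (hz1 : z ≠ 1) (h : g * z = z * g) : g ∈ R.T := by
  have hzT := R.Z_le_T hz
  have h1 : g * z * g⁻¹ = z := by rw [h]; group
  obtain ⟨a, b, k, rfl⟩ := R.exists_ud hzT hz1 (by rw [h1]; exact hzT)
  obtain ⟨c, rfl⟩ := hz
  have hc : c ≠ 0 := by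
    rintro rfl
    exact hz1 R.u_zero
  have h2 : (R.u a b * R.d k) * R.u 0 c * (R.u a b * R.d k)⁻¹ = R.u a b * (R.d k * R.u 0 c * (R.d k)⁻¹) * (R.u a b)⁻¹ := by
    group
  rw [h2, R.conj_d, R.conj_u] at h1
  have h3 := (R.u_inj h1).2
  have h4 : c * R.θ k = c := by
    simpa using h3
  have h5 : R.θ k = 1 := by
    apply mul_left_cancel₀ hc
    rw [h4, mul_one]
  have h6 : (k : F) = 1 := by
    apply R.θ.injective
    rw [h5, map_one]
  have h7 : k = 1 := Units.ext h6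
  rw [h7, R.d_one, mul_one]
  exact R.u_mem a b

/-- a nontrivial element of `T` has its centraliser in `T` -/
theorem mem_T_of_comm {x g : J} (hx : x ∈ R.T) (hx1 : x ≠ 1) (h : g * x = x * g) : g ∈ R.T := by
  by_cases hxx : x * x = 1
  · exact R.mem_T_of_comm_Z ((R.mem_Z_iff hx).2 hxx) hx1 h
  · refine R.mem_T_of_comm_Z (R.sq_mem_Z hx) hxx ?_
    rw [← mul_assoc, h, mul_assoc, h, mul_assoc]

include R in
theorem center_trivial {g : J} (h : ∀ x : J, g * x = x * g) : g = 1 := by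
  have h1 : g ∈ R.T := R.mem_T_of_comm_Z (R.u_zero_mem_Z 1) (R.u_ne_one one_ne_zero) (h _)
  by_contra hg
  have h2 := R.mem_T_of_comm h1 hg (h R.w).symm
  apply R.w_not_mem_normalizer
  obtain ⟨a, b, h3⟩ := h2
  rw [h3]
  have := R.ud_mem_normalizer a b 1
  rwa [R.d_one, mul_one] at this

theorem mul_theta_inj {a a' : F} (h : a * R.θ a = a' * R.θ a') : a = a' := by
  by_cases ha : a = 0
  · subst ha
    rw [zero_mul] at h
    rcases mul_eq_zero.mp h.symm with h1 | h1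
    · exact h1.symm
    · exact ((map_eq_zero R.θ).mp h1).symm
  · by_cases ha' : a' = 0
    · subst ha'
      rw [zero_mul] at h
      rcases mul_eq_zero.mp h with h1 | h1
      · exact h1
      · exact (map_eq_zero R.θ).mp h1
    · have ht : R.θ a' ≠ 0 := fun h' => ha' ((map_eq_zero R.θ).mp h')
      set c := a / a' with hc
      have hc0 : c ≠ 0 := div_ne_zero ha ha'
      have h1 : c * R.θ c = 1 := by
        rw [hc, map_div₀]
        field_simp
        exact h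
      have h2 : R.θ c * R.θ (R.θ c) = 1 := by
        rw [← map_mul, h1, map_one]
      rw [R.sq] at h2
      have h3 : c = 1 := by linear_combination (- c) * h1 + h2
      rw [hc, div_eq_one_iff_eq ha'] at h3
      exact h3

section aut

variable [Finite J] [Fintype F] {m : ℕ}

/-- an automorphism centralising `Z` is conjugation by an element of `T` -/
theorem aut_cent_Z (hm : 1 ≤ m) (hF : Fintype.card F = 2 ^ (2 * m + 1)) (φ : MulAut J)
    (hφ : ∀ z ∈ R.Z, φ z = z) : ∃ t ∈ R.T, φ = MulAut.conj t := by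
  have hpow : ∀ (ψ : MulAut J), (∀ z ∈ R.Z, ψ z = z) → ∀ n : ℕ, ∀ z ∈ R.Z, (ψ ^ n) z = z := by
    intro ψ hψ n
    induction n with
    | zero => intro z _; rfl
    | succ n ih =>
      intro z hz
      rw [pow_succ, MulAut.mul_apply, hψ z hz, ih z hz]
  -- split `φ`
  obtain ⟨n, q, hq, hn⟩ : ∃ n q : ℕ, Odd q ∧ orderOf φ = 2 ^ n * q := by
    have h0 : orderOf φ ≠ 0 := (orderOf_pos φ).ne'
    obtain ⟨n, q, hq, h⟩ := Nat.exists_eq_two_pow_mul_odd h0
    exact ⟨n, q, hq, h⟩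
  -- the odd part
  have key : ∀ γ : MulAut J, (∀ z ∈ R.Z, γ z = z) → Odd (orderOf γ) → γ = 1 := by
    intro γ hγ hodd
    refine R.cent hm hF γ hodd ?_
    have hT : ∀ x ∈ R.T, γ x ∈ R.T := by
      intro x hx
      refine R.mem_T_of_comm_Z (R.u_zero_mem_Z 1) (R.u_ne_one one_ne_zero) ?_
      have h1 := R.Z_central (R.u_zero_mem_Z 1) hx
      have h2 := congrArg γ h1
      rw [map_mul, map_mul, hγ _ (R.u_zero_mem_Z 1)] at h2
      exact h2.symm
    have hx : ∀ x ∈ R.T, ∃ z ∈ R.Z, γ x = x * z := by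
      intro x hx
      have h1 : γ x * γ x = x * x := by rw [← map_mul, hγ _ (R.sq_mem_Z hx)]
      obtain ⟨a, b, rfl⟩ := hx
      obtain ⟨c, e, h2⟩ := hT _ (R.u_mem a b)
      rw [h2, R.u_mul_self, R.u_mul_self] at h1
      have h3 := R.mul_theta_inj (R.u_inj h1).2
      refine ⟨(R.u a b)⁻¹ * R.u c e, ?_, by rw [h2, mul_inv_cancel_left]⟩
      rw [R.u_inv, R.u_mul, h3]
      refine ⟨_, congrArg₂ R.u ?_ rfl⟩
      exact R.add_self a
    intro x hxT
    obtain ⟨z, hz, h1⟩ := hx x hxT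
    have h2 : ∀ k : ℕ, (γ ^ k) x = x * z ^ k := by
      intro k
      induction k with
      | zero => simp
      | succ k ih =>
        rw [pow_succ', MulAut.mul_apply, ih, map_mul, h1, map_pow, hγ z hz, mul_assoc, ← pow_succ']
    have h3 := h2 (orderOf γ)
    rw [pow_orderOf_eq_one] at h3
    have h4 : z ^ orderOf γ = 1 := by
      have : x = x * z ^ orderOf γ := h3
      exact (mul_eq_left.mp this.symm)
    have h5 : z ^ 2 = 1 := by
      rw [pow_two]
      exact (R.mem_Z_iff (R.Z_le_T hz)).1 hz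
    have h6 : z = 1 := by
      have h7 : orderOf z ∣ 2 := orderOf_dvd_of_pow_eq_one h5
      have h8 : orderOf z ∣ orderOf γ := orderOf_dvd_of_pow_eq_one h4
      have h9 : Nat.Coprime 2 (orderOf γ) := (Nat.coprime_two_left).2 hodd
      have h10 : orderOf z ∣ 1 := by
        rw [← h9]
        exact Nat.dvd_gcd h7 h8
      exact orderOf_eq_one_iff.mp (Nat.dvd_one.mp h10)
    rw [h1, h6, mul_one]
  have hco : Nat.Coprime (2 ^ n) q := Nat.Coprime.pow_left n ((Nat.coprime_two_left).2 hq)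
  -- the 2-part: `φ ^ q` has order a power of two
  obtain ⟨j, hj⟩ := R.inner hm hF (φ ^ q) ⟨n, by rw [← pow_mul, mul_comm, ← hn, pow_orderOf_eq_one]⟩
  have hjT : j ∈ R.T := by
    refine R.mem_T_of_comm_Z (R.u_zero_mem_Z 1) (R.u_ne_one one_ne_zero) ?_
    have h1 := hpow φ hφ q _ (R.u_zero_mem_Z 1)
    rw [hj, MulAut.conj_apply] at h1
    exact mul_inv_eq_iff_eq_mul.mp h1
  have h1 : φ ^ (2 ^ n) = 1 := by
    refine key _ (hpow φ hφ _) ?_
    refine Odd.of_dvd_nat hq ?_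
    apply orderOf_dvd_of_pow_eq_one
    rw [← pow_mul, ← hn, pow_orderOf_eq_one]
  -- so `φ` has order a power of two and is a power of `φ ^ q`
  have h2 : orderOf φ ∣ 2 ^ n := orderOf_dvd_of_pow_eq_one h1
  obtain ⟨j', hj'⟩ := R.inner hm hF φ ⟨n, h1⟩
  refine ⟨j', ?_, hj'⟩
  refine R.mem_T_of_comm_Z (R.u_zero_mem_Z 1) (R.u_ne_one one_ne_zero) ?_
  have h3 := hφ _ (R.u_zero_mem_Z 1)
  rw [hj', MulAut.conj_apply] at h3
  exact mul_inv_eq_iff_eq_mul.mp h3

end aut

/-- two different Sylow 2-subgroups generate `J` (if `J` is simple) -/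
theorem sup_eq_top [IsSimpleGroup J] {H : Subgroup J} {g : J} (h1 : R.T ≤ H) (h2 : ∀ x ∈ R.T, g * x * g⁻¹ ∈ H)
    (hg : g ∉ Subgroup.normalizer (R.T : Set J)) : H = ⊤ := by
  -- `w T w ≤ H`
  have hw : ∀ x ∈ R.T, R.w * x * R.w ∈ H := by
    rcases R.bruhat g with ⟨a, b, k, h⟩ | ⟨a, b, c, e, k, h⟩
    · exact absurd (by rw [h]; exact R.ud_mem_normalizer a b k) hg
    · intro x hx
      have hn := R.ud_mem_normalizer c e k
      have hx' : (R.u c e * R.d k)⁻¹ * x * (R.u c e * R.d k) ∈ R.T := by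
        have := (Subgroup.mem_normalizer_iff.1 hn ((R.u c e * R.d k)⁻¹ * x * (R.u c e * R.d k))).2
        apply this
        have e1 : (R.u c e * R.d k) * ((R.u c e * R.d k)⁻¹ * x * (R.u c e * R.d k)) * (R.u c e * R.d k)⁻¹ = x := by
          group
        rw [e1]; exact hx
      have h3 := h2 _ hx'
      have h4 : R.w * x * R.w = (R.u a b)⁻¹ * (g * ((R.u c e * R.d k)⁻¹ * x * (R.u c e * R.d k)) * g⁻¹) * R.u a b := by
        rw [h]
        simp only [_root_.mul_inv_rev, R.w_inv]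
        group
      rw [h4]
      exact mul_mem (mul_mem (inv_mem (h1 (R.u_mem _ _))) h3) (h1 (R.u_mem _ _))
  -- the subgroup generated by the two
  let L : Subgroup J := Subgroup.closure {x | x ∈ R.T ∨ R.w * x * R.w ∈ R.T}
  have hLH : L ≤ H := by
    rw [Subgroup.closure_le]
    rintro x (hx | hx)
    · exact h1 hx
    · have := hw _ hx
      have e1 : R.w * (R.w * x * R.w) * R.w = x := by
        calc R.w * (R.w * x * R.w) * R.w = (R.w * R.w) * x * (R.w * R.w) := by group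
          _ = x := by rw [R.w_mul_w, one_mul, mul_one]
      rw [e1] at this
      exact this
  have hconj : ∀ y : J, (∀ x, (x ∈ R.T ∨ R.w * x * R.w ∈ R.T) → y * x * y⁻¹ ∈ L) → ∀ x ∈ L, y * x * y⁻¹ ∈ L := by
    intro y hy x hx
    induction hx using Subgroup.closure_induction with
    | mem x hx => exact hy x hx
    | one => simp
    | mul a b _ _ ha hb =>
      have : y * (a * b) * y⁻¹ = (y * a * y⁻¹) * (y * b * y⁻¹) := by group
      rw [this]; exact mul_mem ha hb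
    | inv a _ ha =>
      have : y * a⁻¹ * y⁻¹ = (y * a * y⁻¹)⁻¹ := by group
      rw [this]; exact inv_mem ha
  have hTL : ∀ x ∈ R.T, x ∈ L := fun x hx => Subgroup.subset_closure (Or.inl hx)
  have hwL : ∀ x ∈ R.T, R.w * x * R.w ∈ L := by
    intro x hx
    refine Subgroup.subset_closure (Or.inr ?_)
    have e1 : R.w * (R.w * x * R.w) * R.w = x := by
      calc R.w * (R.w * x * R.w) * R.w = (R.w * R.w) * x * (R.w * R.w) := by group
        _ = x := by rw [R.w_mul_w, one_mul, mul_one]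
    rw [e1]; exact hx
  have hTn : ∀ y ∈ R.T, ∀ x ∈ L, y * x * y⁻¹ ∈ L := fun y hy x hx =>
    mul_mem (mul_mem (hTL y hy) hx) (inv_mem (hTL y hy))
  have hwn : ∀ x ∈ L, R.w * x * (R.w)⁻¹ ∈ L := by
    refine hconj R.w ?_
    rintro x (hx | hx)
    · rw [R.w_inv]; exact hwL x hx
    · rw [R.w_inv]; exact hTL _ hx
  have hdn : ∀ k, ∀ x ∈ L, R.d k * x * (R.d k)⁻¹ ∈ L := by
    intro k
    refine hconj _ ?_
    rintro x (hx | hx)
    · refine hTL _ ?_
      exact (Subgroup.mem_normalizer_iff.1 (R.D_le (R.d_mem k)) _).1 hx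
    · refine Subgroup.subset_closure (Or.inr ?_)
      have e1 : R.w * (R.d k * x * (R.d k)⁻¹) * R.w = R.d k⁻¹ * (R.w * x * R.w) * (R.d k⁻¹)⁻¹ := by
        have e2 : R.w * R.d k = R.d k⁻¹ * R.w := R.w_mul_d k
        have e3 : (R.d k)⁻¹ * R.w = R.w * (R.d k⁻¹)⁻¹ := by
          rw [R.d_inv, R.d_inv, inv_inv, R.w_mul_d]
        calc R.w * (R.d k * x * (R.d k)⁻¹) * R.w = (R.w * R.d k) * x * ((R.d k)⁻¹ * R.w) := by group
          _ = _ := by rw [e2, e3]; group
      rw [e1]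
      exact (Subgroup.mem_normalizer_iff.1 (R.D_le (R.d_mem k⁻¹)) _).1 hx
  have hLn : L.Normal := by
    refine ⟨fun x hx g => ?_⟩
    rcases R.bruhat g with ⟨a, b, k, h⟩ | ⟨a, b, c, e, k, h⟩
    · have : g * x * g⁻¹ = R.u a b * (R.d k * x * (R.d k)⁻¹) * (R.u a b)⁻¹ := by rw [h]; group
      rw [this]
      exact hTn _ (R.u_mem _ _) _ (hdn _ _ hx)
    · have : g * x * g⁻¹ = R.u a b * (R.w * (R.u c e * (R.d k * x * (R.d k)⁻¹) * (R.u c e)⁻¹) * (R.w)⁻¹) * (R.u a b)⁻¹ := by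
        rw [h]; group
      rw [this]
      exact hTn _ (R.u_mem _ _) _ (hwn _ (hTn _ (R.u_mem _ _) _ (hdn _ _ hx)))
  rcases hLn.eq_bot_or_eq_top with h | h
  · exfalso
    have h3 : R.u 0 1 ∈ L := hTL _ (R.u_mem 0 1)
    rw [h, Subgroup.mem_bot] at h3
    exact R.u_ne_one one_ne_zero h3
  · rw [eq_top_iff, ← h]
    exact hLH

end Rel

end Cfsg.Agent.ThreePrime.SzRel
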