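import Mathlib
import Cfsg.Agent.S0215
import Cfsg.Agent.PermutationGroups.OddKlein

/-!
# Standard subgroups whose centralizer is not fused into `N(A) - C(A)`

`A` is simple, `K = C_G(A)` is tightly embedded with `N_G(K) = N_G(A) = M`, and no involution of `K` is
conjugate to an element of `M - K`. If the involutions of the Sylow subgroup `S` of `A` are central in
`S` and centralizers of involutions in `A` are 2-groups, then `A` is normal in `G`.
-/

set_option autoImplicit false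
set_option linter.unusedSectionVars false
set_option linter.style.haveILetI false

namespace Cfsg.Agent.RuRed.SC

open Subgroup

variable {G : Type*} [Group G]

/-- The situation: `R`, `S` are Sylow 2-subgroups of `K = C_G(A)` and of `A`, and every 2-subgroup of
`M = N_G(A)` is conjugate in `M` into `R ⊔ S`. -/
structure Ctx (A S R : Subgroup G) : Prop where
  simple : ∀ N : Subgroup G, N ≤ A → N ≠ ⊥ → A ≤ normalizer (N : Set G) → N = A
  tight : ∀ g t : G, t ∈ centralizer (A : Set G) → orderOf t = 2 →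
    g * t * g⁻¹ ∈ centralizer (A : Set G) → g ∈ normalizer (A : Set G)
  inf : ∀ x ∈ A, x ∈ centralizer (A : Set G) → x = 1
  S_le : S ≤ A
  R_le : R ≤ centralizer (A : Set G)
  R_ne : R ≠ ⊥
  S_ne : S ≠ ⊥
  two : IsPGroup 2 (R ⊔ S : Subgroup G)
  syl : ∀ Q : Subgroup G, Q ≤ normalizer (A : Set G) → IsPGroup 2 Q →
    ∃ m ∈ normalizer (A : Set G), ∀ q ∈ Q, m * q * m⁻¹ ∈ R ⊔ S
  central : ∀ z ∈ S, z * z = 1 → ∀ s ∈ S, z * s = s * z
  centA : ∀ z ∈ S, orderOf z = 2 → ∀ c ∈ A, c * z = z * c → c ∈ S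
  centM : ∀ c ∈ normalizer (A : Set G), (∀ s ∈ S, c * s = s * c) → Odd (orderOf c) →
    c ∈ centralizer (A : Set G)

theorem sq_one {t : G} (ht : orderOf t = 2) : t * t = 1 := by
  have := pow_orderOf_eq_one t
  rwa [ht, pow_two] at this

theorem inv_self {t : G} (ht : orderOf t = 2) : t⁻¹ = t := inv_eq_of_mul_eq_one_right (sq_one ht)

theorem ne_one {t : G} (ht : orderOf t = 2) : t ≠ 1 := by
  rintro rfl
  rw [orderOf_one] at ht
  exact absurd ht (by decide)

theorem order_two {t : G} (h : t * t = 1) (h1 : t ≠ 1) : orderOf t = 2 :=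
  orderOf_eq_prime (by rw [pow_two]; exact h) h1

theorem orderOf_conj' (g a : G) : orderOf (g * a * g⁻¹) = orderOf a := by
  have := orderOf_injective (MulAut.conj g).toMonoidHom (MulAut.conj g).injective a
  simpa using this

/-- A 2-subgroup of `H` is conjugate in `H` into a Sylow subgroup of `G` contained in `H`. -/
theorem exists_conj_le [Finite G] {p : ℕ} [Fact p.Prime] {H : Subgroup G} (P : Sylow p G)
    (hP : (P : Subgroup G) ≤ H) {Q : Subgroup G} (hQH : Q ≤ H) (hQ : IsPGroup p Q) :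
    ∃ c ∈ H, ∀ q ∈ Q, c * q * c⁻¹ ∈ P := by
  have h1 : IsPGroup p (Q.subgroupOf H) := hQ.of_injective (Subgroup.subgroupOfEquivOfLe hQH).toMonoidHom
    (Subgroup.subgroupOfEquivOfLe hQH).injective
  obtain ⟨Q', hQ'⟩ := h1.exists_le_sylow
  obtain ⟨c, hc⟩ := MulAction.exists_smul_eq H Q' (P.subtype hP)
  refine ⟨c, c.2, fun q hq => ?_⟩
  have h2 : (⟨q, hQH hq⟩ : H) ∈ Q' := hQ' (Subgroup.mem_subgroupOf.2 hq)
  have h3 : c * ⟨q, hQH hq⟩ * c⁻¹ ∈ P.subtype hP := by
    rw [← hc]
    exact ⟨_, h2, rfl⟩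
  exact h3

/-- A 2-subgroup is conjugate into a Sylow subgroup. -/
theorem exists_conj_le' [Finite G] {p : ℕ} [Fact p.Prime] (P : Sylow p G) {Q : Subgroup G}
    (hQ : IsPGroup p Q) : ∃ c : G, ∀ q ∈ Q, c * q * c⁻¹ ∈ P := by
  obtain ⟨c, -, hc⟩ := exists_conj_le P (le_top : (P : Subgroup G) ≤ ⊤) (le_top : Q ≤ ⊤) hQ
  exact ⟨c, hc⟩

/-- Two involutions: `w = z t`, `w ^ (2 k + 1)` of 2-power order. Then the conjugate `w ^ (2 k + 1) t` of `z`
generates together with `t` a 2-group. -/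
theorem dihedral_two [Finite G] {z t : G} (hz : z * z = 1) (ht : t * t = 1) :
    ∃ k a : ℕ, ((z * t) ^ (2 * k + 1)) ^ (2 ^ a) = 1 ∧
      ((z * t) ^ k) * z * ((z * t) ^ k)⁻¹ = (z * t) ^ (2 * k + 1) * t ∧
      z * (z * t) ^ (2 * k + 1) * z⁻¹ = ((z * t) ^ (2 * k + 1))⁻¹ ∧
      IsPGroup 2 (closure {t, (z * t) ^ (2 * k + 1) * t} : Subgroup G) := by
  set w := z * t with hw
  have hzi : z⁻¹ = z := inv_eq_of_mul_eq_one_right hz
  have hti : t⁻¹ = t := inv_eq_of_mul_eq_one_right ht
  have hzw : z * w * z⁻¹ = w⁻¹ := by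
    rw [hw, mul_inv_rev, hzi, hti, ← mul_assoc, hz, one_mul]
  have htw : t * w * t⁻¹ = w⁻¹ := by
    rw [hw, mul_inv_rev, hzi, hti]
    calc t * (z * t) * t = t * z * (t * t) := by group
      _ = _ := by rw [ht, mul_one]
  obtain ⟨a, o, ho, hn⟩ : ∃ a o : ℕ, ¬ 2 ∣ o ∧ orderOf w = 2 ^ a * o :=
    Nat.exists_eq_pow_mul_and_not_dvd (orderOf_pos w).ne' 2 (by decide)
  obtain ⟨k, hk⟩ : ∃ k, o = 2 * k + 1 := by
    have : Odd o := by rwa [← Nat.not_even_iff_odd, even_iff_two_dvd]
    exact this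
  have hpw : ∀ n : ℕ, z * w ^ n * z⁻¹ = (w ^ n)⁻¹ := by
    intro n
    have := conj_pow (i := n) (a := z) (b := w)
    rw [← this, hzw, inv_pow]
  have hptw : ∀ n : ℕ, t * w ^ n * t⁻¹ = (w ^ n)⁻¹ := by
    intro n
    have := conj_pow (i := n) (a := t) (b := w)
    rw [← this, htw, inv_pow]
  have hu : (w ^ (2 * k + 1)) ^ 2 ^ a = 1 := by
    rw [← pow_mul, ← hk, mul_comm, ← hn, pow_orderOf_eq_one]
  refine ⟨k, a, hu, ?_, hpw _, ?_⟩
  · have h1 : z = w * t := by rw [hw, mul_assoc, ht, mul_one]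
    have h2 : t * (w ^ k)⁻¹ = w ^ k * t := by
      have := hptw k
      rw [← this]
      calc t * (t * w ^ k * t⁻¹) = (t * t) * w ^ k * t⁻¹ := by group
        _ = w ^ k * t := by rw [ht, hti, one_mul]
    calc w ^ k * z * (w ^ k)⁻¹ = w ^ k * (w * t) * (w ^ k)⁻¹ := by rw [← h1]
      _ = w ^ k * w * (t * (w ^ k)⁻¹) := by group
      _ = w ^ k * w * (w ^ k * t) := by rw [h2]
      _ = w ^ (k + 1 + k) * t := by rw [pow_add, pow_succ]; group
      _ = _ := by congr 2; ring
  · have h1 : IsPGroup 2 (zpowers (w ^ (2 * k + 1))) := by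
      rw [IsPGroup.iff_card]
      rw [Nat.card_zpowers]
      exact (Nat.dvd_prime_pow Nat.prime_two).1 (orderOf_dvd_of_pow_eq_one hu) |>.imp fun n hn => hn.2
    have h2 : IsPGroup 2 (zpowers t) := by
      rw [IsPGroup.iff_card]
      rw [Nat.card_zpowers]
      have : orderOf t ∣ 2 ^ 1 := orderOf_dvd_of_pow_eq_one (by rw [pow_one, pow_two, ht])
      exact (Nat.dvd_prime_pow Nat.prime_two).1 this |>.imp fun n hn => hn.2
    have h3 : zpowers t ≤ normalizer (zpowers (w ^ (2 * k + 1)) : Set G) := by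
      rw [zpowers_le]
      have h4 : ∀ x ∈ zpowers (w ^ (2 * k + 1)), t * x * t⁻¹ ∈ zpowers (w ^ (2 * k + 1)) := by
        intro x hx
        obtain ⟨n, rfl⟩ := mem_zpowers_iff.1 hx
        have := conj_zpow (i := n) (a := t) (b := w ^ (2 * k + 1))
        rw [← this, hptw, inv_zpow]
        exact inv_mem (zpow_mem (mem_zpowers _) _)
      rw [mem_normalizer_iff]
      intro x
      refine ⟨h4 x, fun hx => ?_⟩
      have := h4 _ hx
      rw [hti] at this
      have h5 : t * (t * x * t) * t = x := by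
        calc t * (t * x * t) * t = (t * t) * x * (t * t) := by group
          _ = x := by rw [ht]; group
      rwa [h5] at this
    have h4 := IsPGroup.to_sup_of_normal_right' h2 h1 h3
    refine h4.to_le ?_
    rw [closure_le]
    rintro x (rfl | rfl)
    · exact mem_sup_left (mem_zpowers _)
    · exact mul_mem (mem_sup_right (mem_zpowers _)) (mem_sup_left (mem_zpowers _))

namespace Ctx

variable {A S R : Subgroup G} (C : Ctx A S R)
include C

theorem T_le : R ⊔ S ≤ normalizer (A : Set G) :=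
  sup_le (C.R_le.trans (centralizer_le_normalizer _)) (C.S_le.trans le_normalizer)

theorem comm {r s : G} (hr : r ∈ centralizer (A : Set G)) (hs : s ∈ A) : r * s = s * r :=
  (mem_centralizer_iff.1 hr s hs).symm

theorem mem_T {x : G} (hx : x ∈ R ⊔ S) : ∃ r ∈ R, ∃ s ∈ S, x = r * s := by
  have h : ∀ x ∈ R ⊔ S, ∃ r ∈ R, ∃ s ∈ S, x = r * s := by
    intro x hx
    rw [sup_eq_closure_mul] at hx
    induction hx using closure_induction with
    | mem x hx =>
      obtain ⟨r, hr, s, hs, rfl⟩ := hx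
      exact ⟨r, hr, s, hs, rfl⟩
    | one => exact ⟨1, one_mem _, 1, one_mem _, by simp⟩
    | mul x y _ _ hx hy =>
      obtain ⟨r, hr, s, hs, rfl⟩ := hx
      obtain ⟨r', hr', s', hs', rfl⟩ := hy
      refine ⟨r * r', mul_mem hr hr', s * s', mul_mem hs hs', ?_⟩
      have := C.comm (C.R_le hr') (C.S_le hs)
      calc r * s * (r' * s') = r * (s * r') * s' := by group
        _ = r * (r' * s) * s' := by rw [this]
        _ = _ := by group
    | inv x _ hx =>
      obtain ⟨r, hr, s, hs, rfl⟩ := hx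
      refine ⟨r⁻¹, inv_mem hr, s⁻¹, inv_mem hs, ?_⟩
      rw [mul_inv_rev]
      exact (C.comm (inv_mem (C.R_le hr)) (inv_mem (C.S_le hs))).symm
  exact h x hx

theorem mem_S_of {x : G} (hx : x ∈ R ⊔ S) (hA : x ∈ A) : x ∈ S := by
  obtain ⟨r, hr, s, hs, rfl⟩ := C.mem_T hx
  have h1 : r ∈ A := by
    have := mul_mem hA (inv_mem (C.S_le hs))
    rwa [mul_inv_cancel_right] at this
  rw [C.inf r h1 (C.R_le hr), one_mul]
  exact hs

theorem mem_R_of {x : G} (hx : x ∈ R ⊔ S) (hK : x ∈ centralizer (A : Set G)) : x ∈ R := by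
  obtain ⟨r, hr, s, hs, rfl⟩ := C.mem_T hx
  have h1 : s ∈ centralizer (A : Set G) := by
    have := mul_mem (inv_mem (C.R_le hr)) hK
    rwa [inv_mul_cancel_left] at this
  rw [C.inf s (C.S_le hs) h1, mul_one]
  exact hr

theorem conj_A {m x : G} (hm : m ∈ normalizer (A : Set G)) (hx : x ∈ A) : m * x * m⁻¹ ∈ A :=
  (mem_normalizer_iff.1 hm x).1 hx

theorem conj_A_iff {m x : G} (hm : m ∈ normalizer (A : Set G)) : x ∈ A ↔ m * x * m⁻¹ ∈ A :=
  mem_normalizer_iff.1 hm x

theorem conj_K {m x : G} (hm : m ∈ normalizer (A : Set G)) (hx : x ∈ centralizer (A : Set G)) :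
    m * x * m⁻¹ ∈ centralizer (A : Set G) := by
  rw [mem_centralizer_iff] at hx ⊢
  intro a ha
  have h1 : m⁻¹ * a * m ∈ A := by
    have := C.conj_A (inv_mem hm) ha
    rwa [inv_inv] at this
  have h2 := hx _ h1
  calc a * (m * x * m⁻¹) = m * ((m⁻¹ * a * m) * x) * m⁻¹ := by group
    _ = m * (x * (m⁻¹ * a * m)) * m⁻¹ := by rw [h2]
    _ = _ := by group

theorem conj_K_iff {m x : G} (hm : m ∈ normalizer (A : Set G)) :
    x ∈ centralizer (A : Set G) ↔ m * x * m⁻¹ ∈ centralizer (A : Set G) := by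
  refine ⟨C.conj_K hm, fun h => ?_⟩
  have := C.conj_K (inv_mem hm) h
  have h2 : m⁻¹ * (m * x * m⁻¹) * m⁻¹⁻¹ = x := by group
  rwa [h2] at this

/-- Centralizers of involutions of `K` lie in `M`. -/
theorem mem_M_of_comm {t g : G} (ht : t ∈ centralizer (A : Set G)) (h2 : orderOf t = 2)
    (h : g * t = t * g) : g ∈ normalizer (A : Set G) := by
  refine C.tight g t ht h2 ?_
  rw [h, mul_inv_cancel_right]
  exact ht

variable [Finite G]

theorem eq_T {Q : Subgroup G} (hQ : Q ≤ normalizer (A : Set G)) (h2 : IsPGroup 2 Q) (hT : R ⊔ S ≤ Q) :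
    Q = R ⊔ S := by
  obtain ⟨m, -, hm⟩ := C.syl Q hQ h2
  refine (eq_of_le_of_card_ge hT ?_).symm
  have h : Q.map (MulAut.conj m).toMonoidHom ≤ R ⊔ S := by
    rintro _ ⟨q, hq, rfl⟩
    exact hm q hq
  have h1 := card_le_of_le h
  rwa [Nat.card_congr (Q.equivMapOfInjective _ (MulAut.conj m).injective).toEquiv.symm] at h1

/-- There is an involution in `R` central in `R ⊔ S`. -/
theorem exists_t0 : ∃ t ∈ R, orderOf t = 2 ∧ ∀ x ∈ R ⊔ S, x * t = t * x := by
  have hR : IsPGroup 2 R := C.two.to_le le_sup_left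
  haveI : Nontrivial R := (nontrivial_iff_ne_bot R).2 C.R_ne
  haveI : Nontrivial (center R) := hR.center_nontrivial
  have h2 : IsPGroup 2 (center R) := hR.to_subgroup _
  obtain ⟨n, hn0, hn⟩ := (h2.nontrivial_iff_card).1 inferInstance
  have hdvd : 2 ∣ Nat.card (center R) := by
    rw [hn]
    exact dvd_pow_self 2 (by omega)
  obtain ⟨⟨⟨t, htR⟩, htc⟩, ht⟩ := exists_prime_orderOf_dvd_card' (G := center R) 2 hdvd
  have ht' : orderOf t = 2 := by
    rw [← ht, ← Subgroup.orderOf_coe, ← Subgroup.orderOf_coe]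
  refine ⟨t, htR, ht', fun x hx => ?_⟩
  obtain ⟨r, hr, s, hs, rfl⟩ := C.mem_T hx
  have h3 : r * t = t * r := by
    have := mem_center_iff.1 htc ⟨r, hr⟩
    exact congrArg Subtype.val this
  have h4 := C.comm (C.R_le htR) (C.S_le hs)
  calc r * s * t = r * (s * t) := by group
    _ = (r * t) * s := by rw [← h4]; group
    _ = t * (r * s) := by rw [h3]; group

section SC

variable (hSC : ∀ g t : G, t ∈ centralizer (A : Set G) → orderOf t = 2 →
  g * t * g⁻¹ ∈ normalizer (A : Set G) → g * t * g⁻¹ ∈ centralizer (A : Set G))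
include hSC

theorem mem_M_of_conj {g t : G} (ht : t ∈ centralizer (A : Set G)) (h2 : orderOf t = 2)
    (h : g * t * g⁻¹ ∈ normalizer (A : Set G)) : g ∈ normalizer (A : Set G) :=
  C.tight g t ht h2 (hSC g t ht h2 h)

theorem isSylow : ∃ P : Sylow 2 G, (P : Subgroup G) = R ⊔ S := by
  obtain ⟨t, htR, ht, htc⟩ := C.exists_t0
  obtain ⟨P, hP⟩ := C.two.exists_le_sylow
  refine ⟨P, ?_⟩
  by_contra hne
  have hlt : (R ⊔ S).subgroupOf (P : Subgroup G) < ⊤ := by
    rw [lt_top_iff_ne_top]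
    intro h
    exact hne (le_antisymm (subgroupOf_eq_top.1 h) hP)
  haveI : Group.IsNilpotent P := P.isPGroup'.isNilpotent
  have h1 := Group.normalizerCondition_of_isNilpotent (G := P) _ hlt
  obtain ⟨⟨x, hxP⟩, hx1, hx2⟩ := SetLike.exists_of_lt h1
  rw [mem_subgroupOf] at hx2
  have hnorm : ∀ y ∈ R ⊔ S, x * y * x⁻¹ ∈ R ⊔ S := by
    intro y hy
    have h3 := (mem_normalizer_iff.1 hx1 ⟨y, hP hy⟩).1 (mem_subgroupOf.2 hy)
    exact mem_subgroupOf.1 h3
  have hxM : x ∈ normalizer (A : Set G) :=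
    C.mem_M_of_conj hSC (C.R_le htR) ht (C.T_le (hnorm t (mem_sup_left htR)))
  have h2 : (R ⊔ S) ⊔ zpowers x = R ⊔ S := by
    refine C.eq_T (sup_le C.T_le ((zpowers_le).2 hxM)) ?_ le_sup_left
    exact P.isPGroup'.to_le (sup_le hP (by rwa [zpowers_le]))
  apply hx2
  change x ∈ R ⊔ S
  rw [← h2]
  exact mem_sup_right (mem_zpowers x)

/-- `z`-type elements of `T` lie in `A`. -/
theorem mem_A_of_T {g z : G} (hz : z ∈ S) (h2 : orderOf z = 2) (h : g * z * g⁻¹ ∈ R ⊔ S) :
    g * z * g⁻¹ ∈ A := by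
  obtain ⟨t, htR, ht, htc⟩ := C.exists_t0
  obtain ⟨P, hP⟩ := C.isSylow hSC
  set y := g * z * g⁻¹ with hy
  -- the conjugate Sylow subgroup
  have hzT : ∀ x ∈ R ⊔ S, x * z = z * x := by
    intro x hx
    obtain ⟨r, hr, s, hs, rfl⟩ := C.mem_T hx
    have h3 := C.comm (C.R_le hr) (C.S_le hz)
    have h4 := C.central z hz (sq_one h2) s hs
    calc r * s * z = r * (s * z) := by group
      _ = (r * z) * s := by rw [← h4]; group
      _ = z * (r * s) := by rw [h3]; group
  have hle : ((g • P : Sylow 2 G) : Subgroup G) ≤ centralizer ({y} : Set G) := by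
    rintro _ ⟨x, hx, rfl⟩
    rw [mem_centralizer_singleton_iff]
    change g * x * g⁻¹ * y = y * (g * x * g⁻¹)
    have hx' : x ∈ R ⊔ S := by
      rw [← hP]; exact hx
    have := hzT x hx'
    rw [hy]
    calc g * x * g⁻¹ * (g * z * g⁻¹) = g * (x * z) * g⁻¹ := by group
      _ = g * (z * x) * g⁻¹ := by rw [this]
      _ = _ := by group
  have hQ : IsPGroup 2 (centralizer ({y} : Set G) ⊓ (R ⊔ S) : Subgroup G) := C.two.to_le inf_le_right
  obtain ⟨c, hc, hcQ⟩ := exists_conj_le (g • P) hle inf_le_left hQ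
  have htQ : t ∈ centralizer ({y} : Set G) ⊓ (R ⊔ S) := by
    refine mem_inf.2 ⟨?_, mem_sup_left htR⟩
    rw [mem_centralizer_singleton_iff]
    exact (htc y h).symm
  obtain ⟨x, hx, hxe⟩ := hcQ t htQ
  have hx' : x ∈ R ⊔ S := by
    rw [← hP]; exact hx
  have hxe' : g * x * g⁻¹ = c * t * c⁻¹ := hxe
  -- `h⁻¹ = g⁻¹ c` conjugates `t` into `T`
  have h5 : (g⁻¹ * c) * t * (g⁻¹ * c)⁻¹ = x := by
    calc (g⁻¹ * c) * t * (g⁻¹ * c)⁻¹ = g⁻¹ * (c * t * c⁻¹) * g := by group
      _ = x := by rw [← hxe']; group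
  have h6 : g⁻¹ * c ∈ normalizer (A : Set G) :=
    C.mem_M_of_conj hSC (C.R_le htR) ht (by rw [h5]; exact C.T_le hx')
  have h7 : c * y = y * c := mem_centralizer_singleton_iff.1 hc
  have h8 : y = (g⁻¹ * c)⁻¹ * z * (g⁻¹ * c)⁻¹⁻¹ := by
    calc y = c⁻¹ * (c * y) := by group
      _ = c⁻¹ * y * c := by rw [h7]; group
      _ = _ := by rw [hy]; group
  rw [h8]
  exact C.conj_A (inv_mem h6) (C.S_le hz)

theorem mem_A_of_M {g z : G} (hz : z ∈ S) (h2 : orderOf z = 2)
    (h : g * z * g⁻¹ ∈ normalizer (A : Set G)) : g * z * g⁻¹ ∈ A := by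
  have h1 : IsPGroup 2 (zpowers (g * z * g⁻¹)) := by
    rw [IsPGroup.iff_card, Nat.card_zpowers, orderOf_conj', h2]
    exact ⟨1, rfl⟩
  obtain ⟨m, hm, hmq⟩ := C.syl _ ((zpowers_le).2 h) h1
  have h3 := hmq _ (mem_zpowers _)
  have h4 : m * (g * z * g⁻¹) * m⁻¹ = (m * g) * z * (m * g)⁻¹ := by group
  rw [h4] at h3
  have h5 := C.mem_A_of_T hSC hz h2 h3
  rw [← h4] at h5
  exact (C.conj_A_iff hm).2 h5

/-- a 2-subgroup is conjugate into `T` -/
theorem conj_into_T {Q : Subgroup G} (hQ : IsPGroup 2 Q) : ∃ c : G, ∀ q ∈ Q, c * q * c⁻¹ ∈ R ⊔ S := by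
  obtain ⟨P, hP⟩ := C.isSylow hSC
  obtain ⟨c, hc⟩ := exists_conj_le' P hQ
  refine ⟨c, fun q hq => ?_⟩
  have := hc q hq
  rw [← hP]
  exact this

/-- The centralizer of `t z` lies in `M`, `z ∈ S`. -/
theorem centralizer_mixed_le {t t' z : G} (ht : t ∈ centralizer (A : Set G)) (ht2 : orderOf t = 2)
    (ht' : t' ∈ centralizer (A : Set G)) (ht2' : orderOf t' = 2) (htt : t * t' = t' * t)
    (hne : t ≠ t') (hz : z ∈ S) (hz2 : orderOf z = 2) :
    centralizer ({t * z} : Set G) ≤ normalizer (A : Set G) := by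
  classical
  have hzA : z ∈ A := C.S_le hz
  have htz : t * z = z * t := C.comm ht hzA
  obtain ⟨j, hj⟩ : ∃ j, j = t * z := ⟨_, rfl⟩
  rw [← hj]
  have hjj : j * j = 1 := by
    rw [hj]
    calc t * z * (t * z) = t * (z * t) * z := by group
      _ = (t * t) * (z * z) := by rw [← htz]; group
      _ = 1 := by rw [sq_one ht2, sq_one hz2, one_mul]
  set X := centralizer ({j} : Set G) with hX
  have htX : t ∈ X := by
    rw [hX, mem_centralizer_singleton_iff, hj]
    calc t * (t * z) = t * (z * t) := by rw [htz]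
      _ = _ := by group
  have hjX : j ∈ X := by
    rw [hX, mem_centralizer_singleton_iff]
  have hzj : z = t * j := by rw [hj, ← mul_assoc, sq_one ht2, one_mul]
  let u : X := ⟨t, htX⟩
  have hu : orderOf u = 2 := by rw [← Subgroup.orderOf_coe]; exact ht2
  -- a Sylow subgroup of `X` containing `t`
  have hup : IsPGroup 2 (zpowers u) := by
    rw [IsPGroup.iff_card, Nat.card_zpowers, hu]
    exact ⟨1, rfl⟩
  obtain ⟨P, hP⟩ := hup.exists_le_sylow
  have huP : u ∈ P := hP (mem_zpowers u)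
  -- `j ∈ P`
  let j' : X := ⟨j, hjX⟩
  have hjc : ∀ x : X, x * j' = j' * x := by
    intro x
    apply Subtype.ext
    exact mem_centralizer_singleton_iff.1 x.2
  have hjP : j' ∈ P := by
    have h1 : IsPGroup 2 (zpowers j') := by
      rw [IsPGroup.iff_card, Nat.card_zpowers]
      have : orderOf j' ∣ 2 ^ 1 := orderOf_dvd_of_pow_eq_one (by
        rw [pow_one, pow_two]
        exact Subtype.ext hjj)
      exact (Nat.dvd_prime_pow Nat.prime_two).1 this |>.imp fun n hn => hn.2
    have h2 : (P : Subgroup X) ≤ normalizer (zpowers j' : Set X) := by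
      intro x _
      rw [mem_normalizer_iff]
      intro y
      have key : ∀ x : X, ∀ y ∈ zpowers j', x * y * x⁻¹ = y := by
        intro x y hy
        obtain ⟨n, rfl⟩ := mem_zpowers_iff.1 hy
        have := conj_zpow (i := n) (a := x) (b := j')
        rw [← this, hjc, mul_inv_cancel_right]
      constructor
      · intro hy
        rw [key x y hy]
        exact hy
      · intro hy
        have := key x⁻¹ _ hy
        have h3 : x⁻¹ * (x * y * x⁻¹) * x⁻¹⁻¹ = y := by group
        rw [h3] at this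
        rw [this]
        exact hy
    have h3 := IsPGroup.to_sup_of_normal_right' P.isPGroup' h1 h2
    have h4 := P.is_maximal' h3 le_sup_left
    have h5 : j' ∈ ((P : Subgroup X) ⊔ zpowers j' : Subgroup X) := mem_sup_right (mem_zpowers _)
    rw [h4] at h5
    exact h5
  -- `u` is isolated in `P`
  have hiso : ∀ g : X, g * u * g⁻¹ ∈ P → g * u * g⁻¹ = u := by
    intro x hx
    have hPG : IsPGroup 2 ((P : Subgroup X).map X.subtype) := P.isPGroup'.map _
    obtain ⟨h, hh⟩ := C.conj_into_T hSC hPG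
    have e1 : h * t * h⁻¹ ∈ R ⊔ S := hh t ⟨u, huP, rfl⟩
    have e2 : h * ((x : G) * t * (x : G)⁻¹) * h⁻¹ ∈ R ⊔ S := hh _ ⟨_, hx, rfl⟩
    have e3 : h * z * h⁻¹ ∈ R ⊔ S := by
      refine hh z ⟨u * j', mul_mem huP hjP, ?_⟩
      exact hzj.symm
    have e4 : h * ((x : G) * z * (x : G)⁻¹) * h⁻¹ ∈ R ⊔ S := by
      refine hh _ ⟨(x * u * x⁻¹) * j', mul_mem hx hjP, ?_⟩
      change (x : G) * t * (x : G)⁻¹ * j = _
      have h5 : (x : G) * j = j * x := mem_centralizer_singleton_iff.1 x.2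
      have h6 : (x : G)⁻¹ * j = j * (x : G)⁻¹ := mem_centralizer_singleton_iff.1 (inv_mem x.2)
      rw [hzj]
      calc (x : G) * t * (x : G)⁻¹ * j = x * t * ((x : G)⁻¹ * j) := by group
        _ = x * t * (j * (x : G)⁻¹) := by rw [h6]
        _ = _ := by group
    have f1 : h * t * h⁻¹ ∈ centralizer (A : Set G) := hSC h t ht ht2 (C.T_le e1)
    have f2 : h * ((x : G) * t * (x : G)⁻¹) * h⁻¹ ∈ centralizer (A : Set G) := by
      have h7 : h * ((x : G) * t * (x : G)⁻¹) * h⁻¹ = (h * x) * t * (h * x)⁻¹ := by group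
      rw [h7] at e2 ⊢
      exact hSC _ t ht ht2 (C.T_le e2)
    have f3 : h * z * h⁻¹ ∈ A := C.mem_A_of_T hSC hz hz2 e3
    have f4 : h * ((x : G) * z * (x : G)⁻¹) * h⁻¹ ∈ A := by
      have h7 : h * ((x : G) * z * (x : G)⁻¹) * h⁻¹ = (h * x) * z * (h * x)⁻¹ := by group
      rw [h7] at e4 ⊢
      exact C.mem_A_of_T hSC hz hz2 e4
    have f5 : (h * t * h⁻¹) * (h * ((x : G) * t * (x : G)⁻¹) * h⁻¹) =
        (h * z * h⁻¹) * (h * ((x : G) * z * (x : G)⁻¹) * h⁻¹) := by
      have h6 : (x : G) * j = j * x := mem_centralizer_singleton_iff.1 x.2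
      have h8 : z * ((x : G) * z * (x : G)⁻¹) = t * ((x : G) * t * (x : G)⁻¹) := by
        have h9 : t * j = j * t := mem_centralizer_singleton_iff.1 htX
        calc z * ((x : G) * z * (x : G)⁻¹) = (t * j) * (x * (t * j) * (x : G)⁻¹) := by rw [← hzj]
          _ = t * (j * x) * (j * t) * (x : G)⁻¹ := by rw [← h9]; group
          _ = t * x * (j * j) * t * (x : G)⁻¹ := by rw [← h6]; group
          _ = _ := by rw [hjj]; group
      calc (h * t * h⁻¹) * (h * ((x : G) * t * (x : G)⁻¹) * h⁻¹) =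
          h * (t * ((x : G) * t * (x : G)⁻¹)) * h⁻¹ := by group
        _ = h * (z * ((x : G) * z * (x : G)⁻¹)) * h⁻¹ := by rw [h8]
        _ = _ := by group
    have f6 := C.inf _ (mul_mem f3 f4) (by rw [← f5]; exact mul_mem f1 f2)
    rw [← f5] at f6
    apply Subtype.ext
    change (x : G) * t * (x : G)⁻¹ = t
    have h10 : t * ((x : G) * t * (x : G)⁻¹) = 1 := by
      have h11 : (h * t * h⁻¹) * (h * ((x : G) * t * (x : G)⁻¹) * h⁻¹) =
          h * (t * ((x : G) * t * (x : G)⁻¹)) * h⁻¹ := by group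
      rw [h11] at f6
      have h12 : t * ((x : G) * t * (x : G)⁻¹) = h⁻¹ * (h * (t * ((x : G) * t * (x : G)⁻¹)) * h⁻¹) * h := by
        group
      rw [h12, f6]
      group
    have h13 := eq_inv_of_mul_eq_one_right h10
    rw [h13, inv_self ht2]
  obtain ⟨N, hN, hodd, hcomm⟩ := Cfsg.Agent.S0215.result P u hu huP hiso
  -- the elements of `N` lie in `K`
  have ht'X : t' ∈ X := by
    rw [hX, mem_centralizer_singleton_iff, hj]
    have := C.comm ht' hzA
    calc t' * (t * z) = (t' * t) * z := by group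
      _ = t * (t' * z) := by rw [← htt]; group
      _ = _ := by rw [this]; group
  let u' : X := ⟨t', ht'X⟩
  have hNodd : ∀ x ∈ N, Odd (orderOf (x : G)) := by
    intro x hx
    have h1 : orderOf (⟨x, hx⟩ : N) ∣ Nat.card N := orderOf_dvd_natCard _
    rw [← Subgroup.orderOf_coe] at h1
    rw [Subgroup.orderOf_coe]
    exact hodd.of_dvd_nat h1
  have hfix : ∀ v ∈ X, v ∈ centralizer (A : Set G) → orderOf v = 2 → ∀ x ∈ N, (x : G) * v = v * x →
      (x : G) ∈ centralizer (A : Set G) := by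
    intro v hvX hv hv2 x hx hxv
    have hxM : (x : G) ∈ normalizer (A : Set G) := C.mem_M_of_comm hv hv2 hxv
    refine C.centM _ hxM (fun s hs => ?_) (hNodd x hx)
    have hsX : s ∈ X := by
      rw [hX, mem_centralizer_singleton_iff, hj]
      have h1 := C.comm ht (C.S_le hs)
      have h2 := C.central z hz (sq_one hz2) s hs
      calc s * (t * z) = (s * t) * z := by group
        _ = t * (s * z) := by rw [← h1]; group
        _ = _ := by rw [← h2]; group
    -- the commutator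
    have h1 : (x : G) * s * (x : G)⁻¹ * s⁻¹ ∈ A :=
      mul_mem (C.conj_A hxM (C.S_le hs)) (inv_mem (C.S_le hs))
    have h2 : x * (⟨s, hsX⟩ : X) * x⁻¹ * (⟨s, hsX⟩ : X)⁻¹ ∈ N := by
      have h3 := hN.conj_mem x⁻¹ (inv_mem hx) ⟨s, hsX⟩
      have h4 := mul_mem hx h3
      have h5 : x * ((⟨s, hsX⟩ : X) * x⁻¹ * (⟨s, hsX⟩ : X)⁻¹) =
        x * (⟨s, hsX⟩ : X) * x⁻¹ * (⟨s, hsX⟩ : X)⁻¹ := by group
      rwa [h5] at h4
    set y := x * (⟨s, hsX⟩ : X) * x⁻¹ * (⟨s, hsX⟩ : X)⁻¹ with hy
    have hyv : (y : G) = (x : G) * s * (x : G)⁻¹ * s⁻¹ := rfl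
    rw [← hyv] at h1
    have h3 : (y : G) * z = z * y := by
      have h4 : (y : G) * j = j * y := mem_centralizer_singleton_iff.1 y.2
      have h5 := C.comm ht h1
      calc (y : G) * z = (y * t) * j := by rw [hzj]; group
        _ = t * (y * j) := by rw [← h5]; group
        _ = _ := by rw [h4, hzj]; group
    have h4 : (y : G) ∈ S := C.centA z hz hz2 _ h1 h3
    have h5 : (y : G) = 1 := by
      obtain ⟨n, hn⟩ := (C.two.to_le (le_sup_right : S ≤ R ⊔ S)) ⟨y, h4⟩
      have h6 : orderOf (y : G) ∣ 2 ^ n := orderOf_dvd_of_pow_eq_one (congrArg Subtype.val hn)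
      have h7 : Nat.Coprime (orderOf (y : G)) (2 ^ n) := by
        apply Nat.Coprime.pow_right
        exact Nat.coprime_two_right.2 (hNodd y h2)
      have h8 : orderOf (y : G) = 1 := Nat.Coprime.eq_one_of_dvd h7 h6
      exact orderOf_eq_one_iff.1 h8
    rw [hyv] at h5
    have h6 := mul_inv_eq_one.1 h5
    rw [mul_inv_eq_iff_eq_mul] at h6
    exact h6
  have hNK : ∀ x ∈ N, (x : G) ∈ centralizer (A : Set G) := by
    have hti : u * u = 1 := Subtype.ext (sq_one ht2)
    have hti' : u' * u' = 1 := Subtype.ext (sq_one ht2')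
    have huu : u * u' = u' * u := Subtype.ext htt
    have hui : u⁻¹ = u := inv_eq_of_mul_eq_one_right hti
    have hui' : u'⁻¹ = u' := inv_eq_of_mul_eq_one_right hti'
    let σ : N →* N := ((MulAut.conjNormal (H := N)) u).toMonoidHom
    let τ : N →* N := ((MulAut.conjNormal (H := N)) u').toMonoidHom
    have hσ : ∀ x : N, ((σ x : N) : X) = u * x * u⁻¹ := fun x => rfl
    have hτ : ∀ x : N, ((τ x : N) : X) = u' * x * u'⁻¹ := fun x => rfl
    have htop := PermutationGroups.OddKlein.eq_top_of_fixed_le hodd σ τ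
      (fun x => Subtype.ext (by
        rw [hσ, hσ, hui]
        calc u * (u * x * u) * u = (u * u) * x * (u * u) := by group
          _ = x := by rw [hti]; group))
      (fun x => Subtype.ext (by
        rw [hτ, hτ, hui']
        calc u' * (u' * x * u') * u' = (u' * u') * x * (u' * u') := by group
          _ = x := by rw [hti']; group))
      (fun x => Subtype.ext (by
        rw [hσ, hτ, hτ, hσ, hui, hui']
        calc u * (u' * x * u') * u = (u * u') * x * (u' * u) := by group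
          _ = (u' * u) * x * (u * u') := by rw [huu]
          _ = _ := by group))
      (((centralizer (A : Set G)).comap X.subtype).subgroupOf N) ?_ ?_ ?_
    · intro x hx
      have h1 : (⟨x, hx⟩ : N) ∈ (((centralizer (A : Set G)).comap X.subtype).subgroupOf N) := by
        rw [htop]; trivial
      exact h1
    · intro x hx
      have h1 := congrArg Subtype.val hx
      rw [hσ, mul_inv_eq_iff_eq_mul] at h1
      exact hfix t htX ht ht2 x x.2 (congrArg Subtype.val h1).symm
    · intro x hx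
      have h1 := congrArg Subtype.val hx
      rw [hτ, mul_inv_eq_iff_eq_mul] at h1
      exact hfix t' ht'X ht' ht2' x x.2 (congrArg Subtype.val h1).symm
    · intro x hx
      have h1 := congrArg Subtype.val hx
      rw [hσ, hτ] at h1
      have h2 : (u * u') * (x : X) = x * (u * u') := by
        rw [hui, hui'] at h1
        calc (u * u') * (x : X) = (u * (u' * x * u') * u) * (u * u') := by
              calc (u * u') * (x : X) = u * (u' * x * 1) * 1 := by group
                _ = u * (u' * x * (u' * u')) * 1 := by rw [hti']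
                _ = u * (u' * x * u') * (u * u) * u' := by rw [hti]; group
                _ = _ := by group
          _ = _ := by rw [h1]
      refine hfix (t * t') (mul_mem htX ht'X) (mul_mem ht ht') ?_ x x.2
        (congrArg Subtype.val h2).symm
      refine order_two ?_ ?_
      · calc t * t' * (t * t') = t * (t' * t) * t' := by group
          _ = (t * t) * (t' * t') := by rw [← htt]; group
          _ = 1 := by rw [sq_one ht2, sq_one ht2', one_mul]
      · intro h
        apply hne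
        rw [eq_inv_of_mul_eq_one_left h, inv_self ht2']
  intro x hx
  refine C.tight x t ht ht2 ?_
  have h1 := hNK _ (hcomm ⟨x, hx⟩)
  change t * x * t⁻¹ * x⁻¹ ∈ _ at h1
  have h2 := mul_mem (inv_mem ht) h1
  have h3 : t⁻¹ * (t * x * t⁻¹ * x⁻¹) = x * t⁻¹ * x⁻¹ := by group
  rw [h3, inv_self ht2] at h2
  exact h2

/-- The same for all involutions of `A`. -/
theorem centralizer_mixed_le' {t t' z : G} (ht : t ∈ centralizer (A : Set G)) (ht2 : orderOf t = 2)
    (ht' : t' ∈ centralizer (A : Set G)) (ht2' : orderOf t' = 2) (htt : t * t' = t' * t)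
    (hne : t ≠ t') (hz : z ∈ A) (hz2 : orderOf z = 2) :
    centralizer ({t * z} : Set G) ≤ normalizer (A : Set G) := by
  have h1 : IsPGroup 2 (zpowers z) := by
    rw [IsPGroup.iff_card, Nat.card_zpowers, hz2]
    exact ⟨1, rfl⟩
  obtain ⟨m, hm, hmq⟩ := C.syl _ ((zpowers_le).2 (le_normalizer hz)) h1
  have h3 : m * z * m⁻¹ ∈ S := C.mem_S_of (hmq _ (mem_zpowers _)) (C.conj_A hm hz)
  have h4 := C.centralizer_mixed_le hSC (C.conj_K hm ht) (by rw [orderOf_conj', ht2])
    (C.conj_K hm ht') (by rw [orderOf_conj', ht2']) (by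
      calc m * t * m⁻¹ * (m * t' * m⁻¹) = m * (t * t') * m⁻¹ := by group
        _ = m * (t' * t) * m⁻¹ := by rw [htt]
        _ = _ := by group) (fun h => hne (by
          have := congrArg (fun y => m⁻¹ * y * m) h
          simpa [mul_assoc] using this)) h3 (by rw [orderOf_conj', hz2])
  intro x hx
  have h5 : m * x * m⁻¹ ∈ centralizer ({m * t * m⁻¹ * (m * z * m⁻¹)} : Set G) := by
    rw [mem_centralizer_singleton_iff] at hx ⊢
    calc m * x * m⁻¹ * (m * t * m⁻¹ * (m * z * m⁻¹)) = m * (x * (t * z)) * m⁻¹ := by group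
      _ = m * ((t * z) * x) * m⁻¹ := by rw [hx]
      _ = _ := by group
  have h6 := mul_mem (mul_mem (inv_mem hm) (h4 h5)) hm
  have h7 : m⁻¹ * (m * x * m⁻¹) * m = x := by group
  rwa [h7] at h6

/-- All conjugates of `z` lie in `A`. -/
theorem conj_mem_A {t t' z : G} (ht : t ∈ centralizer (A : Set G)) (ht2 : orderOf t = 2)
    (ht' : t' ∈ centralizer (A : Set G)) (ht2' : orderOf t' = 2) (htt : t * t' = t' * t)
    (hne : t ≠ t') (hz : z ∈ S) (hz2 : orderOf z = 2) (g : G) : g * z * g⁻¹ ∈ A := by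
  have hz' : (g * z * g⁻¹) * (g * z * g⁻¹) = 1 := by
    calc (g * z * g⁻¹) * (g * z * g⁻¹) = g * (z * z) * g⁻¹ := by group
      _ = 1 := by rw [sq_one hz2]; group
  obtain ⟨k, a, hu, hconj, hzu, hp⟩ := dihedral_two hz' (sq_one ht2)
  set z' := g * z * g⁻¹ with hz'd
  set w := z' * t with hw
  set u := w ^ (2 * k + 1) with hud
  have hut : u * t = (w ^ k * g) * z * (w ^ k * g)⁻¹ := by
    rw [← hconj, hz'd]
    group
  obtain ⟨h, hh⟩ := C.conj_into_T hSC hp
  have e1 : h * t * h⁻¹ ∈ R ⊔ S := hh t (subset_closure (by simp))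
  have e2 : h * (u * t) * h⁻¹ ∈ R ⊔ S := hh (u * t) (subset_closure (by simp))
  have f1 : h * t * h⁻¹ ∈ centralizer (A : Set G) := hSC h t ht ht2 (C.T_le e1)
  have f2 : h * (u * t) * h⁻¹ ∈ A := by
    have h7 : h * (u * t) * h⁻¹ = (h * (w ^ k * g)) * z * (h * (w ^ k * g))⁻¹ := by
      rw [hut]; group
    rw [h7] at e2 ⊢
    exact C.mem_A_of_T hSC hz hz2 e2
  have f3 := C.comm f1 f2
  have f4 : t * (u * t) = u * t * t := by
    have := congrArg (fun y => h⁻¹ * y * h) f3
    simpa [mul_assoc] using this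
  have f5 : u * t ∈ normalizer (A : Set G) := C.mem_M_of_comm ht ht2 f4.symm
  have f6 : u * t ∈ A := by
    rw [hut] at f5 ⊢
    exact C.mem_A_of_M hSC hz hz2 f5
  have f7 : orderOf (u * t) = 2 := by
    rw [hut, orderOf_conj', hz2]
  have f8 : t * (u * t) = u := by
    rw [f4, mul_assoc, sq_one ht2, mul_one]
  have f9 : u * u = 1 := by
    have h1 := sq_one f7
    calc u * u = (t * (u * t)) * (t * (u * t)) := by rw [f8]
      _ = (t * (u * t)) * (u * t * t) := by rw [← f4]
      _ = t * ((u * t) * (u * t)) * t := by group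
      _ = 1 := by rw [h1, mul_one, sq_one ht2]
  have f10 : z' * u = u * z' := by
    have h1 : u⁻¹ = u := inv_eq_of_mul_eq_one_right f9
    rw [h1, mul_inv_eq_iff_eq_mul] at hzu
    exact hzu
  have f11 : z' ∈ centralizer ({t * (u * t)} : Set G) := by
    rw [f8, mem_centralizer_singleton_iff]
    exact f10
  have f12 := C.centralizer_mixed_le' hSC ht ht2 ht' ht2' htt hne f6 f7 f11
  exact C.mem_A_of_M hSC hz hz2 f12

/-- **SC is impossible**: if no involution of `K` is conjugate to an element of `M - K`, then `A` is normal. -/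
theorem normal (hO : Cfsg.oddCore G = ⊥) : A.Normal := by
  classical
  obtain ⟨t, htR, ht2, htc⟩ := C.exists_t0
  have ht := C.R_le htR
  by_cases hex : ∃ t' ∈ centralizer (A : Set G), orderOf t' = 2 ∧ t * t' = t' * t ∧ t ≠ t'
  · obtain ⟨t', ht', ht2', htt, hne⟩ := hex
    -- an involution of `S`
    obtain ⟨z, hz, hz2⟩ : ∃ z ∈ S, orderOf z = 2 := by
      have hS : IsPGroup 2 S := C.two.to_le le_sup_right
      haveI : Nontrivial S := (nontrivial_iff_ne_bot S).2 C.S_ne
      obtain ⟨n, hn0, hn⟩ := (hS.nontrivial_iff_card).1 inferInstance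
      have hdvd : 2 ∣ Nat.card S := by
        rw [hn]
        exact dvd_pow_self 2 (by omega)
      obtain ⟨⟨z, hzS⟩, hz⟩ := exists_prime_orderOf_dvd_card' (G := S) 2 hdvd
      exact ⟨z, hzS, by rw [← hz, ← Subgroup.orderOf_coe]⟩
    have hN : normalClosure {z} = A := by
      refine C.simple _ ?_ ?_ ?_
      · change closure (Group.conjugatesOfSet {z}) ≤ A
        rw [closure_le]
        intro y hy
        obtain ⟨y0, hy0, hc⟩ := Group.mem_conjugatesOfSet_iff.1 hy
        obtain rfl : y0 = z := hy0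
        obtain ⟨g, rfl⟩ := isConj_iff.1 hc
        exact C.conj_mem_A hSC ht ht2 ht' ht2' htt hne hz hz2 g
      · intro h
        have h1 : z ∈ normalClosure {z} := subset_normalClosure rfl
        rw [h, mem_bot] at h1
        exact ne_one hz2 h1
      · rw [normalizer_eq_top]
        exact le_top
    rw [← hN]
    infer_instance
  · push Not at hex
    obtain ⟨P, hP⟩ := C.isSylow hSC
    have htP : t ∈ P := by
      have : t ∈ R ⊔ S := mem_sup_left htR
      rw [← hP] at this
      exact this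
    obtain ⟨N, hN, hodd, hcomm⟩ := Cfsg.Agent.S0215.result P t ht2 htP (by
      intro g hg
      have hg' : g * t * g⁻¹ ∈ R ⊔ S := by rw [← hP]; exact hg
      exact (hex _ (hSC g t ht ht2 (C.T_le hg')) (by rw [orderOf_conj', ht2]) (htc _ hg').symm).symm)
    have hNbot : N = ⊥ := by
      rw [← le_bot_iff, ← hO]
      exact le_sSup ⟨hN, Nat.coprime_two_right.2 hodd⟩
    have hA : normalizer (A : Set G) = ⊤ := by
      rw [eq_top_iff]
      intro g _
      refine C.mem_M_of_comm ht ht2 ?_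
      have h1 := hcomm g
      rw [hNbot, mem_bot] at h1
      have h2 := mul_inv_eq_one.1 h1
      rw [mul_inv_eq_iff_eq_mul] at h2
      exact h2.symm
    exact normalizer_eq_top_iff.1 hA

end SC

end Ctx

end Cfsg.Agent.RuRed.SC
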