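import Mathlib
import Cfsg.Agent.RuRed.SC
import Cfsg.Agent.RuB.AutFix
import Cfsg.Agent.ThreePrime.SzDataExists
import Cfsg.Prelude.Def_Local

/-!
# A standard subgroup `A = Sz(8)`: the context of `RuRed.SC`
-/

set_option autoImplicit false
set_option linter.unusedSectionVars false
set_option linter.style.haveILetI false

namespace Cfsg.Agent.RuRed.CtxSz

open Subgroup Cfsg.Agent.ThreePrime

/-- the centre of a group parametrised by `Rel` is trivial -/
theorem center_trivial {J : Type*} [Group J] {F : Type*} [Field F] (R : SzRel.Rel J F) {x : J}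
    (hx : ∀ y, x * y = y * x) : x = 1 := by
  have h1 : x ∈ R.T := RuB.AutFix.mem_T_of_comm R one_ne_zero (hx _)
  by_contra hne
  have h2 : R.w * x * R.w⁻¹ = x := by rw [← hx, mul_inv_cancel_right]
  exact R.w_not_mem_normalizer (R.ti h1 hne (by rw [h2]; exact h1))

variable {G : Type*} [Group G] [Finite G] {A : Subgroup G} {F : Type*} [Field F] [Fintype F]

theorem isSimple (hA : Cfsg.IsQuasisimple A) (R : SzRel.Rel A F) : IsSimpleGroup A := by
  have hc : center A = ⊥ := by
    rw [eq_bot_iff]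
    intro x hx
    rw [mem_bot]
    exact center_trivial R fun y => (mem_center_iff.1 hx y).symm
  have h2 := hA.2
  let e : A ⧸ center A ≃* A := (QuotientGroup.quotientMulEquivOfEq hc).trans QuotientGroup.quotientBot
  haveI : Nontrivial A := e.symm.toEquiv.nontrivial
  exact IsSimpleGroup.isSimpleGroup_of_surjective e.toMonoidHom e.surjective

theorem tight (hA : Cfsg.IsStandardSubgroup A) (g t : G) (ht : t ∈ centralizer (A : Set G)) (h2 : orderOf t = 2)
    (h : g * t * g⁻¹ ∈ centralizer (A : Set G)) : g ∈ normalizer (A : Set G) := by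
  rw [hA.2.2.2]
  by_contra hg
  have hodd := hA.2.1.2 g hg
  have h3 : g * t * g⁻¹ ∈ centralizer (A : Set G) ⊓
      (centralizer (A : Set G)).map (MulAut.conj g).toMonoidHom := mem_inf.2 ⟨h, t, ht, rfl⟩
  have h4 : orderOf (g * t * g⁻¹) ∣ Nat.card ↥(centralizer (A : Set G) ⊓
      (centralizer (A : Set G)).map (MulAut.conj g).toMonoidHom) := Subgroup.orderOf_dvd_natCard _ h3
  rw [SC.orderOf_conj', h2] at h4
  exact absurd (even_iff_two_dvd.2 h4) (Nat.not_even_iff_odd.2 hodd)

theorem exists_ctx (hA : Cfsg.IsStandardSubgroup A) (hF : Fintype.card F = 8) (Rl : SzRel.Rel A F) :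
    ∃ R : Subgroup G, SC.Ctx A (Rl.T.map A.subtype) R := by
  classical
  haveI : Fact (Nat.Prime 2) := ⟨Nat.prime_two⟩
  set S := Rl.T.map A.subtype with hS
  have hF' : Fintype.card F = 2 ^ (2 * 1 + 1) := by rw [hF]; norm_num
  have h8 : 8 ≤ Nat.card F := by rw [Nat.card_eq_fintype_card, hF]
  have hsim := isSimple hA.1 Rl
  have hSA : S ≤ A := by
    rintro _ ⟨x, -, rfl⟩
    exact x.2
  have hS2 : IsPGroup 2 S := Rl.isPGroup.map _
  set M := normalizer (A : Set G) with hM
  have hAM : A ≤ M := le_normalizer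
  have hinf : ∀ x ∈ A, x ∈ centralizer (A : Set G) → x = 1 := by
    intro x hx hc
    have := center_trivial Rl (x := ⟨x, hx⟩) fun y => Subtype.ext (mem_centralizer_iff.1 hc y y.2).symm
    exact congrArg Subtype.val this
  -- Sylow subgroup of `M` containing `S`
  have hSM : IsPGroup 2 (S.subgroupOf M) := hS2.of_injective
    (Subgroup.subgroupOfEquivOfLe (hSA.trans hAM)).toMonoidHom
    (Subgroup.subgroupOfEquivOfLe (hSA.trans hAM)).injective
  obtain ⟨P, hP⟩ := hSM.exists_le_sylow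
  set Q := (P : Subgroup M).map M.subtype with hQ
  have hQM : Q ≤ M := by
    rintro _ ⟨x, -, rfl⟩
    exact x.2
  have hQ2 : IsPGroup 2 Q := P.isPGroup'.map _
  have hSQ : S ≤ Q := by
    intro x hx
    exact ⟨⟨x, hAM (hSA hx)⟩, hP (mem_subgroupOf.2 hx), rfl⟩
  -- `Q ∩ A = S`
  have hQA : ∀ x ∈ Q, x ∈ A → x ∈ S := by
    intro x hx hxA
    obtain ⟨P', hP'⟩ := Rl.exists_sylow_eq le_rfl hF'
    have h1 : IsPGroup 2 ((Q ⊓ A).subgroupOf A) := (hQ2.to_le (inf_le_left : Q ⊓ A ≤ Q)).of_injective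
      (Subgroup.subgroupOfEquivOfLe (inf_le_right : Q ⊓ A ≤ A)).toMonoidHom
      (Subgroup.subgroupOfEquivOfLe (inf_le_right : Q ⊓ A ≤ A)).injective
    have h2 : (P' : Subgroup A) ≤ (Q ⊓ A).subgroupOf A := by
      intro y hy
      rw [hP'] at hy
      exact mem_subgroupOf.2 (mem_inf.2 ⟨hSQ ⟨y, hy, rfl⟩, y.2⟩)
    have h3 := P'.is_maximal' h1 h2
    have h4 : (⟨x, hxA⟩ : A) ∈ (Q ⊓ A).subgroupOf A := mem_subgroupOf.2 (mem_inf.2 ⟨hx, hxA⟩)
    rw [h3, hP'] at h4
    exact ⟨_, h4, rfl⟩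
  set R := Q ⊓ centralizer (A : Set G) with hR
  have hRK : R ≤ centralizer (A : Set G) := inf_le_right
  have hQe : Q = R ⊔ S := by
    apply le_antisymm _ (sup_le inf_le_left hSQ)
    intro x hx
    have hxM := hQM hx
    let ψ : MulAut A := MulAut.conjNormal (H := A.subgroupOf M) ⟨x, hxM⟩ |> fun e =>
      ((Subgroup.subgroupOfEquivOfLe hAM).symm.trans e).trans (Subgroup.subgroupOfEquivOfLe hAM)
    have hψ : ∀ y : A, ((ψ y : A) : G) = x * y * x⁻¹ := fun y => rfl
    have hxinv : ∀ n : ℕ, ∀ (a b : F) (y : A), ((((MulAut.conj (Rl.u a b) * ψ) ^ n) y : A) : G) =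
        (((Rl.u a b : A) : G) * x) ^ n * y * ((((Rl.u a b : A) : G) * x) ^ n)⁻¹ := by
      intro n a b
      induction n with
      | zero => intro y; simp
      | succ n ih =>
        intro y
        rw [pow_succ', MulAut.mul_apply]
        have h1 : ∀ y : A, (((MulAut.conj (Rl.u a b) * ψ) y : A) : G) =
            (((Rl.u a b : A) : G) * x) * y * (((Rl.u a b : A) : G) * x)⁻¹ := by
          intro y
          rw [MulAut.mul_apply, MulAut.conj_apply]
          push_cast
          rw [hψ]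
          group
        rw [h1, ih, pow_succ']
        generalize (((Rl.u a b : A) : G) * x) = w
        group
    obtain ⟨N, hN⟩ := (IsPGroup.iff_card.1 hQ2)
    obtain ⟨a, b, hab⟩ := RuB.AutFix.eq_conj_of_pow Rl hF ψ (by
      rintro y hy
      have h1 : x * (y : G) * x⁻¹ ∈ Q := mul_mem (mul_mem hx (hSQ ⟨y, hy, rfl⟩)) (inv_mem hx)
      have h2 := hQA _ h1 (by rw [← hψ]; exact (ψ y).2)
      obtain ⟨z, hz, hze⟩ := h2
      have h3 : z = ψ y := Subtype.ext (by rw [hψ]; exact hze)
      rw [← h3]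
      exact hz) (n := N) (by
      intro a b
      apply MulEquiv.ext
      intro y
      apply Subtype.ext
      rw [hxinv]
      have h1 : ((Rl.u a b : A) : G) * x ∈ Q := mul_mem (hSQ ⟨_, Rl.u_mem a b, rfl⟩) hx
      have h2 : (((Rl.u a b : A) : G) * x) ^ 2 ^ N = 1 := by
        have := pow_card_eq_one' (x := (⟨_, h1⟩ : Q))
        rw [hN] at this
        exact congrArg Subtype.val this
      rw [h2]
      simp)
    have h1 : ((Rl.u a b : A) : G)⁻¹ * x ∈ R := by
      refine mem_inf.2 ⟨mul_mem (inv_mem (hSQ ⟨_, Rl.u_mem a b, rfl⟩)) hx, ?_⟩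
      rw [mem_centralizer_iff]
      intro y hy
      have h2 := congrArg (Subtype.val) (hab ⟨y, hy⟩)
      rw [hψ] at h2
      push_cast at h2
      have h3 : y = ((Rl.u a b : A) : G)⁻¹ * (x * y * x⁻¹) * ((Rl.u a b : A) : G) := by
        rw [h2]; group
      calc y * (((Rl.u a b : A) : G)⁻¹ * x) =
          (((Rl.u a b : A) : G)⁻¹ * (x * y * x⁻¹) * ((Rl.u a b : A) : G)) * (((Rl.u a b : A) : G)⁻¹ * x) := by
            rw [← h3]
        _ = _ := by group
    have h4 : x = ((Rl.u a b : A) : G) * (((Rl.u a b : A) : G)⁻¹ * x) := by group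
    rw [h4]
    exact mul_mem (mem_sup_right ⟨_, Rl.u_mem a b, rfl⟩) (mem_sup_left h1)
  have hsyl : ∀ U : Subgroup G, U ≤ M → IsPGroup 2 U → ∃ m ∈ M, ∀ q ∈ U, m * q * m⁻¹ ∈ R ⊔ S := by
    intro U hU hU2
    have h1 : IsPGroup 2 (U.subgroupOf M) := hU2.of_injective (Subgroup.subgroupOfEquivOfLe hU).toMonoidHom
      (Subgroup.subgroupOfEquivOfLe hU).injective
    obtain ⟨U', hU'⟩ := h1.exists_le_sylow
    obtain ⟨c, hc⟩ := MulAction.exists_smul_eq M U' P
    refine ⟨c, c.2, fun q hq => ?_⟩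
    have h2 : (⟨q, hU hq⟩ : M) ∈ U' := hU' (mem_subgroupOf.2 hq)
    have h3 : c * ⟨q, hU hq⟩ * c⁻¹ ∈ P := by
      rw [← hc]
      exact ⟨_, h2, rfl⟩
    rw [← hQe]
    exact ⟨_, h3, rfl⟩
  refine ⟨R, ?_⟩
  exact {
    simple := by
      intro N hNA hN hn
      have h1 : (N.subgroupOf A).Normal := normal_subgroupOf_of_le_normalizer hn
      rcases h1.eq_bot_or_eq_top with h | h
      · exfalso
        apply hN
        rw [subgroupOf_eq_bot] at h
        have := h.eq_bot
        rwa [inf_eq_left.2 hNA] at this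
      · exact le_antisymm hNA (subgroupOf_eq_top.1 h)
    tight := tight hA
    inf := hinf
    S_le := hSA
    R_le := hRK
    R_ne := by
      intro h
      have heven := hA.2.1.1
      obtain ⟨⟨t, htK⟩, ht⟩ := exists_prime_orderOf_dvd_card' (G := centralizer (A : Set G)) 2
        (even_iff_two_dvd.1 heven)
      rw [← Subgroup.orderOf_coe] at ht
      have h1 : IsPGroup 2 (zpowers t) := by
        rw [IsPGroup.iff_card, Nat.card_zpowers, ht]
        exact ⟨1, rfl⟩
      obtain ⟨m, hm, hmq⟩ := hsyl (zpowers t) ((zpowers_le).2 (centralizer_le_normalizer _ htK)) h1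
      have h2 := hmq t (mem_zpowers t)
      rw [← hQe] at h2
      have h3 : m * t * m⁻¹ ∈ centralizer (A : Set G) := by
        have h5 : m ∈ normalizer (centralizer (A : Set G) : Set G) := by
          rw [← hA.2.2.2]; exact hm
        exact (mem_normalizer_iff.1 h5 t).1 htK
      have h4 : m * t * m⁻¹ ∈ R := mem_inf.2 ⟨h2, h3⟩
      rw [h, mem_bot] at h4
      have h5 : orderOf (m * t * m⁻¹) = 2 := by rw [SC.orderOf_conj']; exact ht
      rw [h4, orderOf_one] at h5
      exact absurd h5 (by decide)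
    S_ne := by
      intro h
      have h1 : ((Rl.u 0 1 : A) : G) ∈ S := ⟨_, Rl.u_mem 0 1, rfl⟩
      rw [h, mem_bot] at h1
      exact Rl.u_ne_one one_ne_zero (Subtype.ext h1)
    two := by rw [← hQe]; exact hQ2
    syl := hsyl
    central := by
      rintro _ ⟨x, hx, rfl⟩ h _ ⟨y, hy, rfl⟩
      have h1 : x * x = 1 := Subtype.ext h
      exact congrArg Subtype.val ((Rl.sq_iff h8 x hx).1 h1 y hy)
    centA := by
      rintro _ ⟨x, hx, rfl⟩ h c hc hcx
      have h1 : orderOf x = 2 := by rw [← Subgroup.orderOf_coe]; exact h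
      have h2 := SC.sq_one h1
      obtain ⟨a, b, rfl⟩ := hx
      rw [Rl.u_sq_iff] at h2
      subst h2
      have hb : b ≠ 0 := by
        rintro rfl
        rw [Rl.u_zero, orderOf_one] at h1
        exact absurd h1 (by decide)
      refine ⟨⟨c, hc⟩, RuB.AutFix.mem_T_of_comm Rl hb (Subtype.ext hcx), rfl⟩
    centM := by
      intro c hc hcs hodd
      let ψ : MulAut A := MulAut.conjNormal (H := A.subgroupOf M) ⟨c, hc⟩ |> fun e =>
        ((Subgroup.subgroupOfEquivOfLe hAM).symm.trans e).trans (Subgroup.subgroupOfEquivOfLe hAM)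
      have hψ : ∀ y : A, ((ψ y : A) : G) = c * y * c⁻¹ := fun y => rfl
      obtain ⟨a, b, hab⟩ := RuB.AutFix.eq_conj Rl h8 inferInstance ψ (by
        intro b
        apply Subtype.ext
        have h0 := hcs ((Rl.u 0 b : A) : G) ⟨_, Rl.u_mem 0 b, rfl⟩
        rw [hψ, h0]
        exact mul_inv_cancel_right _ _)
      set u : G := ((Rl.u a b : A) : G) with hu
      have huS : u ∈ S := ⟨_, Rl.u_mem a b, rfl⟩
      have h1 : u⁻¹ * c ∈ centralizer (A : Set G) := by
        rw [mem_centralizer_iff]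
        intro y hy
        have h2 := congrArg (Subtype.val) (hab ⟨y, hy⟩)
        rw [hψ] at h2
        push_cast at h2
        rw [← hu] at h2
        have h3 : y = u⁻¹ * (c * y * c⁻¹) * u := by
          rw [h2]; group
        calc y * (u⁻¹ * c) = (u⁻¹ * (c * y * c⁻¹) * u) * (u⁻¹ * c) := by rw [← h3]
          _ = _ := by group
      -- `c = u k`, `c ^ 4 = k ^ 4`
      have h4 : Commute u (u⁻¹ * c) := mem_centralizer_iff.1 h1 u (hSA huS)
      have h5 : u ^ 4 = 1 := congrArg Subtype.val (Rl.pow_four (Rl.u_mem a b))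
      have h6 : c ^ 4 ∈ centralizer (A : Set G) := by
        have h7 : c = u * (u⁻¹ * c) := by group
        rw [h7, h4.mul_pow, h5, one_mul]
        exact pow_mem h1 4
      obtain ⟨n, hn⟩ : ∃ n : ℕ, (c ^ 4) ^ n = c := by
        have hcop : Nat.Coprime 4 (orderOf c) := by
          have : Nat.Coprime (2 ^ 2) (orderOf c) := Nat.Coprime.pow_left 2 (Nat.coprime_two_left.2 hodd)
          exact this
        obtain ⟨m, hm⟩ := exists_pow_eq_self_of_coprime hcop
        exact ⟨m, hm⟩
      rw [← hn]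
      exact pow_mem h6 n
  }

end Cfsg.Agent.RuRed.CtxSz
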