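import Mathlib
import Cfsg.Agent.ThreePrime.SzRel

/-!
# The relation between `w` and the unipotent elements in a Suzuki group

`RelW R : w (u 1 0)⁻¹ w (u 1 0) = (u 0 1) w`. It holds for the matrix parametrisation and is preserved by transport.
-/

set_option autoImplicit false

namespace Cfsg.Agent.RuRed

open Cfsg.Agent.ThreePrime Cfsg.Agent.LieRecognition

variable {J K : Type*} [Group J] [Group K] {F : Type*} [Field F]

/-- the relation of `w` and `u 1 0` -/
def RelW (R : SzRel.Rel J F) : Prop := R.w * (R.u 1 0)⁻¹ * R.w * R.u 1 0 = R.u 0 1 * R.w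

theorem RelW.map {R : SzRel.Rel J F} (h : RelW R) (f : J ≃* K) : RelW (R.map f) := by
  show f R.w * (f (R.u 1 0))⁻¹ * f R.w * f (R.u 1 0) = f (R.u 0 1) * f R.w
  rw [← map_inv, ← map_mul, ← map_mul, ← map_mul, ← map_mul, h]

theorem RelW.mat {θ : F →+* F} {e : ℕ} (H : SzMatrix.Good F θ e) :
    SzMatrix.W F * (H.U 1 0)⁻¹ * SzMatrix.W F * H.U 1 0 = H.U 0 1 * SzMatrix.W F := by
  have h0 := H.two
  rw [H.U_inv]
  apply Units.ext
  rw [Units.val_mul, Units.val_mul, Units.val_mul, Units.val_mul, H.U_val, H.U_val, H.U_val, SzMatrix.W_val,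
    SzMatrix.Umat_def, SzMatrix.Umat_def, SzMatrix.Umat_def, SzMatrix.J]
  ext i j
  fin_cases i <;> fin_cases j <;>
    simp [Matrix.mul_apply, Fin.sum_univ_four] <;>
    first
    | linear_combination h0
    | linear_combination (2 : F) * h0
    | linear_combination (3 : F) * h0

theorem RelW.ofGood {θ : F →+* F} {e : ℕ} (H : SzMatrix.Good F θ e) : RelW (SzRel.ofGood H) :=
  Subtype.ext (RelW.mat H)

/-- existence of a parametrisation with the relation -/
theorem exists_relW {J : Type*} [Group J] (h : Cfsg.Lie.IsoSuzuki J) :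
    ∃ (F : Type) (_ : Field F) (_ : Fintype F) (m : ℕ), 1 ≤ m ∧ Fintype.card F = 2 ^ (2 * m + 1) ∧
      ∃ R : SzRel.Rel J F, RelW R := by
  obtain ⟨F, iF, iF', m, hm, hc, ⟨f⟩⟩ := h
  exact ⟨F, iF, iF', m, hm, hc, _, (RelW.ofGood (SzMatrix.good hc)).map f.symm⟩

end Cfsg.Agent.RuRed
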