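import Mathlib
import Cfsg.Agent.RuRed.SzRelMore

/-!
# Subgroups isomorphic to `Sz(8)`: the local data

`Loc A S Z ρ i` collects the elementary facts on `A ≅ Sz(8)`, `A ≤ G`: `S` is a Sylow 2-subgroup of `A`, `Z` its
centre, `ρ` an element of order 7 normalising `S`, and `i ∈ A` an involution inverting `ρ`.
-/

set_option autoImplicit false

open scoped commutatorElement Pointwise

namespace Cfsg.Agent.RuRed

open Subgroup

variable {G : Type*} [Group G]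

/-- `A` is a copy of `Sz(8)` in `G`. -/
def IsSz8 (A : Subgroup G) : Prop :=
  IsSimpleGroup ↥A ∧ ∃ (F : Type) (_ : Field F) (_ : Fintype F), Fintype.card F = 8 ∧ Nonempty (Cfsg.Agent.ThreePrime.SzRel.Rel ↥A F)

/-- Elementary facts on `A ≅ Sz(8)` with a fixed Sylow 2-subgroup `S`. -/
structure Loc (A S Z : Subgroup G) (ρ i : G) : Prop where
  S_le : S ≤ A
  Z_le : Z ≤ S
  card_S : Nat.card S = 64
  card_Z : Nat.card Z = 8
  mem_Z : ∀ x ∈ S, x ∈ Z ↔ x * x = 1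
  sq_mem : ∀ x ∈ S, x * x ∈ Z
  central : ∀ z ∈ Z, ∀ x ∈ S, z * x = x * z
  comm_mem : ∀ x ∈ S, ∀ y ∈ S, ⁅x, y⁆ ∈ Z
  comm_eq : ⁅S, S⁆ = Z
  two : ∀ x ∈ S, x ∉ Z → ∃ y ∈ S, ∃ y' ∈ S, ⁅x, y⁆ ≠ 1 ∧ ⁅x, y'⁆ ≠ 1 ∧ ⁅x, y⁆ ≠ ⁅x, y'⁆
  rho_mem : ρ ∈ A
  rho_ne : ρ ≠ 1
  rho_pow : ρ ^ 7 = 1
  rho_norm : ρ ∈ normalizer (S : Set G)
  fpf : ∀ x ∈ S, ρ * x = x * ρ → x = 1
  trans : ∀ z ∈ Z, ∀ z' ∈ Z, z ≠ 1 → z' ≠ 1 → ∃ n : ℕ, ρ ^ n * z * (ρ ^ n)⁻¹ = z'
  i_mem : i ∈ A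
  i_sq : i * i = 1
  i_ne : i ≠ 1
  i_inv : i * ρ * i = ρ⁻¹
  i_not : i ∉ normalizer (S : Set G)
  cent_rho : ∀ g ∈ A, g * ρ = ρ * g → ∃ n : ℕ, g = ρ ^ n
  ti : ∀ g ∈ A, ∀ x ∈ S, x ≠ 1 → g * x * g⁻¹ ∈ S → g ∈ normalizer (S : Set G)
  norm : ∀ g ∈ A, g ∈ normalizer (S : Set G) → ∃ s ∈ S, ∃ n : ℕ, g = s * ρ ^ n
  cent : ∀ x ∈ S, x ≠ 1 → ∀ g ∈ A, g * x = x * g → g ∈ S
  gen : ∀ H : Subgroup G, S ≤ H → ∀ g ∈ A, g ∉ normalizer (S : Set G) → (∀ x ∈ S, g * x * g⁻¹ ∈ H) → A ≤ H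
  max : ∀ H : Subgroup G, S ≤ H → ρ ∈ H → ∀ g ∈ A, g ∈ H → g ∉ normalizer (S : Set G) → A ≤ H
  conj : ∀ x ∈ A, x * x = 1 → ∃ a ∈ A, a * x * a⁻¹ ∈ Z
  center : ∀ g ∈ A, (∀ x ∈ A, g * x = x * g) → g = 1
  aut_two : ∀ m ∈ normalizer (A : Set G), (∃ n : ℕ, m ^ 2 ^ n = 1) → ∃ a ∈ A, a⁻¹ * m ∈ centralizer (A : Set G)
  aut_odd : ∀ m ∈ normalizer (A : Set G), Odd (orderOf m) → (∀ x ∈ S, m * x = x * m) → m ∈ centralizer (A : Set G)
  aut_Z : ∀ m ∈ normalizer (A : Set G), (∀ z ∈ Z, m * z = z * m) → ∃ s ∈ S, s⁻¹ * m ∈ centralizer (A : Set G)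

section construct

variable {A : Subgroup G} {F : Type} [Field F]

theorem mem_map_iff {T : Subgroup ↥A} {x : G} : x ∈ T.map A.subtype ↔ ∃ y ∈ T, (y : G) = x := Iff.rfl

theorem mem_normalizer_map_iff {T : Subgroup ↥A} {g : ↥A} :
    (g : G) ∈ normalizer ((T.map A.subtype : Subgroup G) : Set G) ↔ g ∈ normalizer (T : Set ↥A) := by
  rw [mem_normalizer_iff, mem_normalizer_iff]
  constructor
  · intro h x
    have h1 := h x
    constructor
    · intro hx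
      obtain ⟨y, hy, h2⟩ := h1.1 ⟨x, hx, rfl⟩
      have : g * x * g⁻¹ = y := Subtype.ext h2.symm
      rw [this]; exact hy
    · intro hx
      obtain ⟨y, hy, h2⟩ := h1.2 ⟨g * x * g⁻¹, hx, rfl⟩
      have : x = y := Subtype.ext h2.symm
      rw [this]; exact hy
  · intro h x
    constructor
    · rintro ⟨y, hy, rfl⟩
      exact ⟨g * y * g⁻¹, (h y).1 hy, rfl⟩
    · rintro ⟨y, hy, h2⟩
      have hx : x ∈ A := by
        have : x = (g : G)⁻¹ * y * g := by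
          have h3 : (y : G) = (g : G) * x * (g : G)⁻¹ := h2
          rw [h3]; group
        rw [this]
        exact mul_mem (mul_mem (inv_mem g.2) y.2) g.2
      refine ⟨⟨x, hx⟩, (h _).2 ?_, rfl⟩
      have : g * ⟨x, hx⟩ * g⁻¹ = y := Subtype.ext h2.symm
      rw [this]; exact hy

/-- the automorphism of `A` induced by an element of its normaliser -/
noncomputable def autOf (A : Subgroup G) (m : G) (hm : m ∈ normalizer (A : Set G)) : MulAut ↥A :=
  { toFun := fun x => ⟨m * x * m⁻¹, (mem_normalizer_iff.1 hm _).1 x.2⟩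
    invFun := fun x => ⟨m⁻¹ * x * m, by
      have := (mem_normalizer_iff.1 hm (m⁻¹ * x * m)).2
      apply this
      have e : m * (m⁻¹ * x * m) * m⁻¹ = x := by group
      rw [e]; exact x.2⟩
    left_inv := fun x => by
      apply Subtype.ext
      show m⁻¹ * (m * x * m⁻¹) * m = x
      group
    right_inv := fun x => by
      apply Subtype.ext
      show m * (m⁻¹ * x * m) * m⁻¹ = x
      group
    map_mul' := fun x y => by
      apply Subtype.ext
      show m * (x * y) * m⁻¹ = (m * x * m⁻¹) * (m * y * m⁻¹)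
      group }

theorem autOf_apply (m : G) (hm : m ∈ normalizer (A : Set G)) (x : ↥A) :
    ((autOf A m hm x : ↥A) : G) = m * x * m⁻¹ := rfl

theorem autOf_pow (m : G) (hm : m ∈ normalizer (A : Set G)) (n : ℕ) (x : ↥A) :
    (((autOf A m hm ^ n) x : ↥A) : G) = m ^ n * x * (m ^ n)⁻¹ := by
  induction n with
  | zero => simp
  | succ n ih =>
    rw [pow_succ', MulAut.mul_apply, autOf_apply, ih, pow_succ']
    group

theorem exists_loc_of_rel [Finite G] [IsSimpleGroup ↥A] [Fintype F] (hF : Fintype.card F = 8) (R : Cfsg.Agent.ThreePrime.SzRel.Rel ↥A F) :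
    ∃ Z ρ i, Loc A (R.T.map A.subtype) Z ρ i := by
  classical
  have hF' : Fintype.card F = 2 ^ (2 * 1 + 1) := by rw [hF]; norm_num
  have hc : Nat.card F = 8 := by rw [Nat.card_eq_fintype_card, hF]
  have h8 : 8 ≤ Nat.card F := hc.ge
  obtain ⟨k, hk⟩ : ∃ k : Fˣ, k ≠ 1 := by
    have h1 : Nat.card Fˣ = 7 := by rw [Nat.card_units, hc]
    have : Nontrivial Fˣ := by
      have h2 : 1 < Nat.card Fˣ := by rw [h1]; norm_num
      exact Finite.one_lt_card_iff_nontrivial.mp h2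
    exact exists_ne 1
  have hk7 : k ^ 7 = 1 := by
    have h1 : Nat.card Fˣ = 7 := by rw [Nat.card_units, hc]
    rw [← h1]; exact pow_card_eq_one'
  have hgen : ∀ l : Fˣ, ∃ n : ℕ, l = k ^ n := by
    intro l
    have h1 : Nat.card Fˣ = 7 := by rw [Nat.card_units, hc]
    have : Fact (Nat.Prime 7) := ⟨by norm_num⟩
    have h2 := mem_powers_of_prime_card (p := 7) h1 hk (g' := l)
    obtain ⟨n, hn⟩ := h2
    exact ⟨n, hn.symm⟩
  have hdpow : ∀ n : ℕ, R.d (k ^ n) = R.d k ^ n := by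
    intro n
    induction n with
    | zero => rw [pow_zero, pow_zero, R.d_one]
    | succ n ih => rw [pow_succ, pow_succ, ← R.d_mul, ih]
  refine ⟨R.Z.map A.subtype, (R.d k : G), (R.w : G), ?_⟩
  refine
    { S_le := map_subtype_le _
      Z_le := map_mono R.Z_le_T
      card_S := ?_
      card_Z := ?_
      mem_Z := ?_
      sq_mem := ?_
      central := ?_
      comm_mem := ?_
      comm_eq := ?_
      two := ?_
      rho_mem := (R.d k).2
      rho_ne := ?_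
      rho_pow := ?_
      rho_norm := ?_
      fpf := ?_
      trans := ?_
      i_mem := R.w.2
      i_sq := ?_
      i_ne := ?_
      i_inv := ?_
      i_not := ?_
      cent_rho := ?_
      ti := ?_
      norm := ?_
      cent := ?_
      gen := ?_
      max := ?_
      conj := ?_
      center := ?_
      aut_two := ?_
      aut_odd := ?_
      aut_Z := ?_ }
  · rw [Nat.card_congr (R.T.equivMapOfInjective A.subtype A.subtype_injective).symm.toEquiv, R.card_T, hc]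
  · rw [Nat.card_congr (R.Z.equivMapOfInjective A.subtype A.subtype_injective).symm.toEquiv, R.card_Z, hc]
  · rintro _ ⟨x, hx, rfl⟩
    constructor
    · rintro ⟨y, hy, h⟩
      have : y = x := Subtype.ext h
      subst this
      have := (R.mem_Z_iff hx).1 hy
      exact congrArg Subtype.val this
    · intro h
      exact ⟨x, (R.mem_Z_iff hx).2 (Subtype.ext h), rfl⟩
  · rintro _ ⟨x, hx, rfl⟩
    exact ⟨x * x, R.sq_mem_Z hx, rfl⟩
  · rintro _ ⟨z, hz, rfl⟩ _ ⟨x, hx, rfl⟩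
    exact congrArg Subtype.val (R.Z_central hz hx)
  · rintro _ ⟨x, hx, rfl⟩ _ ⟨y, hy, rfl⟩
    exact ⟨⁅x, y⁆, R.commutator_mem_Z hx hy, rfl⟩
  · rw [← map_commutator, ← R.Z_eq h8]
  · rintro _ ⟨x, hx, rfl⟩ hxZ
    obtain ⟨y, hy, y', hy', h1, h2, h3⟩ := R.exists_two_comm h8 hx (fun h => hxZ ⟨x, h, rfl⟩)
    refine ⟨y, ⟨y, hy, rfl⟩, y', ⟨y', hy', rfl⟩, ?_, ?_, ?_⟩
    · intro h; exact h1 (Subtype.ext h)
    · intro h; exact h2 (Subtype.ext h)
    · intro h; exact h3 (Subtype.ext h)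
  · intro h
    have h1 : R.d k = 1 := Subtype.ext h
    rw [← R.d_one] at h1
    exact hk (R.d_inj h1)
  · have h1 : R.d k ^ 7 = 1 := by rw [← hdpow, hk7, R.d_one]
    exact congrArg Subtype.val h1
  · exact mem_normalizer_map_iff.2 (R.D_le (R.d_mem k))
  · rintro _ ⟨x, ⟨a, b, rfl⟩, rfl⟩ h
    have h1 : R.d k * R.u a b = R.u a b * R.d k := Subtype.ext h
    rcases R.fpf (mul_inv_eq_iff_eq_mul.mpr h1) with h2 | ⟨h2, h3⟩
    · exact absurd h2 hk
    · rw [h2, h3, R.u_zero]; rfl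
  · rintro _ ⟨z, hz, rfl⟩ _ ⟨z', hz', rfl⟩ h1 h2
    obtain ⟨d, ⟨l, rfl⟩, h3⟩ := R.trans z (R.Z_le_T hz) z' (R.Z_le_T hz') (fun h => h1 (by rw [h]; rfl))
      (fun h => h2 (by rw [h]; rfl)) ((R.mem_Z_iff (R.Z_le_T hz)).1 hz) ((R.mem_Z_iff (R.Z_le_T hz')).1 hz')
    obtain ⟨n, rfl⟩ := hgen l
    rw [hdpow] at h3
    exact ⟨n, congrArg Subtype.val h3⟩
  · exact congrArg Subtype.val R.w_mul_w
  · intro h; exact R.w_ne_one (Subtype.ext h)
  · exact congrArg Subtype.val (R.conj_d_pow_w k)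
  · intro h; exact R.w_not_mem_normalizer (mem_normalizer_map_iff.1 h)
  · intro g hg h
    obtain ⟨l, h1⟩ := R.cent_d hk (g := ⟨g, hg⟩) (Subtype.ext h)
    obtain ⟨n, rfl⟩ := hgen l
    rw [hdpow] at h1
    exact ⟨n, congrArg Subtype.val h1⟩
  · rintro g hg _ ⟨x, hx, rfl⟩ hx1 ⟨y, hy, h⟩
    have h1 : y = ⟨g, hg⟩ * x * (⟨g, hg⟩ : ↥A)⁻¹ := Subtype.ext h
    rw [h1] at hy
    have := R.ti hx (fun h => hx1 (by rw [h]; rfl)) hy
    exact mem_normalizer_map_iff.2 this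
  · intro g hg h
    obtain ⟨a, b, l, h1⟩ := R.norm (g := ⟨g, hg⟩) (mem_normalizer_map_iff.1 h)
    obtain ⟨n, rfl⟩ := hgen l
    rw [hdpow] at h1
    exact ⟨R.u a b, ⟨_, R.u_mem a b, rfl⟩, n, congrArg Subtype.val h1⟩
  · rintro _ ⟨x, hx, rfl⟩ hx1 g hg h
    exact ⟨⟨g, hg⟩, R.mem_T_of_comm hx (fun h => hx1 (by rw [h]; rfl)) (Subtype.ext h), rfl⟩
  · intro H hSH g hg hgn h
    have h1 : H.subgroupOf A = ⊤ := by
      refine R.sup_eq_top (g := ⟨g, hg⟩) ?_ ?_ ?_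
      · intro x hx
        exact mem_subgroupOf.2 (hSH ⟨x, hx, rfl⟩)
      · intro x hx
        exact mem_subgroupOf.2 (h _ ⟨x, hx, rfl⟩)
      · intro h2; exact hgn (mem_normalizer_map_iff.2 h2)
    exact subgroupOf_eq_top.mp h1
  · intro H hSH hρ g hg hgH hgn
    have h1 : H.subgroupOf A = ⊤ := by
      refine R.eq_top_of_le (g := ⟨g, hg⟩) ?_ ?_ ?_ ?_
      · intro x hx
        exact mem_subgroupOf.2 (hSH ⟨x, hx, rfl⟩)
      · rintro x ⟨l, rfl⟩
        obtain ⟨n, rfl⟩ := hgen l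
        rw [hdpow]
        exact mem_subgroupOf.2 (pow_mem hρ n)
      · exact mem_subgroupOf.2 hgH
      · intro h2; exact hgn (mem_normalizer_map_iff.2 h2)
    exact subgroupOf_eq_top.mp h1
  · intro x hx hxx
    have : Fact (Nat.Prime 2) := ⟨Nat.prime_two⟩
    have : Finite ↥A := inferInstance
    obtain ⟨P, hP⟩ := R.exists_sylow_eq (le_refl 1) hF'
    have h2 : IsPGroup 2 (zpowers (⟨x, hx⟩ : ↥A)) := by
      rintro ⟨y, n, rfl⟩
      refine ⟨1, ?_⟩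
      apply Subtype.ext
      show ((⟨x, hx⟩ : ↥A) ^ n) ^ 2 ^ 1 = 1
      rw [pow_one, ← zpow_natCast, zpow_comm, zpow_natCast, pow_two]
      have : (⟨x, hx⟩ : ↥A) * ⟨x, hx⟩ = 1 := Subtype.ext hxx
      rw [this, one_zpow]
    obtain ⟨Q, hQ⟩ := h2.exists_le_sylow
    obtain ⟨a, ha⟩ := MulAction.exists_smul_eq ↥A Q P
    have h3 : a * ⟨x, hx⟩ * a⁻¹ ∈ R.T := by
      rw [← hP, ← ha]
      rw [Sylow.coe_subgroup_smul]
      have := Subgroup.smul_mem_pointwise_smul _ (MulAut.conj a) _ (hQ (mem_zpowers _))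
      exact this
    refine ⟨a, a.2, a * ⟨x, hx⟩ * a⁻¹, ?_, rfl⟩
    rw [SetLike.mem_coe, R.mem_Z_iff h3]
    have : (⟨x, hx⟩ : ↥A) * ⟨x, hx⟩ = 1 := Subtype.ext hxx
    calc a * ⟨x, hx⟩ * a⁻¹ * (a * ⟨x, hx⟩ * a⁻¹) = a * (⟨x, hx⟩ * ⟨x, hx⟩) * a⁻¹ := by group
      _ = 1 := by rw [this]; group
  · intro g hg h
    have := R.center_trivial (g := ⟨g, hg⟩) (fun x => Subtype.ext (h x x.2))
    exact congrArg Subtype.val this
  · rintro m hm ⟨n, hn⟩
    obtain ⟨j, hj⟩ := R.inner (le_refl 1) hF' (autOf A m hm) ⟨n, by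
      ext x
      rw [autOf_pow, hn]
      simp⟩
    refine ⟨j, j.2, ?_⟩
    rw [mem_centralizer_iff]
    intro x hx
    have h1 := congrArg (fun φ : MulAut ↥A => ((φ ⟨x, hx⟩ : ↥A) : G)) hj
    simp only [autOf_apply, MulAut.conj_apply] at h1
    have h2 : m * x * m⁻¹ = j * x * (j : G)⁻¹ := h1
    calc x * ((j : G)⁻¹ * m) = (j : G)⁻¹ * (j * x * (j : G)⁻¹) * m := by group
      _ = (j : G)⁻¹ * (m * x * m⁻¹) * m := by rw [h2]
      _ = (j : G)⁻¹ * m * x := by group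
  · intro m hm hodd h
    have h1 := R.cent (le_refl 1) hF' (autOf A m hm) (by
      refine Odd.of_dvd_nat hodd ?_
      apply orderOf_dvd_of_pow_eq_one
      ext x
      rw [autOf_pow, pow_orderOf_eq_one]
      simp) (by
      intro x hx
      apply Subtype.ext
      rw [autOf_apply]
      exact mul_inv_eq_iff_eq_mul.mpr (h _ ⟨x, hx, rfl⟩))
    rw [mem_centralizer_iff]
    intro x hx
    have h2 := congrArg (fun φ : MulAut ↥A => ((φ ⟨x, hx⟩ : ↥A) : G)) h1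
    simp only [autOf_apply, MulAut.one_apply] at h2
    exact (mul_inv_eq_iff_eq_mul.mp h2).symm
  · intro m hm h
    obtain ⟨t, ht, h1⟩ := R.aut_cent_Z (le_refl 1) hF' (autOf A m hm) (by
      intro z hz
      apply Subtype.ext
      rw [autOf_apply]
      exact mul_inv_eq_iff_eq_mul.mpr (h _ ⟨z, hz, rfl⟩))
    refine ⟨t, ⟨t, ht, rfl⟩, ?_⟩
    rw [mem_centralizer_iff]
    intro x hx
    have h2 := congrArg (fun φ : MulAut ↥A => ((φ ⟨x, hx⟩ : ↥A) : G)) h1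
    simp only [autOf_apply, MulAut.conj_apply] at h2
    have h3 : m * x * m⁻¹ = t * x * (t : G)⁻¹ := h2
    calc x * ((t : G)⁻¹ * m) = (t : G)⁻¹ * (t * x * (t : G)⁻¹) * m := by group
      _ = (t : G)⁻¹ * (m * x * m⁻¹) * m := by rw [h3]
      _ = (t : G)⁻¹ * m * x := by group

theorem exists_loc [Finite G] {A S : Subgroup G} (hA : IsSz8 A) (hS : S ≤ A) (hc : Nat.card S = 64) :
    ∃ Z ρ i, Loc A S Z ρ i := by
  classical
  obtain ⟨hsimple, F, iF, iF', hF, ⟨R⟩⟩ := hA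
  have hF' : Fintype.card F = 2 ^ (2 * 1 + 1) := by rw [hF]; norm_num
  have hcF : Nat.card F = 8 := by rw [Nat.card_eq_fintype_card, hF]
  have : Fact (Nat.Prime 2) := ⟨Nat.prime_two⟩
  obtain ⟨P, hP⟩ := R.exists_sylow_eq (le_refl 1) hF'
  have hcP : Nat.card P = 64 := by
    rw [show Nat.card P = Nat.card R.T by rw [← hP], R.card_T, hcF]
  -- `S` as a Sylow subgroup
  have hcS : Nat.card (S.subgroupOf A) = 64 := by
    rw [Nat.card_congr (subgroupOfEquivOfLe hS).toEquiv, hc]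
  have h2 : IsPGroup 2 (S.subgroupOf A) := IsPGroup.of_card (n := 6) (by rw [hcS]; norm_num)
  obtain ⟨Q, hQ⟩ := h2.exists_le_sylow
  have hQ' : (Q : Subgroup ↥A) = S.subgroupOf A := by
    symm
    apply Subgroup.eq_of_le_of_card_ge hQ
    rw [hcS]
    have h3 : Nat.card Q = Nat.card P := by
      rw [Sylow.card_eq_multiplicity, Sylow.card_eq_multiplicity]
    rw [← hcP]
    exact h3.le
  obtain ⟨a, ha⟩ := MulAction.exists_smul_eq ↥A P Q
  let R' := R.map (MulAut.conj a)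
  have hT : R'.T.map A.subtype = S := by
    have h4 : R'.T = S.subgroupOf A := by
      rw [← hQ', ← ha]
      ext x
      rw [Sylow.coe_subgroup_smul, Subgroup.mem_pointwise_smul_iff_inv_smul_mem, hP]
      constructor
      · rintro ⟨c, e, rfl⟩
        refine ⟨c, e, ?_⟩
        show (MulAut.conj a)⁻¹ (R'.u c e) = R.u c e
        exact (MulAut.conj a).symm_apply_apply _
      · rintro ⟨c, e, h⟩
        refine ⟨c, e, ?_⟩
        show x = (MulAut.conj a) (R.u c e)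
        rw [← h]
        exact ((MulAut.conj a).apply_symm_apply x).symm
    rw [h4, subgroupOf_map_subtype, inf_eq_left.mpr hS]
  rw [← hT]
  exact exists_loc_of_rel hF R'

theorem card_sylow {G : Type*} [Group G] [Finite G] {A : Subgroup G} (hA : IsSz8 A) (P : Sylow 2 ↥A) :
    Nat.card P = 64 := by
  obtain ⟨hsimple, F, iF, iF', hF, ⟨R⟩⟩ := hA
  have hF' : Fintype.card F = 2 ^ (2 * 1 + 1) := by rw [hF]; norm_num
  have hcF : Nat.card F = 8 := by rw [Nat.card_eq_fintype_card, hF]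
  have : Fact (Nat.Prime 2) := ⟨Nat.prime_two⟩
  obtain ⟨Q, hQ⟩ := R.exists_sylow_eq (le_refl 1) hF'
  have h3 : Nat.card P = Nat.card Q := by
    rw [Sylow.card_eq_multiplicity, Sylow.card_eq_multiplicity]
  rw [h3, show Nat.card Q = Nat.card R.T by rw [← hQ], R.card_T, hcF]

end construct

end Cfsg.Agent.RuRed
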