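import Mathlib
import Cfsg.Agent.RuRed.Loc
import Cfsg.Agent.RuRed.SC

/-!
# Pairs of standard subgroups isomorphic to `Sz(8)`: basic facts

`Std A`: `A ≅ Sz(8)` with `C_G(A)` of even order and tightly embedded. `Pr A B`: two such subgroups with
`C(A) ∩ C(B)` of odd order which do not commute. `Quad A B P`: moreover `P` is a Sylow 2-subgroup of
`N(A) ∩ N(B)` and `P ∩ A`, `P ∩ B` are Sylow in `A`, `B`, `P ∩ C(A)`, `P ∩ C(B)` are nontrivial.
-/

set_option autoImplicit false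
set_option linter.unusedSectionVars false

open scoped commutatorElement Pointwise

namespace Cfsg.Agent.RuRed

open Subgroup

variable {G : Type*} [Group G]

/-- `A ≅ Sz(8)` with tightly embedded centralizer of even order. -/
structure Std (A : Subgroup G) : Prop where
  sz : IsSz8 A
  ti : ∀ x k : G, k ∈ centralizer (A : Set G) → orderOf k = 2 → x * k * x⁻¹ ∈ centralizer (A : Set G) →
    x ∈ normalizer (A : Set G)
  even : ∃ k ∈ centralizer (A : Set G), orderOf k = 2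

/-- Two different members of the class. -/
structure Pr (A B : Subgroup G) : Prop where
  a : Std A
  b : Std B
  odd : ∀ k ∈ centralizer (A : Set G), k ∈ centralizer (B : Set G) → orderOf k ≠ 2
  nc : ¬ B ≤ centralizer (A : Set G)

theorem Pr.symm {A B : Subgroup G} (h : Pr A B) : Pr B A where
  a := h.b
  b := h.a
  odd := fun k hk hk' => h.odd k hk' hk
  nc := fun h1 => h.nc (by
    intro b hb
    rw [mem_centralizer_iff]
    intro a ha
    have := mem_centralizer_iff.1 (h1 ha) b hb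
    exact this.symm)

/-! ### General facts -/

theorem comm_of_cent {A : Subgroup G} {k a : G} (hk : k ∈ centralizer (A : Set G)) (ha : a ∈ A) :
    k * a = a * k := (mem_centralizer_iff.1 hk a ha).symm

theorem mem_cent_iff {A : Subgroup G} {k : G} : k ∈ centralizer (A : Set G) ↔ ∀ a ∈ A, k * a = a * k := by
  rw [mem_centralizer_iff]
  exact ⟨fun h a ha => (h a ha).symm, fun h a ha => (h a ha).symm⟩

theorem conj_mem_of_norm {A : Subgroup G} {m a : G} (hm : m ∈ normalizer (A : Set G)) (ha : a ∈ A) :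
    m * a * m⁻¹ ∈ A := (mem_normalizer_iff.1 hm a).1 ha

theorem conj_mem_cent {A : Subgroup G} {m k : G} (hm : m ∈ normalizer (A : Set G))
    (hk : k ∈ centralizer (A : Set G)) : m * k * m⁻¹ ∈ centralizer (A : Set G) := by
  rw [mem_cent_iff]
  intro a ha
  have h1 : m⁻¹ * a * m ∈ A := by
    have := conj_mem_of_norm (inv_mem hm) ha
    rwa [inv_inv] at this
  have h2 := comm_of_cent hk h1
  calc m * k * m⁻¹ * a = m * (k * (m⁻¹ * a * m)) * m⁻¹ := by group
    _ = m * ((m⁻¹ * a * m) * k) * m⁻¹ := by rw [h2]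
    _ = a * (m * k * m⁻¹) := by group

theorem cent_le_norm {A : Subgroup G} : centralizer (A : Set G) ≤ normalizer (A : Set G) :=
  Subgroup.centralizer_le_normalizer _

theorem self_le_norm {A : Subgroup G} : A ≤ normalizer (A : Set G) := le_normalizer

theorem Std.mem_norm_of_comm {A : Subgroup G} (h : Std A) {k g : G} (hk : k ∈ centralizer (A : Set G))
    (hk2 : orderOf k = 2) (hg : g * k = k * g) : g ∈ normalizer (A : Set G) := by
  refine h.ti g k hk hk2 ?_
  rw [hg, mul_inv_cancel_right]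
  exact hk

/-- a normalising element of a finite group -/
theorem mem_norm_of_conj_le [Finite G] {H : Subgroup G} {g : G} (h : ∀ x ∈ H, g * x * g⁻¹ ∈ H) :
    g ∈ normalizer (H : Set G) := by
  have h1 : ∀ n : ℕ, ∀ x ∈ H, g ^ n * x * (g ^ n)⁻¹ ∈ H := by
    intro n
    induction n with
    | zero => intro x hx; simpa using hx
    | succ n ih =>
      intro x hx
      have := h _ (ih x hx)
      rw [pow_succ']
      have e : g * g ^ n * x * (g * g ^ n)⁻¹ = g * (g ^ n * x * (g ^ n)⁻¹) * g⁻¹ := by group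
      rw [e]; exact this
  rw [mem_normalizer_iff]
  intro x
  refine ⟨h x, fun hx => ?_⟩
  have h2 := h1 (orderOf g - 1) _ hx
  have h3 : g ^ (orderOf g - 1) = g⁻¹ := by
    rw [eq_inv_iff_mul_eq_one, ← pow_succ, Nat.sub_add_cancel (orderOf_pos g), pow_orderOf_eq_one]
  rw [h3] at h2
  have e : g⁻¹ * (g * x * g⁻¹) * (g⁻¹)⁻¹ = x := by group
  rwa [e] at h2

theorem exists_two_pow_of_mem {P : Subgroup G} (hP : IsPGroup 2 P) {x : G} (hx : x ∈ P) :
    ∃ n : ℕ, x ^ 2 ^ n = 1 := by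
  obtain ⟨n, hn⟩ := hP ⟨x, hx⟩
  exact ⟨n, congrArg Subtype.val hn⟩

theorem isPGroup_zpowers {x : G} (h : ∃ n : ℕ, x ^ 2 ^ n = 1) : IsPGroup 2 (zpowers x) := by
  obtain ⟨n, hn⟩ := h
  rintro ⟨y, k, rfl⟩
  refine ⟨n, ?_⟩
  apply Subtype.ext
  show (x ^ k) ^ 2 ^ n = 1
  rw [← zpow_natCast, zpow_comm, zpow_natCast, hn, one_zpow]

/-- a 2-element which is not trivial has a power which is an involution -/
theorem exists_pow_orderOf_two {x : G} (h : ∃ n : ℕ, x ^ 2 ^ n = 1) (hx : x ≠ 1) :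
    ∃ m : ℕ, orderOf (x ^ m) = 2 := by
  obtain ⟨n, hn⟩ := h
  have hn' : ∃ n : ℕ, x ^ 2 ^ n = 1 := ⟨n, hn⟩
  classical
  have h0 := Nat.find_spec hn'
  have h1 : Nat.find hn' ≠ 0 := by
    intro h
    rw [h, pow_zero, pow_one] at h0
    exact hx h0
  obtain ⟨k, hk⟩ := Nat.exists_eq_succ_of_ne_zero h1
  refine ⟨2 ^ k, ?_⟩
  apply orderOf_eq_prime
  · rw [← pow_mul, ← pow_succ, ← Nat.succ_eq_add_one, ← hk]
    exact h0
  · exact Nat.find_min hn' (by rw [hk]; exact Nat.lt_succ_self k)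

theorem sq_eq_one_of_orderOf {x : G} (h : orderOf x = 2) : x * x = 1 := SC.sq_one h

theorem orderOf_eq_two {x : G} (h : x * x = 1) (h1 : x ≠ 1) : orderOf x = 2 := SC.order_two h h1

section finite

variable [Finite G]

/-- a maximal 2-subgroup of `D` absorbs conjugates of 2-subgroups of `D` -/
theorem conj_into {D P Q : Subgroup G} (hP : IsPGroup 2 P) (hPD : P ≤ D)
    (hmax : ∀ T : Subgroup G, IsPGroup 2 T → T ≤ D → P ≤ T → T = P) (hQ : IsPGroup 2 Q) (hQD : Q ≤ D) :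
    ∃ d ∈ D, ∀ q ∈ Q, d * q * d⁻¹ ∈ P := by
  have : Fact (Nat.Prime 2) := ⟨Nat.prime_two⟩
  have h1 : IsPGroup 2 (P.subgroupOf D) := hP.of_injective (Subgroup.subgroupOfEquivOfLe hPD).toMonoidHom
    (Subgroup.subgroupOfEquivOfLe hPD).injective
  have h2 : IsPGroup 2 (Q.subgroupOf D) := hQ.of_injective (Subgroup.subgroupOfEquivOfLe hQD).toMonoidHom
    (Subgroup.subgroupOfEquivOfLe hQD).injective
  obtain ⟨P', hP'⟩ := h1.exists_le_sylow
  obtain ⟨Q', hQ'⟩ := h2.exists_le_sylow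
  have h3 : (P' : Subgroup ↥D).map D.subtype = P := by
    refine hmax _ (P'.2.map _) (map_subtype_le _) ?_
    intro x hx
    exact ⟨⟨x, hPD hx⟩, hP' (mem_subgroupOf.2 hx), rfl⟩
  obtain ⟨c, hc⟩ := MulAction.exists_smul_eq ↥D Q' P'
  refine ⟨c, c.2, fun q hq => ?_⟩
  rw [← h3]
  have h4 : c * ⟨q, hQD hq⟩ * c⁻¹ ∈ P' := by
    rw [← hc]
    exact ⟨_, hQ' (mem_subgroupOf.2 hq), rfl⟩
  exact ⟨_, h4, rfl⟩

/-- existence of a maximal 2-subgroup above a given one -/
theorem exists_max {D Q : Subgroup G} (hQ : IsPGroup 2 Q) (hQD : Q ≤ D) :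
    ∃ P : Subgroup G, IsPGroup 2 P ∧ P ≤ D ∧ Q ≤ P ∧
      ∀ T : Subgroup G, IsPGroup 2 T → T ≤ D → P ≤ T → T = P := by
  have : Fact (Nat.Prime 2) := ⟨Nat.prime_two⟩
  have h2 : IsPGroup 2 (Q.subgroupOf D) := hQ.of_injective (Subgroup.subgroupOfEquivOfLe hQD).toMonoidHom
    (Subgroup.subgroupOfEquivOfLe hQD).injective
  obtain ⟨P', hP'⟩ := h2.exists_le_sylow
  refine ⟨(P' : Subgroup ↥D).map D.subtype, P'.2.map _, map_subtype_le _, ?_, ?_⟩
  · intro x hx
    exact ⟨⟨x, hQD hx⟩, hP' (mem_subgroupOf.2 hx), rfl⟩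
  · intro T hT hTD hPT
    have h3 : IsPGroup 2 (T.subgroupOf D) := hT.of_injective (Subgroup.subgroupOfEquivOfLe hTD).toMonoidHom
      (Subgroup.subgroupOfEquivOfLe hTD).injective
    have h4 : (P' : Subgroup ↥D) ≤ T.subgroupOf D := by
      intro x hx
      exact mem_subgroupOf.2 (hPT ⟨x, hx, rfl⟩)
    have h5 : T.subgroupOf D = P' := P'.3 h3 h4
    rw [← h5, subgroupOf_map_subtype, inf_eq_left.mpr hTD]

theorem card_le_of_two {A Q : Subgroup G} (hA : IsSz8 A) (hQ : IsPGroup 2 Q) (hQA : Q ≤ A) :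
    Nat.card Q ≤ 64 := by
  have : Fact (Nat.Prime 2) := ⟨Nat.prime_two⟩
  have h2 : IsPGroup 2 (Q.subgroupOf A) := hQ.of_injective (Subgroup.subgroupOfEquivOfLe hQA).toMonoidHom
    (Subgroup.subgroupOfEquivOfLe hQA).injective
  obtain ⟨P', hP'⟩ := h2.exists_le_sylow
  rw [← card_sylow hA P', ← Nat.card_congr (subgroupOfEquivOfLe hQA).toEquiv]
  exact Nat.card_le_card_of_injective _ (Subgroup.inclusion_injective hP')

theorem eq_of_two {A S Q : Subgroup G} (hA : IsSz8 A) (hS : Nat.card S = 64) (hSQ : S ≤ Q)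
    (hQ : IsPGroup 2 Q) (hQA : Q ≤ A) : Q = S := by
  symm
  apply Subgroup.eq_of_le_of_card_ge hSQ
  rw [hS]
  exact card_le_of_two hA hQ hQA

/-- a 2-element of `A` normalising the Sylow subgroup `S` is in `S` -/
theorem mem_of_two {A S : Subgroup G} (hA : IsSz8 A) (hSA : S ≤ A) (hS : Nat.card S = 64) {a : G} (ha : a ∈ A)
    (h2 : ∃ n : ℕ, a ^ 2 ^ n = 1) (hn : a ∈ normalizer (S : Set G)) : a ∈ S := by
  have h1 : IsPGroup 2 S := IsPGroup.of_card (n := 6) (by rw [hS]; norm_num)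
  have h3 : zpowers a ≤ normalizer (S : Set G) := by
    rw [zpowers_le]; exact hn
  have h4 := IsPGroup.to_sup_of_normal_right' (isPGroup_zpowers h2) h1 h3
  have h5 := eq_of_two hA hS le_sup_right h4 (sup_le (by rw [zpowers_le]; exact ha) hSA)
  rw [← h5]
  exact mem_sup_left (mem_zpowers a)

/-- `A ∩ C(A) = 1` -/
theorem eq_one_of_mem {A : Subgroup G} (hA : IsSz8 A) {x : G} (hx : x ∈ A) (hx' : x ∈ centralizer (A : Set G)) :
    x = 1 := by
  obtain ⟨hs, F, iF, iF', hF, ⟨R⟩⟩ := hA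
  have := R.center_trivial (g := ⟨x, hx⟩) (fun y => Subtype.ext (comm_of_cent hx' y.2))
  exact congrArg Subtype.val this

/-- decomposition of 2-elements of `N(A)` -/
theorem exists_decomp {A : Subgroup G} (hA : IsSz8 A) {m : G} (hm : m ∈ normalizer (A : Set G))
    (h2 : ∃ n : ℕ, m ^ 2 ^ n = 1) : ∃ k ∈ centralizer (A : Set G), ∃ a ∈ A, m = k * a ∧
      (∃ n : ℕ, k ^ 2 ^ n = 1) ∧ ∃ n : ℕ, a ^ 2 ^ n = 1 := by
  have : Fact (Nat.Prime 2) := ⟨Nat.prime_two⟩
  obtain ⟨P⟩ : Nonempty (Sylow 2 ↥A) := inferInstance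
  have hc : Nat.card ((P : Subgroup ↥A).map A.subtype) = 64 := by
    rw [← card_sylow hA P]
    exact Nat.card_congr ((P : Subgroup ↥A).equivMapOfInjective A.subtype A.subtype_injective).symm.toEquiv
  obtain ⟨Z, ρ, i, L⟩ := exists_loc hA (map_subtype_le (P : Subgroup ↥A)) hc
  obtain ⟨a, ha, h3⟩ := L.aut_two m hm h2
  obtain ⟨n, hn⟩ := h2
  have hcomm : Commute (a⁻¹ * m) a := comm_of_cent h3 ha
  have h4 : m = (a⁻¹ * m) * a := by
    rw [hcomm.eq]; group
  have h5 : (a⁻¹ * m) ^ 2 ^ n * a ^ 2 ^ n = 1 := by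
    rw [← hcomm.mul_pow, ← h4, hn]
  have h6 : a ^ 2 ^ n = 1 := by
    refine eq_one_of_mem hA (pow_mem ha _) ?_
    have : a ^ 2 ^ n = ((a⁻¹ * m) ^ 2 ^ n)⁻¹ := (eq_inv_of_mul_eq_one_right h5)
    rw [this]
    exact inv_mem (pow_mem h3 _)
  have h7 : (a⁻¹ * m) ^ 2 ^ n = 1 := by
    rw [h6, mul_one] at h5
    exact h5
  exact ⟨a⁻¹ * m, h3, a, ha, h4, ⟨n, h7⟩, ⟨n, h6⟩⟩

/-- decomposition inside a 2-subgroup of `N(A)` containing a Sylow subgroup of `A` -/
theorem decomp {A P : Subgroup G} (hA : IsSz8 A) (hP : IsPGroup 2 P) (hPA : P ≤ normalizer (A : Set G))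
    (hc : Nat.card (P ⊓ A : Subgroup G) = 64) {p : G} (hp : p ∈ P) :
    ∃ k ∈ P, k ∈ centralizer (A : Set G) ∧ ∃ s ∈ P ⊓ A, p = k * s := by
  obtain ⟨k, hk, a, ha, h1, h2, h3⟩ := exists_decomp hA (hPA hp) (exists_two_pow_of_mem hP hp)
  have h4 : a ∈ P ⊓ A := by
    refine mem_of_two hA inf_le_right hc ha h3 ?_
    refine mem_norm_of_conj_le fun x hx => ?_
    have h5 : p * x * p⁻¹ ∈ P ⊓ A := mem_inf.2
      ⟨mul_mem (mul_mem hp (mem_inf.1 hx).1) (inv_mem hp), conj_mem_of_norm (hPA hp) (mem_inf.1 hx).2⟩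
    have h6 : k * (a * x * a⁻¹) = (a * x * a⁻¹) * k :=
      comm_of_cent hk (mul_mem (mul_mem ha (mem_inf.1 hx).2) (inv_mem ha))
    have h7 : p * x * p⁻¹ = a * x * a⁻¹ := by
      calc p * x * p⁻¹ = k * (a * x * a⁻¹) * k⁻¹ := by rw [h1]; group
        _ = a * x * a⁻¹ := by rw [h6]; group
    rw [← h7]; exact h5
  refine ⟨k, ?_, hk, a, h4, h1⟩
  have : k = p * a⁻¹ := by rw [h1]; group
  rw [this]
  exact mul_mem hp (inv_mem (mem_inf.1 h4).1)

end finite

/-- `P` is a Sylow 2-subgroup of `N(A) ∩ N(B)` -/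
structure Quad (A B P : Subgroup G) : Prop extends Pr A B where
  two : IsPGroup 2 P
  leA : P ≤ normalizer (A : Set G)
  leB : P ≤ normalizer (B : Set G)
  max : ∀ T : Subgroup G, IsPGroup 2 T → T ≤ normalizer (A : Set G) ⊓ normalizer (B : Set G) → P ≤ T → T = P
  cardA : Nat.card (P ⊓ A : Subgroup G) = 64
  cardB : Nat.card (P ⊓ B : Subgroup G) = 64
  neA : ∃ k ∈ P, k ∈ centralizer (A : Set G) ∧ orderOf k = 2
  neB : ∃ k ∈ P, k ∈ centralizer (B : Set G) ∧ orderOf k = 2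

theorem Quad.symm {A B P : Subgroup G} (h : Quad A B P) : Quad B A P where
  toPr := h.toPr.symm
  two := h.two
  leA := h.leB
  leB := h.leA
  max := fun T h1 h2 h3 => h.max T h1 (by rw [inf_comm]; exact h2) h3
  cardA := h.cardB
  cardB := h.cardA
  neA := h.neB
  neB := h.neA

section finite

variable [Finite G]

/-- first half of the existence of `Quad` -/
theorem half_quad {A B P : Subgroup G} (h : Pr A B) (hP : IsPGroup 2 P)
    (hle : P ≤ normalizer (A : Set G) ⊓ normalizer (B : Set G))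
    (hmax : ∀ T : Subgroup G, IsPGroup 2 T → T ≤ normalizer (A : Set G) ⊓ normalizer (B : Set G) → P ≤ T → T = P)
    {y : G} (hy : y ∈ centralizer (B : Set G)) (hy2 : orderOf y = 2) (hyA : y ∈ normalizer (A : Set G)) :
    Nat.card (P ⊓ A : Subgroup G) = 64 ∧ (∃ k ∈ P, k ∈ centralizer (A : Set G) ∧ orderOf k = 2) ∧
      ∃ k ∈ P, k ∈ centralizer (B : Set G) ∧ orderOf k = 2 := by
  have : Fact (Nat.Prime 2) := ⟨Nat.prime_two⟩
  obtain ⟨Q⟩ : Nonempty (Sylow 2 ↥A) := inferInstance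
  have hc : Nat.card ((Q : Subgroup ↥A).map A.subtype) = 64 := by
    rw [← card_sylow h.a.sz Q]
    exact Nat.card_congr ((Q : Subgroup ↥A).equivMapOfInjective A.subtype A.subtype_injective).symm.toEquiv
  obtain ⟨Z, ρ, i, L⟩ := exists_loc h.a.sz (map_subtype_le (Q : Subgroup ↥A)) hc
  set S := (Q : Subgroup ↥A).map A.subtype
  have hy1 : y * y = 1 := sq_eq_one_of_orderOf hy2
  obtain ⟨k, hk, a, ha, hka, -, -⟩ := exists_decomp h.a.sz hyA ⟨1, by rw [pow_one, pow_two]; exact hy1⟩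
  have hcomm := comm_of_cent hk ha
  have h1 : (k * k) * (a * a) = 1 := by
    calc (k * k) * (a * a) = k * (k * a) * a := by group
      _ = k * (a * k) * a := by rw [hcomm]
      _ = (k * a) * (k * a) := by group
      _ = 1 := by rw [← hka]; exact hy1
  have h2 : a * a = 1 := by
    refine eq_one_of_mem h.a.sz (mul_mem ha ha) ?_
    rw [eq_inv_of_mul_eq_one_right h1]
    exact inv_mem (mul_mem hk hk)
  have h3 : k * k = 1 := by rw [h2, mul_one] at h1; exact h1
  -- a Sylow subgroup of `A` commuting with `y`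
  obtain ⟨b, hb, hbz⟩ := L.conj a ha h2
  have hS' : ∀ x ∈ S, (b⁻¹ * x * b) * y = y * (b⁻¹ * x * b) := by
    intro x hx
    have hxA : b⁻¹ * x * b ∈ A := mul_mem (mul_mem (inv_mem hb) (L.S_le hx)) hb
    have e1 := comm_of_cent hk hxA
    have e2 : (b⁻¹ * x * b) * a = a * (b⁻¹ * x * b) := by
      have := L.central _ hbz x hx
      calc (b⁻¹ * x * b) * a = b⁻¹ * (x * (b * a * b⁻¹)) * b := by group
        _ = b⁻¹ * ((b * a * b⁻¹) * x) * b := by rw [this]
        _ = a * (b⁻¹ * x * b) := by group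
    calc (b⁻¹ * x * b) * y = (b⁻¹ * x * b) * (k * a) := by rw [← hka]
      _ = ((b⁻¹ * x * b) * k) * a := by group
      _ = (k * (b⁻¹ * x * b)) * a := by rw [← e1]
      _ = k * ((b⁻¹ * x * b) * a) := by group
      _ = (k * a) * (b⁻¹ * x * b) := by rw [e2]; group
      _ = y * (b⁻¹ * x * b) := by rw [← hka]
  set S' : Subgroup G := S.map (MulAut.conj b⁻¹).toMonoidHom
  have hS'mem : ∀ x ∈ S', ∃ s ∈ S, x = b⁻¹ * s * b := by
    rintro _ ⟨s, hs, rfl⟩
    refine ⟨s, hs, ?_⟩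
    simp
  have hS'A : S' ≤ A := by
    intro x hx
    obtain ⟨s, hs, rfl⟩ := hS'mem x hx
    exact mul_mem (mul_mem (inv_mem hb) (L.S_le hs)) hb
  have hS'B : S' ≤ normalizer (B : Set G) := by
    intro x hx
    obtain ⟨s, hs, rfl⟩ := hS'mem x hx
    exact h.b.mem_norm_of_comm hy hy2 (hS' s hs)
  have hcS' : Nat.card S' = 64 := by
    rw [← hc]
    exact Nat.card_congr (S.equivMapOfInjective _ (MulAut.conj b⁻¹).injective).symm.toEquiv
  have hS'2 : IsPGroup 2 S' := IsPGroup.of_card (n := 6) (by rw [hcS']; norm_num)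
  refine ⟨?_, ?_, ?_⟩
  · obtain ⟨d, hd, hdq⟩ := conj_into hP hle hmax hS'2 (le_inf (hS'A.trans self_le_norm) hS'B)
    apply le_antisymm (card_le_of_two h.a.sz (hP.to_le inf_le_left) inf_le_right)
    have h4 : S'.map (MulAut.conj d).toMonoidHom ≤ P ⊓ A := by
      rintro _ ⟨x, hx, rfl⟩
      exact mem_inf.2 ⟨hdq x hx, conj_mem_of_norm (mem_inf.1 hd).1 (hS'A hx)⟩
    have h5 : Nat.card (S'.map (MulAut.conj d).toMonoidHom) = 64 := by
      rw [← hcS']
      exact Nat.card_congr (S'.equivMapOfInjective _ (MulAut.conj d).injective).symm.toEquiv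
    rw [← h5]
    exact Nat.card_le_card_of_injective _ (Subgroup.inclusion_injective h4)
  · -- an involution of `C(A)` commuting with `y`
    obtain ⟨k', hk', hk'2, hk'y⟩ : ∃ k' ∈ centralizer (A : Set G), orderOf k' = 2 ∧ k' * y = y * k' := by
      by_cases hk1 : k = 1
      · obtain ⟨k', hk', hk'2⟩ := h.a.even
        refine ⟨k', hk', hk'2, ?_⟩
        rw [hka, hk1, one_mul]
        exact comm_of_cent hk' ha
      · refine ⟨k, hk, orderOf_eq_two h3 hk1, ?_⟩
        rw [hka]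
        calc k * (k * a) = k * (a * k) := by rw [hcomm]
          _ = k * a * k := by group
    have h4 : k' ∈ normalizer (B : Set G) := h.b.mem_norm_of_comm hy hy2 hk'y
    obtain ⟨d, hd, hdq⟩ := conj_into (Q := zpowers k') hP hle hmax
      (isPGroup_zpowers ⟨1, by rw [pow_one, ← hk'2]; exact pow_orderOf_eq_one k'⟩)
      (by rw [zpowers_le]; exact mem_inf.2 ⟨cent_le_norm hk', h4⟩)
    refine ⟨d * k' * d⁻¹, hdq _ (mem_zpowers _), conj_mem_cent (mem_inf.1 hd).1 hk', ?_⟩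
    rw [SC.orderOf_conj', hk'2]
  · obtain ⟨d, hd, hdq⟩ := conj_into (Q := zpowers y) hP hle hmax
      (isPGroup_zpowers ⟨1, by rw [pow_one, ← hy2]; exact pow_orderOf_eq_one y⟩)
      (by rw [zpowers_le]; exact mem_inf.2 ⟨hyA, cent_le_norm hy⟩)
    refine ⟨d * y * d⁻¹, hdq _ (mem_zpowers _), conj_mem_cent (mem_inf.1 hd).2 hy, ?_⟩
    rw [SC.orderOf_conj', hy2]

theorem quad_of_max {A B P : Subgroup G} (h : Pr A B) (hP : IsPGroup 2 P)
    (hle : P ≤ normalizer (A : Set G) ⊓ normalizer (B : Set G))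
    (hmax : ∀ T : Subgroup G, IsPGroup 2 T → T ≤ normalizer (A : Set G) ⊓ normalizer (B : Set G) → P ≤ T → T = P)
    {y : G} (hy : y ∈ centralizer (B : Set G)) (hy2 : orderOf y = 2) (hyA : y ∈ normalizer (A : Set G)) :
    Quad A B P := by
  obtain ⟨h1, h2, h3⟩ := half_quad h hP hle hmax hy hy2 hyA
  obtain ⟨k, hkP, hk, hk2⟩ := h2
  obtain ⟨h4, -, -⟩ := half_quad h.symm hP (by rw [inf_comm]; exact hle)
    (fun T a b c => hmax T a (by rw [inf_comm]; exact b) c) hk hk2 ((hle hkP).2)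
  exact
    { toPr := h
      two := hP
      leA := fun x hx => (hle hx).1
      leB := fun x hx => (hle hx).2
      max := hmax
      cardA := h1
      cardB := h4
      neA := ⟨k, hkP, hk, hk2⟩
      neB := h3 }

theorem exists_quad {A B : Subgroup G} (h : Pr A B)
    {y : G} (hy : y ∈ centralizer (B : Set G)) (hy2 : orderOf y = 2) (hyA : y ∈ normalizer (A : Set G)) :
    ∃ P : Subgroup G, Quad A B P := by
  obtain ⟨P, h1, h2, -, h3⟩ := exists_max (D := normalizer (A : Set G) ⊓ normalizer (B : Set G)) (Q := ⊥)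
    IsPGroup.of_bot bot_le
  exact ⟨P, quad_of_max h h1 h2 h3 hy hy2 hyA⟩

end finite

end Cfsg.Agent.RuRed
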