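import Mathlib

/-!
# Burnside's normal complement theorem for a subgroup `X ≤ G`
-/

set_option autoImplicit false

namespace Cfsg.Agent.RuRed

open Subgroup

variable {G : Type*} [Group G] [Finite G]

/-- Burnside: `V` is a maximal 2-subgroup of `X`, and `N_X(V)` centralises `V`. -/
theorem exists_complement {X V : Subgroup G} (hVX : V ≤ X) (h2 : IsPGroup 2 V)
    (hmax : ∀ Q : Subgroup G, IsPGroup 2 Q → Q ≤ X → V ≤ Q → Q = V)
    (hN : ∀ n ∈ X, n ∈ normalizer (V : Set G) → ∀ v ∈ V, n * v = v * n) :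
    ∃ O : Subgroup G, O ≤ X ∧ (∀ x ∈ X, x ∈ O ↔ Odd (orderOf x)) ∧ ¬ 2 ∣ Nat.card O ∧
      ∀ x ∈ X, ∃ o ∈ O, ∃ v ∈ V, x = o * v := by
  classical
  have hp2 : Fact (Nat.Prime 2) := ⟨Nat.prime_two⟩
  have h3 : IsPGroup 2 (V.subgroupOf X) := h2.of_injective (subgroupOfEquivOfLe hVX).toMonoidHom
    (subgroupOfEquivOfLe hVX).injective
  obtain ⟨P, hP⟩ := h3.exists_le_sylow
  have hPV : (P : Subgroup ↥X).map X.subtype = V := by
    refine hmax _ (P.2.map _) (map_subtype_le _) ?_
    intro x hx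
    exact ⟨⟨x, hVX hx⟩, hP (mem_subgroupOf.2 hx), rfl⟩
  have hmemP : ∀ x : ↥X, x ∈ (P : Subgroup ↥X) ↔ (x : G) ∈ V := by
    intro x
    rw [← hPV]
    constructor
    · intro hx
      exact ⟨x, hx, rfl⟩
    · rintro ⟨y, hy, hyx⟩
      have : y = x := Subtype.ext hyx
      rw [← this]; exact hy
  have hle : normalizer ((P : Subgroup ↥X) : Set ↥X) ≤ centralizer ((P : Subgroup ↥X) : Set ↥X) := by
    intro n hn
    rw [mem_centralizer_iff]
    intro v hv
    apply Subtype.ext
    have hnV : (n : G) ∈ normalizer (V : Set G) := by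
      rw [mem_normalizer_iff]
      intro y
      constructor
      · intro hy
        have h4 := (mem_normalizer_iff.1 hn ⟨y, hVX hy⟩).1 ((hmemP _).2 hy)
        exact (hmemP _).1 h4
      · intro hy
        have hyX : y ∈ X := by
          have h5 : y = (n : G)⁻¹ * ((n : G) * y * (n : G)⁻¹) * n := by group
          rw [h5]
          exact mul_mem (mul_mem (inv_mem n.2) (hVX hy)) n.2
        exact (hmemP _).1 ((mem_normalizer_iff.1 hn ⟨y, hyX⟩).2 ((hmemP _).2 hy))
    exact (hN n n.2 hnV v ((hmemP v).1 hv)).symm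
  have hc := MonoidHom.ker_transferSylow_isComplement' P hle
  have hnd := MonoidHom.not_dvd_card_ker_transferSylow P hle
  set K := (MonoidHom.transferSylow P hle).ker with hK
  have hcardK : Nat.card (K.map X.subtype) = Nat.card K :=
    Nat.card_congr (K.equivMapOfInjective X.subtype X.subtype_injective).symm.toEquiv
  refine ⟨K.map X.subtype, map_subtype_le _, ?_, by rw [hcardK]; exact hnd, ?_⟩
  · intro x hx
    constructor
    · intro hxO
      have h5 : orderOf x ∣ Nat.card (K.map X.subtype) := Subgroup.orderOf_dvd_natCard _ hxO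
      rw [hcardK] at h5
      rw [← Nat.not_even_iff_odd, even_iff_two_dvd]
      exact fun h => hnd (h.trans h5)
    · intro hodd
      refine ⟨⟨x, hx⟩, ?_, rfl⟩
      show (⟨x, hx⟩ : ↥X) ∈ K
      rw [hK, MonoidHom.mem_ker]
      -- the image in the 2-group `P` has odd order
      have h6 : orderOf (MonoidHom.transferSylow P hle ⟨x, hx⟩) ∣ orderOf x := by
        have h7 := orderOf_map_dvd (MonoidHom.transferSylow P hle) (⟨x, hx⟩ : ↥X)
        have h8 : orderOf (⟨x, hx⟩ : ↥X) = orderOf x := (Subgroup.orderOf_coe (⟨x, hx⟩ : ↥X)).symm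
        rw [h8] at h7
        exact h7
      obtain ⟨n, hn⟩ := P.2 (MonoidHom.transferSylow P hle ⟨x, hx⟩)
      have h8 : orderOf (MonoidHom.transferSylow P hle ⟨x, hx⟩) ∣ 2 ^ n := orderOf_dvd_of_pow_eq_one hn
      have h9 : Nat.Coprime (orderOf x) (2 ^ n) := Nat.Coprime.pow_right _ (Nat.coprime_two_right.2 hodd)
      have h10 := Nat.eq_one_of_dvd_coprimes h9 h6 h8
      exact orderOf_eq_one_iff.1 h10
  · intro x hx
    obtain ⟨⟨o, v⟩, hov⟩ := hc.2 ⟨x, hx⟩
    refine ⟨(o : ↥X), ⟨o, o.2, rfl⟩, (v : ↥X), (hmemP _).1 v.2, ?_⟩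
    exact (congrArg Subtype.val hov).symm

end Cfsg.Agent.RuRed
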