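import Mathlib
import Cfsg.Agent.RuB.Grow
import Cfsg.Agent.RuRed.SzRelMore
import Cfsg.Agent.Ru8.Core8

/-!
# From the configuration `T = V × S` to `Core G` (`|V| = 4`) and `Core8 G` (`|V| = 8`)

The same as `RuB/Grow.lean`, with hypotheses which do not say that `V` is the full centralizer of `A`: only
`C_G(v) ∩ C_G(A) = V` for `1 ≠ v ∈ V`.
-/

set_option autoImplicit false
set_option linter.unusedSectionVars false
set_option linter.style.haveILetI false
set_option maxHeartbeats 1000000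

namespace Cfsg.Agent.RuRed.Grow2

open Cfsg.Agent.ThreePrime Subgroup Cfsg.Agent.RuB

open Cfsg.Agent.RuB.Raw (uu dd uu_mem dd_mem uu_mul uu_zero uu_inj uu_inv uu_sq z_mul uu_mul_z z_sq z_comm z_inv
  dd_mul dd_inv dd_conj dd_conj_z uu_conj add_self exists_theta norm_ne norm_inj exists_norm)

open Cfsg.Agent.RuB.Grow (relField cubic exists_pow_eq gamma_linear no_swap exists_iso pw pw_add pw_mem emb_eq)

variable {G : Type*} [Group G] {A V T : Subgroup G} {F : Type*} [Field F]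

/-- the standing hypotheses -/
structure Cfg (R : SzRel.Rel A F) (V T : Subgroup G) : Prop where
  cardF : Nat.card F = 8
  commV : ∀ v ∈ V, ∀ a ∈ A, v * a = a * v
  sqV : ∀ v ∈ V, v * v = 1
  cen : ∀ v ∈ V, v ≠ 1 → ∀ g, g * v = v * g → g ∈ normalizer (A : Set G)
  ti : ∀ v ∈ V, v ≠ 1 → ∀ g, g * v * g⁻¹ ∈ V → g ∈ normalizer (A : Set G)
  mem_T : ∀ x, x ∈ T ↔ ∃ v ∈ V, ∃ a b : F, x = v * uu R a b
  syl : ∀ g ∈ normalizer (A : Set G), g ∈ normalizer (T : Set G) → g * g ∈ T → g ∈ T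

/-- the additional hypothesis `C_G(v) ∩ C_G(A) = V` -/
def CenK (A V : Subgroup G) : Prop :=
  ∀ v ∈ V, v ≠ 1 → ∀ g, g * v = v * g → (∀ a ∈ A, g * a = a * g) → g ∈ V

section facts

variable {R : SzRel.Rel A F} (H : Cfg R V T)

include H

theorem finF : Finite F := Nat.finite_of_card_ne_zero (by rw [H.cardF]; norm_num)

theorem V_comm {v : G} (hv : v ∈ V) {a : G} (ha : a ∈ A) : v * a = a * v := H.commV v hv a ha

theorem V_uu {v : G} (hv : v ∈ V) (a b : F) : v * uu R a b = uu R a b * v := V_comm H hv (uu_mem R a b)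

theorem V_inv {v : G} (hv : v ∈ V) : v⁻¹ = v := inv_eq_of_mul_eq_one_right (H.sqV v hv)

theorem V_mul_comm {v w : G} (hv : v ∈ V) (hw : w ∈ V) : v * w = w * v := by
  have h1 : (v * w)⁻¹ = v * w := V_inv H (mul_mem hv hw)
  rw [mul_inv_rev, V_inv H hv, V_inv H hw] at h1
  exact h1.symm

/-- product formula in `T = V × S` -/
theorem T_mul {v v' : G} (_ : v ∈ V) (hv' : v' ∈ V) (a b c e : F) :
    (v * uu R a b) * (v' * uu R c e) = (v * v') * uu R (a + c) (b + e + a * R.θ c) := by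
  rw [← uu_mul]
  have := V_uu H hv' a b
  calc v * uu R a b * (v' * uu R c e) = v * (uu R a b * v') * uu R c e := by group
    _ = _ := by rw [← this]; group

/-- only the identity of `A` centralises `A` -/
theorem cap {x : G} (hx : x ∈ A) (h : ∀ a ∈ A, x * a = a * x) : x = 1 := by
  have hfin := finF H
  have h1 := SzRel.Rel.center_trivial (R := R) (g := ⟨x, hx⟩) (fun y => Subtype.ext (h y y.2))
  exact congrArg Subtype.val h1

theorem V_cap {v : G} (hv : v ∈ V) {a b : F} (h : v = uu R a b) : v = 1 :=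
  cap H (by rw [h]; exact uu_mem R a b) (fun _ ha => V_comm H hv ha)

theorem V_cap' {v : G} (hv : v ∈ V) (h : v ∈ A) : v = 1 :=
  cap H h (fun _ ha => V_comm H hv ha)

theorem T_inj {v v' : G} (hv : v ∈ V) (hv' : v' ∈ V) {a b c e : F} (h : v * uu R a b = v' * uu R c e) :
    v = v' ∧ a = c ∧ b = e := by
  have h1 : v'⁻¹ * v = uu R c e * (uu R a b)⁻¹ := by
    rw [eq_mul_inv_iff_mul_eq, mul_assoc, h, inv_mul_cancel_left]
  have h2 : v'⁻¹ * v = 1 := by
    rw [uu_inv, uu_mul] at h1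
    exact V_cap H (mul_mem (inv_mem hv') hv) h1
  have h3 : v = v' := (inv_mul_eq_one.1 h2).symm
  subst h3
  have h4 := mul_left_cancel h
  exact ⟨rfl, uu_inj R h4⟩

theorem V_le : V ≤ T := fun v hv => (H.mem_T v).2 ⟨v, hv, 0, 0, by rw [uu_zero, mul_one]⟩

theorem uu_mem_T (a b : F) : uu R a b ∈ T := (H.mem_T _).2 ⟨1, one_mem _, a, b, by rw [one_mul]⟩

theorem T_sq {v : G} (hv : v ∈ V) (a b : F) :
    (v * uu R a b) * (v * uu R a b) = uu R 0 (a * R.θ a) := by
  rw [T_mul H hv hv, H.sqV v hv, one_mul, ← uu_mul, uu_sq]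

theorem T_sq' {x : G} (hx : x ∈ T) : ∃ b, x * x = uu R 0 b := by
  obtain ⟨v, hv, a, b, rfl⟩ := (H.mem_T x).1 hx
  exact ⟨_, T_sq H hv a b⟩

/-- elements of `T` of order at most two: `E = V × Z`. -/
theorem T_inv {x : G} (hx : x ∈ T) : x * x = 1 ↔ ∃ v ∈ V, ∃ b : F, x = v * uu R 0 b := by
  obtain ⟨v, hv, a, b, rfl⟩ := (H.mem_T x).1 hx
  constructor
  · intro h
    rw [T_sq H hv, ← uu_zero R] at h
    have : a = 0 := by
      by_contra ha
      exact norm_ne R ha (uu_inj R h).2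
    subst this
    exact ⟨v, hv, b, rfl⟩
  · rintro ⟨v', hv', b', h⟩
    rw [h, T_sq H hv', zero_mul, uu_zero]

/-- `Z` is normalised by the elements normalising `T` -/
theorem norm_Z {g : G} (hg : g ∈ normalizer (T : Set G)) (b : F) :
    ∃ c, g * uu R 0 b * g⁻¹ = uu R 0 c := by
  have := finF H
  obtain ⟨a, ha⟩ := exists_norm R b
  have h1 := (mem_normalizer_iff.1 hg _).1 (uu_mem_T H a 0)
  obtain ⟨c, hc⟩ := T_sq' H h1
  refine ⟨c, ?_⟩
  rw [← hc, ← ha, ← uu_sq R a 0]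
  group

theorem norm_E {g : G} (hg : g ∈ normalizer (T : Set G)) {v : G} (hv : v ∈ V) (b : F) :
    ∃ v' ∈ V, ∃ c, g * (v * uu R 0 b) * g⁻¹ = v' * uu R 0 c := by
  have h0 : v * uu R 0 b ∈ T := (H.mem_T _).2 ⟨v, hv, 0, b, rfl⟩
  have h1 := (mem_normalizer_iff.1 hg _).1 h0
  refine (T_inv H h1).1 ?_
  have h2 : g * (v * uu R 0 b) * g⁻¹ * (g * (v * uu R 0 b) * g⁻¹) =
      g * ((v * uu R 0 b) * (v * uu R 0 b)) * g⁻¹ := by group
  rw [h2, T_sq H hv, zero_mul, uu_zero, mul_one, mul_inv_cancel]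

/-- conjugation of `A` by elements of the normaliser -/
noncomputable def cAut {g : G} (hg : g ∈ normalizer (A : Set G)) : MulAut A :=
  A.normalizerMonoidHom ⟨g, hg⟩

omit H in
theorem cAut_apply {g : G} (hg : g ∈ normalizer (A : Set G)) (x : A) :
    ((cAut (A := A) hg x : A) : G) = g * x * g⁻¹ := rfl

theorem dd_norm_T (k : Fˣ) : dd R k ∈ normalizer (T : Set G) := by
  have key : ∀ k : Fˣ, ∀ x ∈ T, dd R k * x * (dd R k)⁻¹ ∈ T := by
    intro k x hx
    obtain ⟨v, hv, a, b, rfl⟩ := (H.mem_T x).1 hx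
    refine (H.mem_T _).2 ⟨v, hv, a * k ^ 2 * (R.θ k)⁻¹, b * R.θ k, ?_⟩
    rw [← dd_conj]
    have := V_comm H hv (dd_mem R k)
    calc dd R k * (v * uu R a b) * (dd R k)⁻¹ = (dd R k * v) * uu R a b * (dd R k)⁻¹ := by group
      _ = _ := by rw [← this]; group
  rw [mem_normalizer_iff]
  intro x
  refine ⟨key k x, fun h => ?_⟩
  have h1 := key k⁻¹ _ h
  rw [← dd_inv, inv_inv] at h1
  have h2 : (dd R k)⁻¹ * (dd R k * x * (dd R k)⁻¹) * dd R k = x := by group
  rwa [h2] at h1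

/-- `g ∈ N(A)` centralising `Z` and some `v ∈ V` lies in `T` -/
theorem fixZ (hcK : CenK A V) {g v : G} (hv : v ∈ V) (hv1 : v ≠ 1) (hg : g * v = v * g)
    (hz : ∀ b, g * uu R 0 b * g⁻¹ = uu R 0 b) : g ∈ T := by
  have := finF H
  have hgN : g ∈ normalizer (A : Set G) := H.cen v hv hv1 g hg
  obtain ⟨a, b, h⟩ := AutFix.eq_conj R (by rw [H.cardF]) this (cAut (A := A) hgN) (by
    intro b
    apply Subtype.ext
    rw [cAut_apply]
    exact hz b)
  have h1 : (uu R a b)⁻¹ * g ∈ V := by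
    refine hcK v hv hv1 _ ?_ (fun x hx => ?_)
    · have h5 := V_uu H hv a b
      calc (uu R a b)⁻¹ * g * v = (uu R a b)⁻¹ * (g * v) := by group
        _ = (uu R a b)⁻¹ * (v * g) := by rw [hg]
        _ = (uu R a b)⁻¹ * (v * uu R a b) * ((uu R a b)⁻¹ * g) := by group
        _ = v * ((uu R a b)⁻¹ * g) := by rw [h5]; group
    · have h2 := congrArg Subtype.val (h ⟨x, hx⟩)
      rw [cAut_apply] at h2
      have h3 : g * x * g⁻¹ = uu R a b * x * (uu R a b)⁻¹ := h2
      have h4 : g * x = uu R a b * x * (uu R a b)⁻¹ * g := by rw [← h3]; group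
      rw [mul_assoc, h4]; group
  refine (H.mem_T g).2 ⟨_, h1, a, b, ?_⟩
  rw [V_uu H h1]; group

/-- elements of `T` centralising `A` are in `V` -/
theorem mem_V_of_T {x : G} (hx : x ∈ T) (h : ∀ a ∈ A, x * a = a * x) : x ∈ V := by
  obtain ⟨v, hv, a, b, rfl⟩ := (H.mem_T x).1 hx
  have h1 : uu R a b = 1 := by
    refine cap H (uu_mem R a b) (fun y hy => ?_)
    have h2 := h y hy
    have h3 := V_comm H hv hy
    have h4 : v * (uu R a b * y) = v * (y * uu R a b) := by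
      calc v * (uu R a b * y) = v * uu R a b * y := by group
        _ = y * (v * uu R a b) := h2
        _ = (y * v) * uu R a b := by group
        _ = v * (y * uu R a b) := by rw [← h3]; group
    exact mul_left_cancel h4
  rw [h1, mul_one]
  exact hv

theorem norm_V_of_norm {g : G} (hg : g ∈ normalizer (A : Set G)) (hgT : g ∈ normalizer (T : Set G)) {v : G}
    (hv : v ∈ V) : g * v * g⁻¹ ∈ V := by
  refine mem_V_of_T H ((mem_normalizer_iff.1 hgT _).1 (V_le H hv)) (fun a ha => ?_)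
  have h1 : g⁻¹ * a * g ∈ A := by
    have := (mem_normalizer_iff.1 (inv_mem hg) a).1 ha
    rwa [inv_inv] at this
  have h2 := V_comm H hv h1
  calc g * v * g⁻¹ * a = g * (v * (g⁻¹ * a * g)) * g⁻¹ := by group
    _ = g * ((g⁻¹ * a * g) * v) * g⁻¹ := by rw [h2]
    _ = _ := by group

theorem norm_V_of_comm (hcK : CenK A V) {g v : G} (hv : v ∈ V) (hv1 : v ≠ 1) (hg : g * v = v * g) {w : G}
    (hw : w ∈ V) : g * w * g⁻¹ ∈ V := by
  have hgN : g ∈ normalizer (A : Set G) := H.cen v hv hv1 g hg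
  have hgv : g⁻¹ * v * g = v := by
    calc g⁻¹ * v * g = g⁻¹ * (v * g) := by group
      _ = g⁻¹ * (g * v) := by rw [hg]
      _ = v := by group
  refine hcK v hv hv1 _ ?_ (fun a ha => ?_)
  · calc g * w * g⁻¹ * v = g * (w * (g⁻¹ * v * g)) * g⁻¹ := by group
      _ = g * ((g⁻¹ * v * g) * w) * g⁻¹ := by rw [hgv, V_mul_comm H hw hv]
      _ = v * (g * w * g⁻¹) := by group
  · have h1 : g⁻¹ * a * g ∈ A := by
      have := (mem_normalizer_iff.1 (inv_mem hgN) a).1 ha
      rwa [inv_inv] at this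
    have h2 := V_comm H hw h1
    calc g * w * g⁻¹ * a = g * (w * (g⁻¹ * a * g)) * g⁻¹ := by group
      _ = g * ((g⁻¹ * a * g) * w) * g⁻¹ := by rw [h2]
      _ = _ := by group

end facts

/-! ### the growth element -/

section grow

variable [Finite G] {R : SzRel.Rel A F} (H : Cfg R V T)

include H

/-- membership in the normaliser of `T` -/
theorem inv_norm {g : G} (hg : g ∈ normalizer (T : Set G)) : g⁻¹ ∈ normalizer (T : Set G) := inv_mem hg

/-- If `g ∈ N(T)` and `g v g⁻¹ ∈ Z` then `v = 1`. -/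
theorem eq_one_of_conj_Z {g v : G} (hg : g ∈ normalizer (T : Set G)) (hv : v ∈ V) {b : F}
    (h : g * v * g⁻¹ = uu R 0 b) : v = 1 := by
  obtain ⟨c, hc⟩ := norm_Z H (inv_mem hg) b
  have h1 : v = uu R 0 c := by
    rw [← hc, ← h]; group
  exact V_cap H hv h1

/-- For each `g ∈ N(T)` and `v₁ ∈ V` there is `b` with `v₁ z(b) ∈ V ^ g`. -/
theorem exists_b {g : G} (hg : g ∈ normalizer (T : Set G)) {v₁ : G} (hv₁ : v₁ ∈ V) :
    ∃ v ∈ V, ∃ b : F, g * v * g⁻¹ = v₁ * uu R 0 b := by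
  classical
  -- the `V`-part
  have hex : ∀ v : V, ∃ v' ∈ V, ∃ c, g * (v : G) * g⁻¹ = v' * uu R 0 c := by
    intro v
    obtain ⟨v', hv', c, h⟩ := norm_E H hg v.2 0
    rw [uu_zero, mul_one] at h
    exact ⟨v', hv', c, h⟩
  choose f hf c hc using hex
  have hinj : Function.Injective (fun v : V => (⟨f v, hf v⟩ : V)) := by
    intro v w hvw
    have h1 : f v = f w := congrArg Subtype.val hvw
    have h2 : g * ((v : G) * w) * g⁻¹ = uu R 0 (c v + c w) := by
      calc g * ((v : G) * w) * g⁻¹ = (g * v * g⁻¹) * (g * w * g⁻¹) := by group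
        _ = (f v * uu R 0 (c v)) * (f w * uu R 0 (c w)) := by rw [hc, hc]
        _ = (f v * f w) * uu R (0 + 0) (c v + c w + 0 * R.θ 0) := T_mul H (hf v) (hf w) _ _ _ _
        _ = uu R 0 (c v + c w) := by
          rw [h1, H.sqV _ (hf w), one_mul, add_zero, zero_mul, add_zero]
    have h3 := eq_one_of_conj_Z H hg (mul_mem v.2 w.2) h2
    apply Subtype.ext
    rw [eq_inv_of_mul_eq_one_left h3, V_inv H w.2]
  obtain ⟨v, hv⟩ := (Finite.surjective_of_injective hinj) ⟨v₁, hv₁⟩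
  refine ⟨v, v.2, c v, ?_⟩
  rw [hc v]
  congr 1
  exact congrArg Subtype.val hv

theorem ti' {g h v w : G} (hv : v ∈ V) (hw : w ∈ V) (hv1 : v ≠ 1)
    (he : g * v * g⁻¹ = h * w * h⁻¹) : h⁻¹ * g ∈ normalizer (A : Set G) := by
  refine H.ti v hv hv1 _ ?_
  have : h⁻¹ * g * v * (h⁻¹ * g)⁻¹ = w := by
    calc h⁻¹ * g * v * (h⁻¹ * g)⁻¹ = h⁻¹ * (g * v * g⁻¹) * h := by group
      _ = w := by rw [he]; group
  rw [this]
  exact hw

/-- Each element of `V Z - Z` is in some `V ^ g`, `g ∈ N(T)`. -/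
theorem exists_conj {g₀ : G} (hg₀ : g₀ ∈ normalizer (T : Set G))
    (hne : g₀ ∉ normalizer (A : Set G)) {v₁ : G} (hv₁ : v₁ ∈ V) (h1 : v₁ ≠ 1) (b : F) :
    ∃ g ∈ normalizer (T : Set G), ∃ v ∈ V, g * v * g⁻¹ = v₁ * uu R 0 b := by
  have hfin := finF H
  by_cases hb : b = 0
  · subst hb
    exact ⟨1, one_mem _, v₁, hv₁, by rw [uu_zero]; group⟩
  obtain ⟨v, hv, b₀, h⟩ := exists_b H hg₀ hv₁
  have hb₀ : b₀ ≠ 0 := by
    rintro rfl
    rw [uu_zero, mul_one] at h
    have hv1 : v ≠ 1 := by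
      rintro rfl
      apply h1
      rw [← h]; group
    exact hne (H.ti v hv hv1 g₀ (by rw [h]; exact hv₁))
  obtain ⟨k, hk⟩ := exists_theta R (x := b / b₀) (div_ne_zero hb hb₀)
  refine ⟨dd R k * g₀, mul_mem (dd_norm_T H k) hg₀, v, hv, ?_⟩
  have h3 := V_comm H hv₁ (dd_mem R k)
  calc dd R k * g₀ * v * (dd R k * g₀)⁻¹ = dd R k * (g₀ * v * g₀⁻¹) * (dd R k)⁻¹ := by group
    _ = (dd R k * v₁) * uu R 0 b₀ * (dd R k)⁻¹ := by rw [h]; group
    _ = v₁ * (dd R k * uu R 0 b₀ * (dd R k)⁻¹) := by rw [← h3]; group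
    _ = v₁ * uu R 0 b := by
      rw [dd_conj_z, hk, mul_div_cancel₀ _ hb₀]

/-- `T` normal in its normaliser; an element of even order modulo `T`. -/
theorem exists_tau (hV : 4 ≤ Nat.card V) {g₀ : G} (hg₀ : g₀ ∈ normalizer (T : Set G))
    (hne : g₀ ∉ normalizer (A : Set G)) :
    ∃ τ ∈ normalizer (T : Set G), τ ∉ T ∧ τ * τ ∈ T := by
  classical
  have hfin := finF H
  set N := normalizer (T : Set G) with hN
  -- an involution of `V`
  obtain ⟨v₁, hv₁, h1⟩ : ∃ v₁ ∈ V, v₁ ≠ 1 := by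
    by_contra hcon
    push Not at hcon
    have : V = ⊥ := (eq_bot_iff_forall V).2 hcon
    rw [this, card_bot] at hV
    omega
  let NV : Subgroup N := (normalizer (A : Set G)).subgroupOf N
  -- the bijection
  have hex : ∀ b : F, ∃ g : N, ∃ v ∈ V, (g : G) * v * (g : G)⁻¹ = v₁ * uu R 0 b := by
    intro b
    obtain ⟨g, hg, v, hv, h⟩ := exists_conj H hg₀ hne hv₁ h1 b
    exact ⟨⟨g, hg⟩, v, hv, h⟩
  choose g v hv hgv using hex
  have hbij : Function.Bijective (fun b : F => (g b : N ⧸ NV)) := by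
    constructor
    · intro b c hbc
      have h2 : (g b)⁻¹ * g c ∈ NV := QuotientGroup.eq.1 hbc
      have h3 : ((g b : G))⁻¹ * g c ∈ normalizer (A : Set G) := h2
      -- `V ^ (g b) = V ^ (g c)`
      have h4 : ((g b : G))⁻¹ * g c * v c * (((g b : G))⁻¹ * g c)⁻¹ ∈ V := norm_V_of_norm H h3 (mul_mem (inv_mem (g b).2) (g c).2) (hv c)
      set w := ((g b : G))⁻¹ * g c * v c * (((g b : G))⁻¹ * g c)⁻¹ with hw
      have h5 : (g b : G) * w * (g b : G)⁻¹ = v₁ * uu R 0 c := by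
        rw [hw, ← hgv c]; group
      have h6 : (g b : G) * (v b * w) * (g b : G)⁻¹ = uu R 0 (b + c) := by
        calc (g b : G) * (v b * w) * (g b : G)⁻¹ =
            ((g b : G) * v b * (g b : G)⁻¹) * ((g b : G) * w * (g b : G)⁻¹) := by group
          _ = (v₁ * uu R 0 b) * (v₁ * uu R 0 c) := by rw [h5, hgv]
          _ = (v₁ * v₁) * uu R (0 + 0) (b + c + 0 * R.θ 0) := T_mul H hv₁ hv₁ _ _ _ _
          _ = uu R 0 (b + c) := by rw [H.sqV _ hv₁, one_mul, add_zero, zero_mul, add_zero]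
      have h7 := eq_one_of_conj_Z H (g b).2 (mul_mem (hv b) h4) h6
      rw [h7, mul_one, mul_inv_cancel, ← uu_zero R] at h6
      have h8 := (uu_inj R h6).2
      have h9 := add_self R c
      linear_combination -h8 - h9
    · intro q
      obtain ⟨x, rfl⟩ := QuotientGroup.mk_surjective q
      obtain ⟨w, hw, b, h⟩ := exists_b H x.2 hv₁
      refine ⟨b, ?_⟩
      apply QuotientGroup.eq.2
      show ((g b : G))⁻¹ * x ∈ normalizer (A : Set G)
      have hw1 : w ≠ 1 := by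
        rintro rfl
        rw [mul_one, mul_inv_cancel] at h
        exact h1 (V_cap H hv₁ (b := b) (a := 0) (by
          rw [eq_comm, mul_eq_one_iff_eq_inv, z_inv] at h
          exact h))
      exact ti' H hw (hv b) hw1 (by rw [h, hgv])
  have hcard : Nat.card (N ⧸ NV) = 8 := by
    rw [← Nat.card_congr (Equiv.ofBijective _ hbij), H.cardF]
  -- `T` in `N`
  let TN : Subgroup N := T.subgroupOf N
  have hTN : TN.Normal := by
    constructor
    intro n hn x
    exact (mem_normalizer_iff.1 x.2 _).1 hn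
  have hle : TN ≤ NV := by
    intro x hx
    obtain ⟨w, hw, a, b, h⟩ := (H.mem_T _).1 hx
    have h' : (x : G) = w * uu R a b := h
    show (x : G) ∈ normalizer (A : Set G)
    rw [h']
    refine mul_mem ?_ (le_normalizer (uu_mem R a b))
    apply centralizer_le_normalizer
    rw [mem_centralizer_iff]
    intro a ha
    exact (V_comm H hw ha).symm
  have hdvd : 2 ∣ Nat.card (N ⧸ TN) := by
    have h2 : NV.index ∣ TN.index := index_dvd_of_le hle
    have h3 : NV.index = 8 := hcard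
    rw [h3] at h2
    exact (by norm_num : (2 : ℕ) ∣ 8).trans h2
  haveI : Fact (Nat.Prime 2) := ⟨Nat.prime_two⟩
  obtain ⟨q, hq⟩ := exists_prime_orderOf_dvd_card' 2 hdvd
  obtain ⟨τ, rfl⟩ := QuotientGroup.mk_surjective q
  refine ⟨τ, τ.2, ?_, ?_⟩
  · intro h
    have h2 : (τ : N ⧸ TN) = 1 := (QuotientGroup.eq_one_iff τ).2 h
    rw [h2, orderOf_one] at hq
    exact absurd hq (by decide)
  · have h2 := pow_orderOf_eq_one (τ : N ⧸ TN)
    rw [hq, pow_two, ← QuotientGroup.mk_mul, QuotientGroup.eq_one_iff] at h2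
    exact h2

/-- Growth: an element centralising `Z` and moving `V` by an injective additive map. -/
theorem exists_delta (hV : 4 ≤ Nat.card V) {g₀ : G} (hg₀ : g₀ ∈ normalizer (T : Set G))
    (hne : g₀ ∉ normalizer (A : Set G)) :
    ∃ τ ∈ normalizer (T : Set G), ∃ δ : G → F, (∀ b, τ * uu R 0 b = uu R 0 b * τ) ∧
      (∀ v ∈ V, τ * v * τ⁻¹ = v * uu R 0 (δ v)) ∧ (∀ v ∈ V, ∀ w ∈ V, δ (v * w) = δ v + δ w) ∧
      ∀ v ∈ V, δ v = 0 → v = 1 := by
  classical
  have hfin := finF H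
  obtain ⟨τ, hτ, hτT, hτ2⟩ := exists_tau H hV hg₀ hne
  -- `τ` fixes no element of `V Z - Z`
  have hfix : ∀ v ∈ V, ∀ b, τ * (v * uu R 0 b) * τ⁻¹ = v * uu R 0 b → v = 1 := by
    intro v hv b h
    by_contra h1
    obtain ⟨g, hg, w, hw, hgw⟩ := exists_conj H hg₀ hne hv h1 b
    have hw1 : w ≠ 1 := by
      rintro rfl
      rw [mul_one, mul_inv_cancel] at hgw
      exact h1 (V_cap H hv (b := b) (a := 0) (by
        rw [eq_comm, mul_eq_one_iff_eq_inv, z_inv] at hgw
        exact hgw))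
    rw [← hgw] at h
    have h2 : (g⁻¹ * τ * g) * w = w * (g⁻¹ * τ * g) := by
      calc (g⁻¹ * τ * g) * w = g⁻¹ * (τ * (g * w * g⁻¹) * τ⁻¹) * τ * g := by group
        _ = g⁻¹ * (g * w * g⁻¹) * τ * g := by rw [h]
        _ = _ := by group
    have h3 : g⁻¹ * τ * g ∈ normalizer (A : Set G) := H.cen w hw hw1 _ h2
    have h4 : g⁻¹ * τ * g ∈ normalizer (T : Set G) := mul_mem (mul_mem (inv_mem hg) hτ) hg
    have h5 : (g⁻¹ * τ * g) * (g⁻¹ * τ * g) ∈ T := by
      have h6 : (g⁻¹ * τ * g) * (g⁻¹ * τ * g) = g⁻¹ * (τ * τ) * g⁻¹⁻¹ := by group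
      rw [h6]
      exact (mem_normalizer_iff.1 (inv_mem hg) _).1 hτ2
    have h6 := H.syl _ h3 h4 h5
    apply hτT
    have h7 := (mem_normalizer_iff.1 hg _).1 h6
    have h8 : g * (g⁻¹ * τ * g) * g⁻¹ = τ := by group
    rwa [h8] at h7
  -- the maps on `V` and on `Z`
  have hex : ∀ v : V, ∃ v' ∈ V, ∃ c, τ * (v : G) * τ⁻¹ = v' * uu R 0 c := by
    intro v
    obtain ⟨v', hv', c, h⟩ := norm_E H hτ v.2 0
    rw [uu_zero, mul_one] at h
    exact ⟨v', hv', c, h⟩
  have hexz : ∀ b, ∃ c, τ * uu R 0 b * τ⁻¹ = uu R 0 c := norm_Z H hτ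
  choose γ hγ using hexz
  -- `τ * τ` centralises `V Z`
  have hττ : ∀ v ∈ V, ∀ b, τ * (τ * (v * uu R 0 b) * τ⁻¹) * τ⁻¹ = v * uu R 0 b := by
    intro v hv b
    obtain ⟨w, hw, c, e, h⟩ := (H.mem_T _).1 hτ2
    have h1 : (τ * τ) * (v * uu R 0 b) = (v * uu R 0 b) * (τ * τ) := by
      rw [h, T_mul H hw hv, T_mul H hv hw, V_mul_comm H hw hv]
      congr 2
      · ring
      · rw [map_zero]; ring
    calc τ * (τ * (v * uu R 0 b) * τ⁻¹) * τ⁻¹ = ((τ * τ) * (v * uu R 0 b)) * (τ * τ)⁻¹ := by group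
      _ = v * uu R 0 b := by rw [h1]; group
  have hγadd : ∀ b c, γ (b + c) = γ b + γ c := by
    intro b c
    have h1 : uu R 0 (γ (b + c)) = uu R 0 (γ b + γ c) := by
      rw [← hγ, ← z_mul, ← z_mul, ← hγ, ← hγ]; group
    exact (uu_inj R h1).2
  have hγγ : ∀ b, γ (γ b) = b := by
    intro b
    have h1 := hττ 1 (one_mem _) b
    rw [one_mul, hγ, hγ] at h1
    exact (uu_inj R h1).2
  -- commutators of `V` with `τ` are in `Z`
  have hcom : ∀ v ∈ V, ∃ c, τ * v * τ⁻¹ = v * uu R 0 c := by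
    intro v hv
    obtain ⟨v', hv', c, h⟩ := hex ⟨v, hv⟩
    simp only at h
    -- the element `τ v τ⁻¹ v` is fixed by `τ`
    have h1 := hfix (v' * v) (mul_mem hv' hv) c (by
      have h2 : v' * v * uu R 0 c = (τ * v * τ⁻¹) * v := by
        rw [h]
        have := V_uu H hv 0 c
        calc v' * v * uu R 0 c = v' * (v * uu R 0 c) := by group
          _ = v' * (uu R 0 c * v) := by rw [this]
          _ = _ := by group
      have h3 := hττ v hv 0
      rw [uu_zero, mul_one] at h3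
      rw [h2]
      calc τ * (τ * v * τ⁻¹ * v) * τ⁻¹ = (τ * (τ * v * τ⁻¹) * τ⁻¹) * (τ * v * τ⁻¹) := by group
        _ = v * (τ * v * τ⁻¹) := by rw [h3]
        _ = v * (v' * uu R 0 c) := by rw [h]
        _ = (v * v') * uu R 0 c := by group
        _ = (v' * uu R 0 c) * v := by
          rw [V_mul_comm H hv hv', mul_assoc, V_uu H hv, ← mul_assoc]
        _ = _ := by rw [h])
    refine ⟨c, ?_⟩
    rw [h]
    congr 1
    rw [eq_inv_of_mul_eq_one_left h1, V_inv H hv]
  have hcom' : ∀ v : G, ∃ c, v ∈ V → τ * v * τ⁻¹ = v * uu R 0 c := by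
    intro v
    by_cases hv : v ∈ V
    · obtain ⟨c, hc⟩ := hcom v hv
      exact ⟨c, fun _ => hc⟩
    · exact ⟨0, fun h => absurd h hv⟩
  choose δ hδ using hcom'
  have hδadd : ∀ v ∈ V, ∀ w ∈ V, δ (v * w) = δ v + δ w := by
    intro v hv w hw
    have h1 : (v * w) * uu R 0 (δ (v * w)) = (v * w) * uu R 0 (δ v + δ w) := by
      rw [← hδ _ (mul_mem hv hw), ← z_mul]
      calc τ * (v * w) * τ⁻¹ = (τ * v * τ⁻¹) * (τ * w * τ⁻¹) := by group
        _ = (v * uu R 0 (δ v)) * (w * uu R 0 (δ w)) := by rw [hδ v hv, hδ w hw]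
        _ = v * (uu R 0 (δ v) * w) * uu R 0 (δ w) := by group
        _ = v * (w * uu R 0 (δ v)) * uu R 0 (δ w) := by rw [V_uu H hw]
        _ = _ := by group
    exact (uu_inj R (mul_left_cancel h1)).2
  have hδ0 : ∀ v ∈ V, δ v = 0 → v = 1 := by
    intro v hv h
    refine hfix v hv 0 ?_
    rw [uu_zero, mul_one, hδ v hv, h, uu_zero, mul_one]
  -- `γ` fixes the `δ v`
  have hγδ : ∀ v ∈ V, γ (δ v) = δ v := by
    intro v hv
    have h1 := hττ v hv 0
    rw [uu_zero, mul_one, hδ v hv] at h1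
    have h2 : τ * (v * uu R 0 (δ v)) * τ⁻¹ = (τ * v * τ⁻¹) * (τ * uu R 0 (δ v) * τ⁻¹) := by group
    rw [h2, hδ v hv, hγ, mul_assoc, z_mul] at h1
    have h3 := (T_inj H hv hv (a := 0) (c := 0) (b := δ v + γ (δ v)) (e := 0) (by
      rw [h1, uu_zero, mul_one])).2.2
    have h4 := add_self R (δ v)
    linear_combination h3 - h4
  -- fixed points of `γ`
  let C : AddSubgroup F :=
    { carrier := {b | γ b = b}
      add_mem' := by
        intro a b ha hb
        show γ (a + b) = a + b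
        rw [hγadd, ha, hb]
      zero_mem' := by
        have h1 := hγadd 0 0
        rw [add_zero] at h1
        exact left_eq_add.1 h1
      neg_mem' := by
        intro a ha
        have : -a = a := SzRel.Rel.neg_eq R a
        rw [this]
        exact ha }
  have hCmem : ∀ b, b ∈ C ↔ γ b = b := fun b => Iff.rfl
  let ι : V → C := fun v => ⟨δ v, hγδ v v.2⟩
  have hι : Function.Injective ι := by
    intro v w h
    have h1 : δ v = δ w := congrArg Subtype.val h
    have h2 : δ ((v : G) * w) = 0 := by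
      rw [hδadd v v.2 w w.2, h1]
      exact add_self R _
    have h3 := hδ0 _ (mul_mem v.2 w.2) h2
    apply Subtype.ext
    rw [eq_inv_of_mul_eq_one_left h3, V_inv H w.2]
  have hCcard : Nat.card C = 4 ∨ Nat.card C = 8 := by
    have h1 : Nat.card C ∣ 8 := by
      rw [← H.cardF]
      exact AddSubgroup.card_addSubgroup_dvd_card C
    have h2 : 4 ≤ Nat.card C := hV.trans (Nat.card_le_card_of_injective ι hι)
    obtain ⟨k, hk, hck⟩ := (Nat.dvd_prime_pow Nat.prime_two).1 (show Nat.card C ∣ 2 ^ 3 from h1)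
    rw [hck] at h2 ⊢
    have hk2 : 2 ≤ k := by
      by_contra hlt
      have : k ≤ 1 := by omega
      have : 2 ^ k ≤ 2 ^ 1 := Nat.pow_le_pow_right (by norm_num) this
      omega
    have hk3 : k = 2 ∨ k = 3 := by omega
    rcases hk3 with rfl | rfl
    · left; norm_num
    · right; norm_num
  have hγall : ∀ b, γ b = b := by
    intro b
    rcases hCcard with h4 | h8
    · -- then `C = δ V`
      have hsurj : Function.Surjective ι :=
        ((Nat.bijective_iff_injective_and_card ι).2 ⟨hι, by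
          have h5 := Nat.card_le_card_of_injective ι hι
          omega⟩).2
      have hb : γ (b + γ b) = b + γ b := by
        rw [hγadd, hγγ]; ring
      obtain ⟨v, hv⟩ := hsurj ⟨b + γ b, hb⟩
      have hv' : δ v = b + γ b := congrArg Subtype.val hv
      have h1 := hfix v v.2 b (by
        calc τ * ((v : G) * uu R 0 b) * τ⁻¹ = (τ * v * τ⁻¹) * (τ * uu R 0 b * τ⁻¹) := by group
          _ = ((v : G) * uu R 0 (δ v)) * uu R 0 (γ b) := by rw [hδ v v.2, hγ]
          _ = (v : G) * uu R 0 (δ v + γ b) := by rw [mul_assoc, z_mul]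
          _ = (v : G) * uu R 0 b := by
            rw [hv']
            congr 2
            linear_combination add_self R (γ b))
      have h2 : δ (v : G) = 0 := by
        rw [h1]
        have := hδadd 1 (one_mem _) 1 (one_mem _)
        rw [mul_one] at this
        exact left_eq_add.1 this
      rw [h2] at hv'
      have := add_self R b
      linear_combination -hv' - this
    · have htop : C = ⊤ := by
        apply AddSubgroup.eq_top_of_card_eq
        rw [h8, H.cardF]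
      have : b ∈ C := by rw [htop]; trivial
      exact this
  refine ⟨τ, hτ, δ, ?_, fun v hv => hδ v hv, hδadd, hδ0⟩
  intro b
  have h1 := hγ b
  rw [hγall, mul_inv_eq_iff_eq_mul] at h1
  exact h1

/-- The growth statement for all multiples. -/
theorem grow_all {τ : G} {δ : G → F} (hz : ∀ b, τ * uu R 0 b = uu R 0 b * τ)
    (hδ : ∀ v ∈ V, τ * v * τ⁻¹ = v * uu R 0 (δ v)) (c : F) :
    ∃ x : G, (∀ b, x * uu R 0 b = uu R 0 b * x) ∧ ∀ v ∈ V, x * v * x⁻¹ = v * uu R 0 (c * δ v) := by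
  have hfin := finF H
  by_cases hc : c = 0
  · subst hc
    refine ⟨1, fun b => by rw [one_mul, mul_one], fun v _ => ?_⟩
    rw [zero_mul, uu_zero]; group
  obtain ⟨k, hk⟩ := exists_theta R hc
  refine ⟨dd R k * τ * (dd R k)⁻¹, fun b => ?_, fun v hv => ?_⟩
  · have h1 : ∀ b, dd R k * uu R 0 b * (dd R k)⁻¹ = uu R 0 (b * R.θ k) := dd_conj_z R k
    have h2 : uu R 0 b = dd R k * uu R 0 (b / c) * (dd R k)⁻¹ := by
      rw [h1, hk, div_mul_cancel₀ _ hc]
    rw [h2]
    calc dd R k * τ * (dd R k)⁻¹ * (dd R k * uu R 0 (b / c) * (dd R k)⁻¹) =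
        dd R k * (τ * uu R 0 (b / c)) * (dd R k)⁻¹ := by group
      _ = dd R k * (uu R 0 (b / c) * τ) * (dd R k)⁻¹ := by rw [hz]
      _ = _ := by group
  · have h3 := V_comm H hv (dd_mem R k)
    calc dd R k * τ * (dd R k)⁻¹ * v * (dd R k * τ * (dd R k)⁻¹)⁻¹ =
        dd R k * τ * (dd R k)⁻¹ * (v * dd R k) * τ⁻¹ * (dd R k)⁻¹ := by group
      _ = dd R k * (τ * v * τ⁻¹) * (dd R k)⁻¹ := by rw [h3]; group
      _ = (dd R k * v) * uu R 0 (δ v) * (dd R k)⁻¹ := by rw [hδ v hv]; group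
      _ = v * (dd R k * uu R 0 (δ v) * (dd R k)⁻¹) := by rw [← h3]; group
      _ = _ := by rw [dd_conj_z, hk, mul_comm]

/-- An element of `C(v)` can be multiplied by an element of `A` so that it normalises `T`. -/
theorem adjust (hcK : CenK A V) {g v₀ : G} (hv₀ : v₀ ∈ V) (hv₀1 : v₀ ≠ 1) (hgv : g * v₀ = v₀ * g) :
    ∃ a ∈ A, a * g ∈ normalizer (T : Set G) := by
  have hg : g ∈ normalizer (A : Set G) := H.cen v₀ hv₀ hv₀1 g hgv
  have hfin := finF H
  haveI : Fact (Nat.Prime 2) := ⟨Nat.prime_two⟩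
  haveI : Fintype F := Fintype.ofFinite F
  have hc : Fintype.card F = 2 ^ (2 * 1 + 1) := by
    rw [← Nat.card_eq_fintype_card, H.cardF]; norm_num
  obtain ⟨P, hP⟩ := R.exists_sylow_eq le_rfl hc
  obtain ⟨a, ha⟩ := MulAction.exists_smul_eq A ((cAut (A := A) hg) • P) P
  have haN : (a : G) ∈ normalizer (A : Set G) := le_normalizer a.2
  have hmul : cAut (A := A) (mul_mem haN hg) • P = P := by
    have h1 : cAut (A := A) (mul_mem haN hg) = MulAut.conj a * cAut (A := A) hg := by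
      ext x
      show (a : G) * g * x * ((a : G) * g)⁻¹ = (a : G) * (g * x * g⁻¹) * (a : G)⁻¹
      group
    rw [h1, mul_smul]
    exact ha
  have hT := R.map_conj_T _ P hP hmul
  have hmulN := mul_mem haN hg
  -- elements of `T` go to `T`
  have hcom : ((a : G) * g) * v₀ = v₀ * ((a : G) * g) := by
    rw [mul_assoc, hgv, ← mul_assoc, ← V_comm H hv₀ a.2, mul_assoc]
  have key : ∀ x ∈ T, ((a : G) * g) * x * ((a : G) * g)⁻¹ ∈ T := by
    intro x hx
    obtain ⟨v, hv, b, c, rfl⟩ := (H.mem_T x).1 hx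
    have h1 := norm_V_of_comm H hcK hv₀ hv₀1 hcom hv
    obtain ⟨b', c', h2⟩ := hT (R.u b c) (R.u_mem b c)
    have h3 : ((a : G) * g) * uu R b c * ((a : G) * g)⁻¹ = uu R b' c' := congrArg Subtype.val h2
    refine (H.mem_T _).2 ⟨_, h1, b', c', ?_⟩
    rw [← h3]; group
  exact ⟨a, a.2, mem_normalizer_fintype key⟩

/-- the elements of `V` -/
theorem V_cases (hV : Nat.card V = 4) {v w : G} (hv : v ∈ V) (hw : w ∈ V) (hv1 : v ≠ 1) (hw1 : w ≠ 1)
    (hvw : w ≠ v) {u : G} (hu : u ∈ V) : u = 1 ∨ u = v ∨ u = w ∨ u = v * w := by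
  classical
  haveI : Fintype V := Fintype.ofFinite V
  have h1 : v * w ≠ 1 := by
    intro h
    apply hvw
    rw [eq_inv_of_mul_eq_one_right h, V_inv H hv]
  let s : Finset V := {1, ⟨v, hv⟩, ⟨w, hw⟩, ⟨v * w, mul_mem hv hw⟩}
  have hs : s.card = 4 := by
    rw [Finset.card_insert_of_notMem, Finset.card_insert_of_notMem, Finset.card_insert_of_notMem,
      Finset.card_singleton]
    · simp only [Finset.mem_singleton, Subtype.mk.injEq]
      intro h
      exact hv1 (right_eq_mul.1 h)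
    · simp only [Finset.mem_insert, Finset.mem_singleton, Subtype.mk.injEq]
      rintro (h | h)
      · exact hvw h.symm
      · exact hw1 (left_eq_mul.1 h)
    · simp only [Finset.mem_insert, Finset.mem_singleton, Subtype.ext_iff, coe_one]
      rintro (h | h | h)
      · exact hv1 h.symm
      · exact hw1 h.symm
      · exact h1 h.symm
  have huniv : s = Finset.univ := Finset.eq_univ_of_card s (by
    rw [hs, ← Nat.card_eq_fintype_card, hV])
  have hmem : (⟨u, hu⟩ : V) ∈ s := by rw [huniv]; exact Finset.mem_univ _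
  simpa [s, Subtype.ext_iff] using hmem

/-- **The centraliser of `v ∈ V` is `V × A`.** -/
theorem cent (hcK : CenK A V) (hV : Nat.card V = 4) {τ : G} {δ : G → F} (hz : ∀ b, τ * uu R 0 b = uu R 0 b * τ)
    (hδ : ∀ v ∈ V, τ * v * τ⁻¹ = v * uu R 0 (δ v)) (hδadd : ∀ v ∈ V, ∀ w ∈ V, δ (v * w) = δ v + δ w)
    (hδ0 : ∀ v ∈ V, δ v = 0 → v = 1) {g v : G} (hv : v ∈ V) (hv1 : v ≠ 1) (hg : g * v = v * g) :
    ∃ w ∈ V, ∃ a ∈ A, g = w * a := by
  classical
  have hfin := finF H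
  have hgN : g ∈ normalizer (A : Set G) := H.cen v hv hv1 g hg
  obtain ⟨a, ha, hx⟩ := adjust H hcK hv hv1 hg
  set x := a * g with hxd
  have hxN : x ∈ normalizer (A : Set G) := mul_mem (le_normalizer ha) hgN
  have hxv : x * v = v * x := by
    rw [hxd, mul_assoc, hg, ← mul_assoc, ← V_comm H hv ha, mul_assoc]
  have hxv' : x * v * x⁻¹ = v := by rw [hxv, mul_inv_cancel_right]
  choose γ hγ using (norm_Z H hx)
  have hγadd : ∀ b c, γ (b + c) = γ b + γ c := by
    intro b c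
    have h1 : uu R 0 (γ (b + c)) = uu R 0 (γ b + γ c) := by
      rw [← hγ, ← z_mul, ← z_mul, ← hγ, ← hγ]; group
    exact (uu_inj R h1).2
  have hγ0 : γ 0 = 0 := by
    have h1 := hγadd 0 0
    rw [add_zero] at h1
    exact left_eq_add.1 h1
  have hδ1 : δ 1 = 0 := by
    have h1 := hδadd 1 (one_mem _) 1 (one_mem _)
    rw [mul_one] at h1
    exact left_eq_add.1 h1
  have hδv : δ v ≠ 0 := fun h => hv1 (hδ0 v hv h)
  -- the main relation
  have key : ∀ k : F, ∀ w ∈ V, γ (k * δ w) * δ v = γ (k * δ v) * δ (x * w * x⁻¹) := by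
    intro k w hw
    obtain ⟨y, hyz, hyv⟩ := grow_all H hz hδ k
    obtain ⟨y', hyz', hyv'⟩ := grow_all H hz hδ (γ (k * δ v) / δ v)
    have e1 : (x * y * x⁻¹) * v * (x * y * x⁻¹)⁻¹ = v * uu R 0 (γ (k * δ v)) := by
      have h1 : x⁻¹ * v * x = v := by
        calc x⁻¹ * v * x = x⁻¹ * (v * x) := by group
          _ = x⁻¹ * (x * v) := by rw [hxv]
          _ = v := by group
      calc (x * y * x⁻¹) * v * (x * y * x⁻¹)⁻¹ = x * (y * (x⁻¹ * v * x) * y⁻¹) * x⁻¹ := by group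
        _ = x * (v * uu R 0 (k * δ v)) * x⁻¹ := by rw [h1, hyv v hv]
        _ = (x * v * x⁻¹) * (x * uu R 0 (k * δ v) * x⁻¹) := by group
        _ = _ := by rw [hxv', hγ]
    have e2 : y' * v * y'⁻¹ = v * uu R 0 (γ (k * δ v)) := by
      rw [hyv' v hv, div_mul_cancel₀ _ hδv]
    have e3 : (y'⁻¹ * (x * y * x⁻¹)) * v = v * (y'⁻¹ * (x * y * x⁻¹)) := by
      calc (y'⁻¹ * (x * y * x⁻¹)) * v = y'⁻¹ * ((x * y * x⁻¹) * v * (x * y * x⁻¹)⁻¹) * (x * y * x⁻¹) := by
            group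
        _ = y'⁻¹ * (y' * v * y'⁻¹) * (x * y * x⁻¹) := by rw [e1, e2]
        _ = _ := by group
    have e4 : ∀ b, (x * y * x⁻¹) * uu R 0 b * (x * y * x⁻¹)⁻¹ = uu R 0 b := by
      intro b
      obtain ⟨c, hc⟩ := norm_Z H (inv_mem hx) b
      rw [inv_inv] at hc
      calc (x * y * x⁻¹) * uu R 0 b * (x * y * x⁻¹)⁻¹ = x * (y * (x⁻¹ * uu R 0 b * x) * y⁻¹) * x⁻¹ := by
            group
        _ = x * (y * uu R 0 c * y⁻¹) * x⁻¹ := by rw [hc]
        _ = x * (x⁻¹ * uu R 0 b * x) * x⁻¹ := by rw [hyz, mul_inv_cancel_right, hc]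
        _ = _ := by group
    have e6 := fixZ H hcK hv hv1 e3 (by
      intro b
      calc y'⁻¹ * (x * y * x⁻¹) * uu R 0 b * (y'⁻¹ * (x * y * x⁻¹))⁻¹ =
          y'⁻¹ * ((x * y * x⁻¹) * uu R 0 b * (x * y * x⁻¹)⁻¹) * y' := by group
        _ = y'⁻¹ * (uu R 0 b * y') := by rw [e4]; group
        _ = y'⁻¹ * (y' * uu R 0 b) := by rw [hyz']
        _ = _ := by group)
    obtain ⟨u, hu, c, e, hce⟩ := (H.mem_T _).1 e6
    have e7 : x * y * x⁻¹ = y' * (u * uu R c e) := by rw [← hce]; group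
    -- conjugate `x w x⁻¹`
    have hw' := norm_V_of_norm H hxN hx hw
    have e8 : (x * y * x⁻¹) * (x * w * x⁻¹) * (x * y * x⁻¹)⁻¹ = (x * w * x⁻¹) * uu R 0 (γ (k * δ w)) := by
      calc (x * y * x⁻¹) * (x * w * x⁻¹) * (x * y * x⁻¹)⁻¹ = x * (y * w * y⁻¹) * x⁻¹ := by group
        _ = x * (w * uu R 0 (k * δ w)) * x⁻¹ := by rw [hyv w hw]
        _ = (x * w * x⁻¹) * (x * uu R 0 (k * δ w) * x⁻¹) := by group
        _ = _ := by rw [hγ]
    have e9 : (u * uu R c e) * (x * w * x⁻¹) * (u * uu R c e)⁻¹ = x * w * x⁻¹ := by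
      have h1 : (u * uu R c e) * (x * w * x⁻¹) = (x * w * x⁻¹) * (u * uu R c e) := by
        calc (u * uu R c e) * (x * w * x⁻¹) = u * (uu R c e * (x * w * x⁻¹)) := by group
          _ = u * ((x * w * x⁻¹) * uu R c e) := by rw [V_uu H hw']
          _ = (u * (x * w * x⁻¹)) * uu R c e := by group
          _ = ((x * w * x⁻¹) * u) * uu R c e := by rw [V_mul_comm H hu hw']
          _ = _ := by group
      rw [h1, mul_inv_cancel_right]
    have e10 : (x * y * x⁻¹) * (x * w * x⁻¹) * (x * y * x⁻¹)⁻¹ =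
        (x * w * x⁻¹) * uu R 0 (γ (k * δ v) / δ v * δ (x * w * x⁻¹)) := by
      rw [e7]
      calc y' * (u * uu R c e) * (x * w * x⁻¹) * (y' * (u * uu R c e))⁻¹ =
          y' * ((u * uu R c e) * (x * w * x⁻¹) * (u * uu R c e)⁻¹) * y'⁻¹ := by group
        _ = y' * (x * w * x⁻¹) * y'⁻¹ := by rw [e9]
        _ = _ := hyv' _ hw'
    rw [e8] at e10
    have e11 := (uu_inj R (mul_left_cancel e10)).2
    rw [e11]
    field_simp
  -- `w` another element of `V`
  obtain ⟨w, hw, hw1, hwv⟩ : ∃ w ∈ V, w ≠ 1 ∧ w ≠ v := by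
    by_contra hcon
    push Not at hcon
    have h1 : (V : Set G) ⊆ {1, v} := by
      intro w hw
      by_cases h : w = 1
      · exact Or.inl h
      · exact Or.inr (hcon w hw h)
    have h2 : Nat.card V ≤ 2 := by
      have h3 := Set.ncard_le_ncard h1 (Set.toFinite _)
      have h4 : ({1, v} : Set G).ncard ≤ 2 := by
        have := Set.ncard_insert_le (1 : G) {v}
        rwa [Set.ncard_singleton] at this
      have h5 : (V : Set G).ncard = Nat.card V := rfl
      omega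
    omega
  set β := δ w / δ v with hβ
  have hδw : δ w = β * δ v := by rw [hβ, div_mul_cancel₀ _ hδv]
  have hβ0 : β ≠ 0 := div_ne_zero (fun h => hw1 (hδ0 w hw h)) hδv
  have hβ1 : β ≠ 1 := by
    intro h
    rw [h, one_mul] at hδw
    apply hwv
    have h1 : δ (w * v) = 0 := by
      rw [hδadd w hw v hv, hδw]
      exact add_self R _
    rw [eq_inv_of_mul_eq_one_left (hδ0 _ (mul_mem hw hv) h1), V_inv H hv]
  have hcub := cubic H.cardF R.two hβ0 hβ1
  have hγ1 : γ 1 ≠ 0 := by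
    intro h
    have h1 := hγ 1
    rw [h, uu_zero, mul_inv_eq_one, mul_eq_left, ← uu_zero R] at h1
    exact one_ne_zero (uu_inj R h1).2
  have key2 : ∀ k, γ (k * β) * δ v = γ k * δ (x * w * x⁻¹) := by
    intro k
    have h1 := key (k / δ v) w hw
    rw [hδw] at h1
    have h2 : k / δ v * (β * δ v) = k * β := by field_simp
    have h3 : k / δ v * δ v = k := div_mul_cancel₀ _ hδv
    rw [h2, h3] at h1
    exact h1
  have hlin : ∀ k, γ (k * β) = γ k * β := by
    have hxw := norm_V_of_norm H hxN hx hw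
    rcases V_cases H hV hv hw hv1 hw1 hwv hxw with h | h | h | h
    · exfalso
      apply hw1
      have : w = x⁻¹ * (x * w * x⁻¹) * x := by group
      rw [this, h]; group
    · exfalso
      apply hwv
      have : w = x⁻¹ * (x * w * x⁻¹) * x := by group
      rw [this, h]
      calc x⁻¹ * v * x = x⁻¹ * (v * x) := by group
        _ = x⁻¹ * (x * v) := by rw [hxv]
        _ = v := by group
    · intro k
      have h1 := key2 k
      rw [h, hδw] at h1
      have h2 : (γ (k * β) - γ k * β) * δ v = 0 := by linear_combination h1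
      rcases mul_eq_zero.1 h2 with h3 | h3
      · exact sub_eq_zero.1 h3
      · exact absurd h3 hδv
    · exfalso
      refine no_swap R.two hβ0 hβ1 hcub hγadd hγ1 (fun k => ?_)
      have h1 := key2 k
      rw [h, hδadd v hv w hw, hδw] at h1
      have h2 : (γ (k * β) - γ k * (β + 1)) * δ v = 0 := by linear_combination h1
      rcases mul_eq_zero.1 h2 with h3 | h3
      · exact sub_eq_zero.1 h3
      · exact absurd h3 hδv
  have hγl : ∀ b, γ b = γ 1 * b := gamma_linear H.cardF hβ0 hβ1 hγ0 hlin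
  obtain ⟨l, hl⟩ := exists_theta R hγ1
  have hfixz : (dd R l)⁻¹ * x ∈ T := by
    refine fixZ H hcK hv hv1 (by
      have h2 := V_comm H hv (dd_mem R l)
      calc (dd R l)⁻¹ * x * v = (dd R l)⁻¹ * (x * v) := by group
        _ = (dd R l)⁻¹ * (v * dd R l) * ((dd R l)⁻¹ * x) := by rw [hxv]; group
        _ = v * ((dd R l)⁻¹ * x) := by rw [h2]; group) (fun b => ?_)
    have h1 : uu R 0 (γ b) = dd R l * uu R 0 b * (dd R l)⁻¹ := by
      rw [dd_conj_z, hl, hγl, mul_comm]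
    calc (dd R l)⁻¹ * x * uu R 0 b * ((dd R l)⁻¹ * x)⁻¹ = (dd R l)⁻¹ * (x * uu R 0 b * x⁻¹) * dd R l := by
          group
      _ = (dd R l)⁻¹ * (dd R l * uu R 0 b * (dd R l)⁻¹) * dd R l := by rw [hγ, h1]
      _ = _ := by group
  obtain ⟨u, hu, c, e, hce⟩ := (H.mem_T _).1 hfixz
  refine ⟨u, hu, a⁻¹ * dd R l * uu R c e, mul_mem (mul_mem (inv_mem ha) (dd_mem R l)) (uu_mem R c e), ?_⟩
  have h1 : g = a⁻¹ * dd R l * ((dd R l)⁻¹ * x) := by rw [hxd]; group
  rw [h1, hce]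
  have h2 : u * (a⁻¹ * dd R l) = (a⁻¹ * dd R l) * u := V_comm H hu (mul_mem (inv_mem ha) (dd_mem R l))
  calc a⁻¹ * dd R l * (u * uu R c e) = (a⁻¹ * dd R l * u) * uu R c e := by group
    _ = _ := by rw [← h2]; group

end grow

section burnside

variable [Finite G] {R : SzRel.Rel A F} (H : Cfg R V T)

include H

/-- an element of `N(A)` centralising `Z` induces an inner automorphism of `A` by an element of `S` -/
theorem exists_inner {g : G} (hgN : g ∈ normalizer (A : Set G)) (hz : ∀ b, g * uu R 0 b = uu R 0 b * g) :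
    ∃ a b, ∀ x ∈ A, (uu R a b)⁻¹ * g * x = x * ((uu R a b)⁻¹ * g) := by
  have := finF H
  obtain ⟨a, b, h⟩ := AutFix.eq_conj R (by rw [H.cardF]) this (cAut (A := A) hgN) (by
    intro b
    apply Subtype.ext
    rw [cAut_apply]
    show g * uu R 0 b * g⁻¹ = uu R 0 b
    rw [hz, mul_inv_cancel_right])
  refine ⟨a, b, fun x hx => ?_⟩
  have h2 := congrArg Subtype.val (h ⟨x, hx⟩)
  rw [cAut_apply] at h2
  have h3 : g * x * g⁻¹ = uu R a b * x * (uu R a b)⁻¹ := h2
  have h4 : g * x = uu R a b * x * (uu R a b)⁻¹ * g := by rw [← h3]; group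
  rw [mul_assoc, h4]; group

/-- An element of `C_G(A) ∩ N(V)` centralising `1 ≠ t ∈ V` centralises `V`. -/
theorem comm_V_of_norm (hV : 4 ≤ Nat.card V) {g₀ : G} (hg₀ : g₀ ∈ normalizer (T : Set G))
    (hne : g₀ ∉ normalizer (A : Set G)) {g t : G} (hgA : ∀ a ∈ A, g * a = a * g) (ht : t ∈ V) (ht1 : t ≠ 1)
    (hgt : g * t = t * g) (hgV : ∀ v ∈ V, g⁻¹ * v * g ∈ V) : ∀ v ∈ V, g * v = v * g := by
  obtain ⟨τ, -, δ, hz, hδ, hδadd, hδ0⟩ := exists_delta H hV hg₀ hne
  intro v hv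
  have hgz : ∀ b, g * uu R 0 b = uu R 0 b * g := fun b => hgA _ (uu_mem R 0 b)
  -- `τ' = τ⁻¹ (g τ g⁻¹)` centralises `Z` and `t`
  have e0 : ∀ w ∈ V, τ⁻¹ * w * τ = w * uu R 0 (δ w) := by
    intro w hw
    have h1 : τ * (w * uu R 0 (δ w)) * τ⁻¹ = w := by
      calc τ * (w * uu R 0 (δ w)) * τ⁻¹ = (τ * w * τ⁻¹) * (τ * uu R 0 (δ w) * τ⁻¹) := by group
        _ = (w * uu R 0 (δ w)) * uu R 0 (δ w) := by rw [hδ w hw, hz, mul_inv_cancel_right]
        _ = w := by rw [mul_assoc, z_sq, mul_one]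
    calc τ⁻¹ * w * τ = τ⁻¹ * (τ * (w * uu R 0 (δ w)) * τ⁻¹) * τ := by rw [h1]
      _ = _ := by group
  have e1 : ∀ w ∈ V, (g * τ * g⁻¹) * w * (g * τ * g⁻¹)⁻¹ = w * uu R 0 (δ (g⁻¹ * w * g)) := by
    intro w hw
    calc (g * τ * g⁻¹) * w * (g * τ * g⁻¹)⁻¹ = g * (τ * (g⁻¹ * w * g) * τ⁻¹) * g⁻¹ := by group
      _ = g * ((g⁻¹ * w * g) * uu R 0 (δ (g⁻¹ * w * g))) * g⁻¹ := by rw [hδ _ (hgV w hw)]
      _ = w * (g * uu R 0 (δ (g⁻¹ * w * g)) * g⁻¹) := by group
      _ = _ := by rw [hgz, mul_inv_cancel_right]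
  set y := τ⁻¹ * (g * τ * g⁻¹) with hy
  have e2 : ∀ w ∈ V, y * w * y⁻¹ = w * uu R 0 (δ w + δ (g⁻¹ * w * g)) := by
    intro w hw
    calc y * w * y⁻¹ = τ⁻¹ * ((g * τ * g⁻¹) * w * (g * τ * g⁻¹)⁻¹) * τ := by rw [hy]; group
      _ = τ⁻¹ * (w * uu R 0 (δ (g⁻¹ * w * g))) * τ := by rw [e1 w hw]
      _ = (τ⁻¹ * w * τ) * (τ⁻¹ * (uu R 0 (δ (g⁻¹ * w * g)) * τ)) := by group
      _ = (w * uu R 0 (δ w)) * (τ⁻¹ * (τ * uu R 0 (δ (g⁻¹ * w * g)))) := by rw [e0 w hw, hz]
      _ = w * (uu R 0 (δ w) * uu R 0 (δ (g⁻¹ * w * g))) := by group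
      _ = _ := by rw [z_mul]
  have hgt' : g⁻¹ * t * g = t := by
    calc g⁻¹ * t * g = g⁻¹ * (t * g) := by group
      _ = g⁻¹ * (g * t) := by rw [hgt]
      _ = t := by group
  have e3 : y * t = t * y := by
    have h1 := e2 t ht
    rw [hgt', add_self R, uu_zero, mul_one] at h1
    calc y * t = (y * t * y⁻¹) * y := by group
      _ = t * y := by rw [h1]
  have e4 : ∀ b, y * uu R 0 b = uu R 0 b * y := by
    intro b
    have h1 : g⁻¹ * uu R 0 b = uu R 0 b * g⁻¹ := by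
      calc g⁻¹ * uu R 0 b = g⁻¹ * (uu R 0 b * g) * g⁻¹ := by group
        _ = g⁻¹ * (g * uu R 0 b) * g⁻¹ := by rw [hgz]
        _ = _ := by group
    have h2 : τ⁻¹ * uu R 0 b = uu R 0 b * τ⁻¹ := by
      calc τ⁻¹ * uu R 0 b = τ⁻¹ * (uu R 0 b * τ) * τ⁻¹ := by group
        _ = τ⁻¹ * (τ * uu R 0 b) * τ⁻¹ := by rw [hz]
        _ = _ := by group
    calc y * uu R 0 b = τ⁻¹ * g * τ * (g⁻¹ * uu R 0 b) := by rw [hy]; group
      _ = τ⁻¹ * g * (τ * uu R 0 b) * g⁻¹ := by rw [h1]; group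
      _ = τ⁻¹ * (g * uu R 0 b) * τ * g⁻¹ := by rw [hz]; group
      _ = (τ⁻¹ * uu R 0 b) * g * τ * g⁻¹ := by rw [hgz]; group
      _ = _ := by rw [h2, hy]; group
  have e5 : y ∈ normalizer (A : Set G) := H.cen t ht ht1 y e3
  obtain ⟨a, b, hab⟩ := exists_inner H e5 e4
  -- `[y, v] ∈ A ∩ C(A)`
  set k := (uu R a b)⁻¹ * y with hk
  have hky : y = uu R a b * k := by rw [hk]; group
  have e6 : k * v * k⁻¹ = v * uu R 0 (δ v + δ (g⁻¹ * v * g)) := by
    have h1 := e2 v hv
    rw [hky] at h1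
    have h2 : k * v * k⁻¹ = (uu R a b)⁻¹ * (v * uu R 0 (δ v + δ (g⁻¹ * v * g))) * uu R a b := by
      rw [← h1]; group
    rw [h2]
    have h3 := V_uu H hv a b
    have h4 := z_comm R a b (δ v + δ (g⁻¹ * v * g))
    calc (uu R a b)⁻¹ * (v * uu R 0 (δ v + δ (g⁻¹ * v * g))) * uu R a b
        = (uu R a b)⁻¹ * v * (uu R 0 (δ v + δ (g⁻¹ * v * g)) * uu R a b) := by group
      _ = (uu R a b)⁻¹ * (v * uu R a b) * uu R 0 (δ v + δ (g⁻¹ * v * g)) := by rw [← h4]; group
      _ = _ := by rw [h3]; group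
  have e7 : uu R 0 (δ v + δ (g⁻¹ * v * g)) = 1 := by
    refine cap H (uu_mem R _ _) (fun x hx => ?_)
    have h1 : uu R 0 (δ v + δ (g⁻¹ * v * g)) = v⁻¹ * (k * v * k⁻¹) := by rw [e6]; group
    have h2 : k * x = x * k := by
      have := hab x hx
      rw [hk]
      exact this
    have h3 : k⁻¹ * x = x * k⁻¹ := by
      calc k⁻¹ * x = k⁻¹ * (x * k) * k⁻¹ := by group
        _ = k⁻¹ * (k * x) * k⁻¹ := by rw [h2]
        _ = _ := by group
    have h4 := V_comm H hv hx
    have h5 : v⁻¹ * x = x * v⁻¹ := V_comm H (inv_mem hv) hx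
    rw [h1]
    calc v⁻¹ * (k * v * k⁻¹) * x = v⁻¹ * k * v * (k⁻¹ * x) := by group
      _ = v⁻¹ * k * (v * x) * k⁻¹ := by rw [h3]; group
      _ = v⁻¹ * (k * x) * v * k⁻¹ := by rw [h4]; group
      _ = (v⁻¹ * x) * k * v * k⁻¹ := by rw [h2]; group
      _ = _ := by rw [h5]; group
  rw [← uu_zero R] at e7
  have e8 := (uu_inj R e7).2
  -- `δ v = δ (g⁻¹ v g)`
  have e9 : δ (v * (g⁻¹ * v * g)) = 0 := by rw [hδadd v hv _ (hgV v hv), e8]
  have e10 := hδ0 _ (mul_mem hv (hgV v hv)) e9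
  have e11 : g⁻¹ * v * g = v := by
    rw [eq_inv_of_mul_eq_one_right e10, V_inv H hv]
  calc g * v = g * (g⁻¹ * v * g) := by rw [e11]
    _ = v * g := by group

end burnside

section main

variable [Finite G] {R : SzRel.Rel A F} (H : Cfg R V T)

include H

/-- **Main theorem of this file.** The `Core` and its relation with the given configuration. -/
theorem exists_core (hcK : CenK A V) (hV : Nat.card V = 4) {g₀ : G} (hg₀ : g₀ ∈ normalizer (T : Set G))
    (hne : g₀ ∉ normalizer (A : Set G)) : ∃ (C : Core G) (φ : F ≃+* K8), C.L = A ∧ (∀ a, C.v a ∈ V) ∧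
      (C.R.w : G) = (R.w : G) ∧ (∀ a b, C.U (φ a) (φ b) = uu R a b) ∧
      ∀ k : Fˣ, C.dk (Units.map (φ : F →* K8) k) = dd R k := by
  classical
  have hfin := finF H
  obtain ⟨τ, -, δ, hz, hδ, hδadd, hδ0⟩ := exists_delta H hV.ge hg₀ hne
  have hδ1 : δ 1 = 0 := by
    have h1 := hδadd 1 (one_mem _) 1 (one_mem _)
    rw [mul_one] at h1
    exact left_eq_add.1 h1
  obtain ⟨v, hv, hv1⟩ : ∃ v ∈ V, v ≠ 1 := by
    by_contra hcon
    push Not at hcon
    have : V = ⊥ := (eq_bot_iff_forall V).2 hcon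
    rw [this, card_bot] at hV
    omega
  have hδv : δ v ≠ 0 := fun h => hv1 (hδ0 v hv h)
  obtain ⟨w, hw, hw1, hwv, hcub⟩ : ∃ w ∈ V, w ≠ 1 ∧ w ≠ v ∧ (δ w / δ v) ^ 3 = δ w / δ v + 1 := by
    obtain ⟨w, hw, hw1, hwv⟩ : ∃ w ∈ V, w ≠ 1 ∧ w ≠ v := by
      by_contra hcon
      push Not at hcon
      have h1 : (V : Set G) ⊆ {1, v} := by
        intro w hw
        by_cases h : w = 1
        · exact Or.inl h
        · exact Or.inr (hcon w hw h)
      have h2 : Nat.card V ≤ 2 := by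
        have h3 := Set.ncard_le_ncard h1 (Set.toFinite _)
        have h4 : ({1, v} : Set G).ncard ≤ 2 := by
          have := Set.ncard_insert_le (1 : G) {v}
          rwa [Set.ncard_singleton] at this
        have h5 : (V : Set G).ncard = Nat.card V := rfl
        omega
      omega
    have hδw : δ w ≠ 0 := fun h => hw1 (hδ0 w hw h)
    have hβ1 : δ w / δ v ≠ 1 := by
      intro h
      rw [div_eq_one_iff_eq hδv] at h
      apply hwv
      have h1 : δ (w * v) = 0 := by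
        rw [hδadd w hw v hv, h]
        exact add_self R _
      rw [eq_inv_of_mul_eq_one_left (hδ0 _ (mul_mem hw hv) h1), V_inv H hv]
    rcases cubic H.cardF R.two (div_ne_zero hδw hδv) hβ1 with h | h
    · exact ⟨w, hw, hw1, hwv, h⟩
    · refine ⟨v * w, mul_mem hv hw, ?_, ?_, ?_⟩
      · intro h'
        apply hwv
        rw [eq_inv_of_mul_eq_one_right h', V_inv H hv]
      · intro h'
        exact hw1 (mul_eq_left.1 h')
      · rw [hδadd v hv w hw, add_div, div_self hδv]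
        set b := δ w / δ v with hb
        linear_combination h + (2 * b ^ 2 + b) * R.two
  set β := δ w / δ v with hβ
  have hδw : δ w = β * δ v := by rw [hβ, div_mul_cancel₀ _ hδv]
  obtain ⟨φ, hφ⟩ := exists_iso H.cardF hcub
  have hφs : φ.symm K8.al = β := by rw [← hφ, RingEquiv.symm_apply_apply]
  -- the parametrisation of `V`
  let vv : A4 → G := fun a => pw v a.1 * pw w a.2
  have hvv : ∀ a, vv a ∈ V := fun a => mul_mem (pw_mem hv _) (pw_mem hw _)
  have hδvv : ∀ a, δ (vv a) = φ.symm (emb a) * δ v := by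
    intro a
    rw [emb_eq, map_add]
    show δ (pw v a.1 * pw w a.2) = _
    rw [hδadd _ (pw_mem hv _) _ (pw_mem hw _)]
    have e1 : δ (pw v a.1) = φ.symm (if a.1 = 0 then 0 else 1) * δ v := by
      unfold pw
      split_ifs
      · rw [hδ1, map_zero, zero_mul]
      · rw [map_one, one_mul]
    have e2 : δ (pw w a.2) = φ.symm (if a.2 = 0 then 0 else K8.al) * δ v := by
      unfold pw
      split_ifs
      · rw [hδ1, map_zero, zero_mul]
      · rw [hφs, hδw]
    rw [e1, e2]; ring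
  have huu : ∀ b : K8, (((relField R φ).u 0 b : A) : G) = uu R 0 (φ.symm b) := by
    intro b
    show (R.u (φ.symm 0) (φ.symm b) : G) = _
    rw [map_zero]; rfl
  refine ⟨{
    L := A
    R := relField R φ
    v := vv
    v_add := ?_
    v_comm := ?_
    v_notin := ?_
    cent := ?_
    grow := ?_ }, φ, rfl, hvv, rfl, ?_, ?_⟩
  · intro a b
    show pw v (a.1 + b.1) * pw w (a.2 + b.2) = pw v a.1 * pw w a.2 * (pw v b.1 * pw w b.2)
    rw [pw_add (H.sqV v hv), pw_add (H.sqV w hw)]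
    have := V_mul_comm H (pw_mem hw a.2) (pw_mem hv b.1)
    calc pw v a.1 * pw v b.1 * (pw w a.2 * pw w b.2) = pw v a.1 * (pw v b.1 * pw w a.2) * pw w b.2 := by
          group
      _ = pw v a.1 * (pw w a.2 * pw v b.1) * pw w b.2 := by rw [← this]
      _ = _ := by group
  · intro a l hl
    exact V_comm H (hvv a) hl
  · intro a h
    have h1 : vv a = 1 := V_cap' H (hvv a) h
    have h2 := hδvv a
    rw [h1, hδ1] at h2
    rcases mul_eq_zero.1 h2.symm with h3 | h3
    · have h4 : emb a = 0 := by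
        apply φ.symm.injective
        rw [h3, map_zero]
      exact emb_eq_zero.1 h4
    · exact absurd h3 hδv
  · intro a ha g hg
    have h1 : vv a ≠ 1 := by
      intro h
      have h2 := hδvv a
      rw [h, hδ1] at h2
      rcases mul_eq_zero.1 h2.symm with h3 | h3
      · apply ha
        have h4 : emb a = 0 := by
          apply φ.symm.injective
          rw [h3, map_zero]
        exact emb_eq_zero.1 h4
      · exact hδv h3
    obtain ⟨u, hu, l, hl, hul⟩ := cent H hcK hV hz hδ hδadd hδ0 (hvv a) h1 hg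
    have h10 : (1 : ZMod 2) ≠ 0 := by decide
    rcases V_cases H hV hv hw hv1 hw1 hwv hu with h | h | h | h
    · refine ⟨(0, 0), l, hl, ?_⟩
      show g = pw v 0 * pw w 0 * l
      unfold pw
      rw [if_pos rfl, if_pos rfl, hul, h, one_mul, one_mul, one_mul]
    · refine ⟨(1, 0), l, hl, ?_⟩
      show g = pw v 1 * pw w 0 * l
      unfold pw
      rw [if_neg h10, if_pos rfl, hul, h, mul_one]
    · refine ⟨(0, 1), l, hl, ?_⟩
      show g = pw v 0 * pw w 1 * l
      unfold pw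
      rw [if_neg h10, if_pos rfl, hul, h, one_mul]
    · refine ⟨(1, 1), l, hl, ?_⟩
      show g = pw v 1 * pw w 1 * l
      unfold pw
      rw [if_neg h10, if_neg h10, hul, h]
  · intro c
    obtain ⟨x, hxz, hxv⟩ := grow_all H hz hδ (φ.symm c / δ v)
    refine ⟨x, fun b => ?_, fun a => ?_⟩
    · rw [huu]; exact hxz _
    · rw [hxv _ (hvv a), huu, hδvv, map_mul]
      congr 2
      field_simp
  · intro a b
    show (R.u (φ.symm (φ a)) (φ.symm (φ b)) : G) = _
    rw [RingEquiv.symm_apply_apply, RingEquiv.symm_apply_apply]; rfl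
  · intro k
    show (R.d (Units.map (φ.symm : K8 →* F) (Units.map (φ : F →* K8) k)) : G) = _
    have h1 : Units.map (φ.symm : K8 →* F) (Units.map (φ : F →* K8) k) = k := by
      apply Units.ext
      simp
    rw [h1]; rfl

/-- The `Core` with the relation of `w`. -/
theorem exists_core_hw (hcK : CenK A V) (hV : Nat.card V = 4) {g₀ : G} (hg₀ : g₀ ∈ normalizer (T : Set G))
    (hne : g₀ ∉ normalizer (A : Set G)) (hw : RuRed.RelW R) :
    ∃ C : Core G, (C.R.w : G) * (C.U 1 0)⁻¹ * (C.R.w : G) * C.U 1 0 = C.z 1 * (C.R.w : G) := by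
  obtain ⟨C, φ, -, -, h1, h2, -⟩ := exists_core H hcK hV hg₀ hne
  refine ⟨C, ?_⟩
  have h3 := h2 1 0
  have h4 := h2 0 1
  rw [map_one, map_zero] at h3 h4
  rw [h1, h3, C.z_eq, h4]
  exact congrArg Subtype.val hw

/-- The `Core8` for `|V| = 8`. -/
theorem exists_core8 (hcK : CenK A V) (hV : Nat.card V = 8) {g₀ : G} (hg₀ : g₀ ∈ normalizer (T : Set G))
    (hne : g₀ ∉ normalizer (A : Set G)) : ∃ (C : Ru8.Core8 G) (φ : F ≃+* K8), C.L = A ∧ (∀ a, C.v a ∈ V) ∧
      (C.R.w : G) = (R.w : G) ∧ (∀ a b, C.U (φ a) (φ b) = uu R a b) ∧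
      ∀ k : Fˣ, C.dk (Units.map (φ : F →* K8) k) = dd R k := by
  classical
  have hfin := finF H
  obtain ⟨τ, -, δ, hz, hδ, hδadd, hδ0⟩ := exists_delta H (by omega) hg₀ hne
  haveI : Fintype F := Fintype.ofFinite F
  have φ : F ≃+* K8 := FiniteField.ringEquivOfCardEq (by
    rw [← Nat.card_eq_fintype_card, H.cardF, K8.card])
  have hδ1 : δ 1 = 0 := by
    have h1 := hδadd 1 (one_mem _) 1 (one_mem _)
    rw [mul_one] at h1
    exact left_eq_add.1 h1
  have hinj : Function.Injective (fun v : V => δ v) := by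
    intro v w h
    have h1 : δ v = δ w := h
    have h2 : δ ((v : G) * w) = 0 := by
      rw [hδadd v v.2 w w.2, h1]
      exact add_self R _
    have h3 := hδ0 _ (mul_mem v.2 w.2) h2
    apply Subtype.ext
    rw [eq_inv_of_mul_eq_one_left h3, V_inv H w.2]
  have hbij : Function.Bijective (fun v : V => δ v) :=
    (Nat.bijective_iff_injective_and_card _).2 ⟨hinj, by rw [hV, H.cardF]⟩
  choose f hf using hbij.2
  let vv : K8 → G := fun a => (f (φ.symm a) : G)
  have hvv : ∀ a, vv a ∈ V := fun a => (f (φ.symm a)).2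
  have hδvv : ∀ a, δ (vv a) = φ.symm a := fun a => hf _
  have huu : ∀ b : K8, (((relField R φ).u 0 b : A) : G) = uu R 0 (φ.symm b) := by
    intro b
    show (R.u (φ.symm 0) (φ.symm b) : G) = _
    rw [map_zero]; rfl
  have hvv1 : ∀ a, a ≠ 0 → vv a ≠ 1 := by
    intro a ha h
    apply ha
    have h1 := hδvv a
    rw [h, hδ1] at h1
    exact (map_eq_zero φ.symm).1 h1.symm
  refine ⟨{
    L := A
    R := relField R φ
    v := vv
    v_add := ?_
    v_comm := ?_
    v_notin := ?_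
    norm := ?_
    cent := ?_
    grow := ?_ }, φ, rfl, hvv, rfl, ?_, ?_⟩
  · intro a b
    have h1 : (⟨vv (a + b), hvv _⟩ : V) = ⟨vv a * vv b, mul_mem (hvv a) (hvv b)⟩ := by
      apply hinj
      show δ (vv (a + b)) = δ (vv a * vv b)
      rw [hδadd _ (hvv a) _ (hvv b), hδvv, hδvv, hδvv, map_add]
    exact congrArg Subtype.val h1
  · intro a l hl
    exact V_comm H (hvv a) hl
  · intro a h
    by_contra ha
    exact hvv1 a ha (V_cap' H (hvv a) h)
  · intro a ha g hg l hl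
    exact (mem_normalizer_iff.1 (H.cen _ (hvv a) (hvv1 a ha) g hg) l).1 hl
  · intro a ha g hg hgl
    have h1 := hcK _ (hvv a) (hvv1 a ha) g hg hgl
    refine ⟨φ (δ g), ?_⟩
    have h2 : (⟨g, h1⟩ : V) = ⟨vv (φ (δ g)), hvv _⟩ := by
      apply hinj
      show δ g = δ (vv (φ (δ g)))
      rw [hδvv, RingEquiv.symm_apply_apply]
    exact congrArg Subtype.val h2
  · intro c
    obtain ⟨x, hxz, hxv⟩ := grow_all H hz hδ (φ.symm c)
    refine ⟨x, fun b => ?_, fun a => ?_⟩
    · rw [huu]; exact hxz _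
    · rw [hxv _ (hvv a), huu, hδvv, map_mul]
  · intro a b
    show (R.u (φ.symm (φ a)) (φ.symm (φ b)) : G) = _
    rw [RingEquiv.symm_apply_apply, RingEquiv.symm_apply_apply]; rfl
  · intro k
    show (R.d (Units.map (φ.symm : K8 →* F) (Units.map (φ : F →* K8) k)) : G) = _
    have h1 : Units.map (φ.symm : K8 →* F) (Units.map (φ : F →* K8) k) = k := by
      apply Units.ext
      simp
    rw [h1]; rfl

end main

end Cfsg.Agent.RuRed.Grow2
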