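import Mathlib
import Cfsg.Agent.RuRed.PairBasic

/-!
# Pairs of standard `Sz(8)`: the two cases

For `Quad A B P` either `P ∩ C(A)`, `P ∩ C(B)` are elementary abelian, complements of the common centre `Z`, or
`P ∩ C(B) = P ∩ A` and `P ∩ C(A) = P ∩ B`.
-/

set_option autoImplicit false
set_option linter.unusedSectionVars false

open scoped commutatorElement Pointwise

namespace Cfsg.Agent.RuRed

open Subgroup

variable {G : Type*} [Group G] [Finite G]

namespace Quad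

variable {A B P : Subgroup G}

/-- elements of `P` centralising `A` and `B` are trivial -/
theorem eq_one (q : Quad A B P) {x : G} (hx : x ∈ P) (hA : x ∈ centralizer (A : Set G))
    (hB : x ∈ centralizer (B : Set G)) : x = 1 := by
  by_contra h
  obtain ⟨m, hm⟩ := exists_pow_orderOf_two (exists_two_pow_of_mem q.two hx) h
  exact q.odd _ (pow_mem hA m) (pow_mem hB m) hm

/-- `[P ∩ C(A), P ∩ C(B)] = 1` -/
theorem comm (q : Quad A B P) {r y : G} (hr : r ∈ P) (hrA : r ∈ centralizer (A : Set G)) (hy : y ∈ P)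
    (hyB : y ∈ centralizer (B : Set G)) : r * y = y * r := by
  have h1 : r * y * r⁻¹ * y⁻¹ = 1 := by
    refine q.eq_one ?_ ?_ ?_
    · exact mul_mem (mul_mem (mul_mem hr hy) (inv_mem hr)) (inv_mem hy)
    · have e : r * y * r⁻¹ * y⁻¹ = r * (y * r⁻¹ * y⁻¹) := by group
      rw [e]
      exact mul_mem hrA (conj_mem_cent (q.leA hy) (inv_mem hrA))
    · exact mul_mem (conj_mem_cent (q.leB hr) hyB) (inv_mem hyB)
  have h2 := mul_inv_eq_one.mp h1
  exact mul_inv_eq_iff_eq_mul.mp h2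

theorem eq_one_of_A (q : Quad A B P) {x : G} (hx : x ∈ A) (hA : x ∈ centralizer (A : Set G)) : x = 1 :=
  eq_one_of_mem q.a.sz hx hA

variable {Z : Subgroup G} {ρ i : G}

theorem dec (q : Quad A B P) {p : G} (hp : p ∈ P) :
    ∃ k ∈ P, k ∈ centralizer (A : Set G) ∧ ∃ s ∈ P ⊓ A, p = k * s :=
  decomp q.a.sz q.two q.leA q.cardA hp

/-- uniqueness of the decomposition -/
theorem dec_unique (q : Quad A B P) {k k' s s' : G} (hk : k ∈ centralizer (A : Set G))
    (hk' : k' ∈ centralizer (A : Set G)) (hs : s ∈ A) (hs' : s' ∈ A) (h : k * s = k' * s') : k = k' ∧ s = s' := by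
  have h1 : k'⁻¹ * k = s' * s⁻¹ := by
    rw [inv_mul_eq_iff_eq_mul, ← mul_assoc, ← h]; group
  have h2 : k'⁻¹ * k = 1 := q.eq_one_of_A (by rw [h1]; exact mul_mem hs' (inv_mem hs)) (mul_mem (inv_mem hk') hk)
  have h3 : k = k' := (inv_mul_eq_one.mp h2).symm
  subst h3
  exact ⟨rfl, mul_left_cancel h⟩

/-- product of cardinalities -/
theorem card_mul (q : Quad A B P) :
    Nat.card (P ⊓ centralizer (A : Set G) : Subgroup G) * 64 = Nat.card P := by
  rw [← q.cardA, ← Nat.card_prod]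
  refine Nat.card_congr (Equiv.ofBijective
    (fun p : (P ⊓ centralizer (A : Set G) : Subgroup G) × (P ⊓ A : Subgroup G) =>
      (⟨p.1 * p.2, mul_mem (mem_inf.1 p.1.2).1 (mem_inf.1 p.2.2).1⟩ : P)) ⟨?_, ?_⟩)
  · rintro ⟨k, s⟩ ⟨k', s'⟩ h
    have h1 : (k : G) * s = k' * s' := congrArg Subtype.val h
    obtain ⟨h2, h3⟩ := q.dec_unique (mem_inf.1 k.2).2 (mem_inf.1 k'.2).2 (mem_inf.1 s.2).2 (mem_inf.1 s'.2).2 h1
    exact Prod.ext (Subtype.ext h2) (Subtype.ext h3)
  · rintro ⟨p, hp⟩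
    obtain ⟨k, hkP, hk, s, hs, h1⟩ := q.dec hp
    exact ⟨(⟨k, mem_inf.2 ⟨hkP, hk⟩⟩, ⟨s, hs⟩), Subtype.ext h1.symm⟩

theorem card_eq (q : Quad A B P) : Nat.card (P ⊓ centralizer (A : Set G) : Subgroup G) =
    Nat.card (P ⊓ centralizer (B : Set G) : Subgroup G) := by
  have h1 := q.card_mul
  have h2 := q.symm.card_mul
  omega

/-- the commutator subgroup of `P` contains `Z` -/
theorem Z_le_comm (L : Loc A (P ⊓ A) Z ρ i) : Z ≤ ⁅P, P⁆ := by
  rw [← L.comm_eq]
  exact commutator_mono inf_le_left inf_le_left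

/-- if `P ∩ C(A)` is abelian then `[P, P] = Z` -/
theorem comm_le_Z (q : Quad A B P) (L : Loc A (P ⊓ A) Z ρ i)
    (hab : ∀ k ∈ P, k ∈ centralizer (A : Set G) → ∀ k' ∈ P, k' ∈ centralizer (A : Set G) → k * k' = k' * k) :
    ⁅P, P⁆ ≤ Z := by
  rw [commutator_le]
  intro p hp p' hp'
  obtain ⟨k, hkP, hk, s, hs, rfl⟩ := q.dec hp
  obtain ⟨k', hkP', hk', s', hs', rfl⟩ := q.dec hp'
  have e1 := comm_of_cent hk (mem_inf.1 hs).2
  have e2 := comm_of_cent hk (mem_inf.1 hs').2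
  have e3 := comm_of_cent hk' (mem_inf.1 hs).2
  have e4 := comm_of_cent hk' (mem_inf.1 hs').2
  have e5 := hab k hkP hk k' hkP' hk'
  have h1 : ⁅k * s, k' * s'⁆ = ⁅s, s'⁆ := by
    have c1 : Commute k s := e1
    have c2 : Commute k s' := e2
    have c3 : Commute k' s := e3
    have c4 : Commute k' s' := e4
    have c5 : Commute k k' := e5
    rw [commutatorElement_def, commutatorElement_def]
    calc k * s * (k' * s') * (k * s)⁻¹ * (k' * s')⁻¹
        = k * (s * k') * s' * (k * s)⁻¹ * (k' * s')⁻¹ := by group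
      _ = k * (k' * s) * s' * (k * s)⁻¹ * (k' * s')⁻¹ := by rw [c3.eq]
      _ = (k * k') * (s * s') * (k * s)⁻¹ * (k' * s')⁻¹ := by group
      _ = (k * k') * (s * s') * (s * k)⁻¹ * (s' * k')⁻¹ := by rw [c1.eq, c4.eq]
      _ = (k * k') * (s * s' * k⁻¹) * s⁻¹ * k'⁻¹ * s'⁻¹ := by group
      _ = (k * k') * (k⁻¹ * (s * s')) * s⁻¹ * k'⁻¹ * s'⁻¹ := by rw [((c1.mul_right c2).inv_left.eq)]
      _ = (k' * k) * k⁻¹ * (s * s' * s⁻¹ * k'⁻¹) * s'⁻¹ := by rw [c5.eq]; group
      _ = (k' * k) * k⁻¹ * (k'⁻¹ * (s * s' * s⁻¹)) * s'⁻¹ := by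
          rw [(((c3.mul_right c4).mul_right c3.inv_right).inv_left.eq)]
      _ = s * s' * s⁻¹ * s'⁻¹ := by group
  rw [h1]
  exact L.comm_mem s hs s' hs'

/-- elements of `S` commuting with `S` are in `Z` -/
theorem mem_Z_of_comm {S : Subgroup G} (L : Loc A S Z ρ i) {s : G} (hs : s ∈ S) (h : ∀ x ∈ S, s * x = x * s) :
    s ∈ Z := by
  by_contra hZ
  obtain ⟨y, hy, y', hy', h1, -, -⟩ := L.two s hs hZ
  apply h1
  rw [commutatorElement_def, h y hy]
  group

/-- The conclusion in the first case. -/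
structure CaseA (A B P Z : Subgroup G) : Prop where
  sqA : ∀ k ∈ P, k ∈ centralizer (A : Set G) → k * k = 1
  sqB : ∀ k ∈ P, k ∈ centralizer (B : Set G) → k * k = 1
  disjA : ∀ k ∈ Z, k ∈ centralizer (A : Set G) → k = 1
  disjB : ∀ k ∈ Z, k ∈ centralizer (B : Set G) → k = 1
  toB : ∀ k ∈ P, k ∈ centralizer (A : Set G) → ∃ z ∈ Z, k * z ∈ centralizer (B : Set G)
  ofB : ∀ k ∈ P, k ∈ centralizer (B : Set G) → ∃ z ∈ Z, ∃ k' ∈ P, k' ∈ centralizer (A : Set G) ∧ k = k' * z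
  comm : ⁅P, P⁆ = Z
  card_le : Nat.card (P ⊓ centralizer (A : Set G) : Subgroup G) ≤ 8
  maxA : ∀ T : Subgroup G, IsPGroup 2 T → T ≤ normalizer (A : Set G) → P ≤ T → T = P

theorem caseA (q : Quad A B P) (L : Loc A (P ⊓ A) Z ρ i)
    (h : ∀ x ∈ P, x ∈ centralizer (B : Set G) → x ∈ Z → x = 1) : CaseA A B P Z := by
  -- `Y ∩ S = 1`
  have hYS : ∀ x ∈ P, x ∈ centralizer (B : Set G) → x ∈ A → x = 1 := by
    intro x hx hxB hxA
    have hxS : x ∈ P ⊓ A := mem_inf.2 ⟨hx, hxA⟩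
    have h1 : x * x = 1 := h _ (mul_mem hx hx) (mul_mem hxB hxB) (L.sq_mem x hxS)
    exact h x hx hxB ((L.mem_Z x hxS).2 h1)
  -- elements of `Y` are `k z`
  have hY : ∀ y ∈ P, y ∈ centralizer (B : Set G) →
      ∃ z ∈ Z, ∃ k ∈ P, k ∈ centralizer (A : Set G) ∧ y = k * z := by
    intro y hy hyB
    obtain ⟨k, hkP, hk, s, hs, h1⟩ := q.dec hy
    refine ⟨s, ?_, k, hkP, hk, h1⟩
    refine mem_Z_of_comm L hs fun x hx => ?_
    have h2 : y * x * y⁻¹ * x⁻¹ = 1 := by
      refine hYS _ ?_ ?_ ?_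
      · exact mul_mem (mul_mem (mul_mem hy (mem_inf.1 hx).1) (inv_mem hy)) (inv_mem (mem_inf.1 hx).1)
      · have e : y * x * y⁻¹ * x⁻¹ = y * (x * y⁻¹ * x⁻¹) := by group
        rw [e]
        exact mul_mem hyB (conj_mem_cent (q.leB (mem_inf.1 hx).1) (inv_mem hyB))
      · exact mul_mem (conj_mem_of_norm (q.leA hy) (mem_inf.1 hx).2) (inv_mem (mem_inf.1 hx).2)
    have h3 : y * x = x * y := mul_inv_eq_iff_eq_mul.mp (mul_inv_eq_one.mp h2)
    have h4 := comm_of_cent hk (mem_inf.1 hx).2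
    rw [h1] at h3
    apply mul_left_cancel (a := k)
    calc k * (s * x) = k * s * x := by group
      _ = x * (k * s) := h3
      _ = (x * k) * s := by group
      _ = (k * x) * s := by rw [h4]
      _ = k * (x * s) := by group
  have hsqB : ∀ y ∈ P, y ∈ centralizer (B : Set G) → y * y = 1 := by
    intro y hy hyB
    obtain ⟨z, hz, k, hkP, hk, h1⟩ := hY y hy hyB
    have hzS := L.Z_le hz
    have h2 : z * z = 1 := (L.mem_Z z hzS).1 hz
    have h3 := comm_of_cent hk (mem_inf.1 hzS).2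
    have h4 : y * y = k * k := by
      calc y * y = k * (z * k) * z := by rw [h1]; group
        _ = k * (k * z) * z := by rw [h3]
        _ = k * k * (z * z) := by group
        _ = k * k := by rw [h2, mul_one]
    refine q.eq_one (mul_mem hy hy) ?_ (mul_mem hyB hyB)
    rw [h4]
    exact mul_mem hk hk
  -- the map `Y → R` is bijective
  have htoB : ∀ k ∈ P, k ∈ centralizer (A : Set G) → ∃ z ∈ Z, k * z ∈ centralizer (B : Set G) := by
    choose fz hfz fk hfkP hfk hfe using hY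
    let f : (P ⊓ centralizer (B : Set G) : Subgroup G) → (P ⊓ centralizer (A : Set G) : Subgroup G) :=
      fun y => ⟨fk y (mem_inf.1 y.2).1 (mem_inf.1 y.2).2, mem_inf.2 ⟨hfkP _ _ _, hfk _ _ _⟩⟩
    have hinj : Function.Injective f := by
      intro y y' hyy
      have h1 := hfe y (mem_inf.1 y.2).1 (mem_inf.1 y.2).2
      have h2 := hfe y' (mem_inf.1 y'.2).1 (mem_inf.1 y'.2).2
      have h3 : fk y (mem_inf.1 y.2).1 (mem_inf.1 y.2).2 = fk y' (mem_inf.1 y'.2).1 (mem_inf.1 y'.2).2 :=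
        congrArg Subtype.val hyy
      apply Subtype.ext
      have h4 : (y : G)⁻¹ * y' = 1 := by
        refine h _ (mul_mem (inv_mem (mem_inf.1 y.2).1) (mem_inf.1 y'.2).1)
          (mul_mem (inv_mem (mem_inf.1 y.2).2) (mem_inf.1 y'.2).2) ?_
        rw [h1, h2, h3]
        have e : (fk y' (mem_inf.1 y'.2).1 (mem_inf.1 y'.2).2 * fz y (mem_inf.1 y.2).1 (mem_inf.1 y.2).2)⁻¹ *
            (fk y' (mem_inf.1 y'.2).1 (mem_inf.1 y'.2).2 * fz y' (mem_inf.1 y'.2).1 (mem_inf.1 y'.2).2) =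
            (fz y (mem_inf.1 y.2).1 (mem_inf.1 y.2).2)⁻¹ * fz y' (mem_inf.1 y'.2).1 (mem_inf.1 y'.2).2 := by
          group
        rw [e]
        exact mul_mem (inv_mem (hfz _ _ _)) (hfz _ _ _)
      exact inv_mul_eq_one.mp h4
    have hbij : Function.Bijective f := by
      rw [Nat.bijective_iff_injective_and_card]
      exact ⟨hinj, q.card_eq.symm⟩
    intro k hk hkA
    obtain ⟨y, hy⟩ := hbij.2 ⟨k, mem_inf.2 ⟨hk, hkA⟩⟩
    refine ⟨fz y (mem_inf.1 y.2).1 (mem_inf.1 y.2).2, hfz _ _ _, ?_⟩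
    have h1 : fk y (mem_inf.1 y.2).1 (mem_inf.1 y.2).2 = k := congrArg Subtype.val hy
    have h2 := hfe y (mem_inf.1 y.2).1 (mem_inf.1 y.2).2
    rw [h1] at h2
    rw [← h2]
    exact (mem_inf.1 y.2).2
  have hsqA : ∀ k ∈ P, k ∈ centralizer (A : Set G) → k * k = 1 := by
    intro k hk hkA
    obtain ⟨z, hz, h1⟩ := htoB k hk hkA
    have hzS := L.Z_le hz
    have h2 : z * z = 1 := (L.mem_Z z hzS).1 hz
    have h3 := comm_of_cent hkA (mem_inf.1 hzS).2
    have h4 := hsqB _ (mul_mem hk (mem_inf.1 hzS).1) h1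
    calc k * k = k * k * (z * z) := by rw [h2, mul_one]
      _ = k * (k * z) * z := by group
      _ = k * (z * k) * z := by rw [h3]
      _ = (k * z) * (k * z) := by group
      _ = 1 := h4
  have habel : ∀ k ∈ P, k ∈ centralizer (A : Set G) → ∀ k' ∈ P, k' ∈ centralizer (A : Set G) →
      k * k' = k' * k := by
    intro k hk hkA k' hk' hkA'
    have h1 := hsqA k hk hkA
    have h2 := hsqA k' hk' hkA'
    have h3 := hsqA (k * k') (mul_mem hk hk') (mul_mem hkA hkA')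
    have h4 : k⁻¹ = k := inv_eq_of_mul_eq_one_right h1
    have h5 : k'⁻¹ = k' := inv_eq_of_mul_eq_one_right h2
    calc k * k' = (k * k')⁻¹ := (inv_eq_of_mul_eq_one_right h3).symm
      _ = k' * k := by rw [_root_.mul_inv_rev, h4, h5]
  have hcomm : ⁅P, P⁆ = Z := le_antisymm (q.comm_le_Z L habel) (Z_le_comm L)
  have hdisjA : ∀ k ∈ Z, k ∈ centralizer (A : Set G) → k = 1 := fun k hk hkA =>
    q.eq_one_of_A (L.S_le (L.Z_le hk)) hkA
  refine ⟨hsqA, hsqB, hdisjA, fun k hk hkB => h k (mem_inf.1 (L.Z_le hk)).1 hkB hk, htoB, ?_, hcomm, ?_, ?_⟩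
  · intro k hk hkB
    exact hY k hk hkB
  · -- the order of `R`
    choose fz hfz hfB using htoB
    let f : (P ⊓ centralizer (A : Set G) : Subgroup G) → Z :=
      fun k => ⟨fz k (mem_inf.1 k.2).1 (mem_inf.1 k.2).2, hfz _ _ _⟩
    rw [← L.card_Z]
    refine Nat.card_le_card_of_injective f ?_
    intro k k' hkk
    have h3 : fz k (mem_inf.1 k.2).1 (mem_inf.1 k.2).2 = fz k' (mem_inf.1 k'.2).1 (mem_inf.1 k'.2).2 :=
      congrArg Subtype.val hkk
    have h1 := hfB k (mem_inf.1 k.2).1 (mem_inf.1 k.2).2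
    have h2 := hfB k' (mem_inf.1 k'.2).1 (mem_inf.1 k'.2).2
    rw [h3] at h1
    apply Subtype.ext
    have h4 : (k : G) * (k' : G)⁻¹ = 1 := by
      refine q.eq_one (mul_mem (mem_inf.1 k.2).1 (inv_mem (mem_inf.1 k'.2).1))
        (mul_mem (mem_inf.1 k.2).2 (inv_mem (mem_inf.1 k'.2).2)) ?_
      have := mul_mem h1 (inv_mem h2)
      have e : (k : G) * fz k' (mem_inf.1 k'.2).1 (mem_inf.1 k'.2).2 *
          ((k' : G) * fz k' (mem_inf.1 k'.2).1 (mem_inf.1 k'.2).2)⁻¹ = (k : G) * (k' : G)⁻¹ := by group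
      rwa [e] at this
    exact mul_inv_eq_one.mp h4
  · -- maximality
    intro T hT hTA hPT
    have hTS : T ⊓ A = P ⊓ A := eq_of_two q.a.sz q.cardA (inf_le_inf_right A hPT) (hT.to_le inf_le_left) inf_le_right
    have hdecT : ∀ p ∈ T, ∃ k ∈ T, k ∈ centralizer (A : Set G) ∧ ∃ s ∈ P ⊓ A, p = k * s := by
      intro p hp
      have := decomp q.a.sz hT hTA (by rw [hTS]; exact q.cardA) hp
      rwa [hTS] at this
    -- if `y ∈ Y` then the centraliser of `y` in `T` is in `P`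
    have key : ∀ r ∈ P, r ∈ centralizer (A : Set G) → r ≠ 1 → ∀ z ∈ Z, r * z ∈ centralizer (B : Set G) →
        ∀ x ∈ T, x * (r * z) = (r * z) * x → x ∈ P := by
      intro r hr hrA hr1 z hz hrz x hx hxc
      have hz' := L.Z_le hz
      have hyP : r * z ∈ P := mul_mem hr (mem_inf.1 hz').1
      have hy1 : r * z ≠ 1 := by
        intro h1
        apply hr1
        have h2 : r = z⁻¹ := eq_inv_of_mul_eq_one_left h1
        refine q.eq_one_of_A ?_ hrA
        rw [h2]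
        exact inv_mem (mem_inf.1 hz').2
      have hy2 : orderOf (r * z) = 2 := orderOf_eq_two (hsqB _ hyP hrz) hy1
      let Q : Subgroup G := T ⊓ centralizer ({r * z} : Set G)
      have hQ : Q = P := by
        refine q.max Q (hT.to_le inf_le_left) (le_inf (inf_le_left.trans hTA) ?_) ?_
        · intro g hg
          have := mem_centralizer_singleton_iff.1 (mem_inf.1 hg).2
          exact q.b.mem_norm_of_comm hrz hy2 this
        · intro p hp
          refine mem_inf.2 ⟨hPT hp, ?_⟩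
          rw [mem_centralizer_singleton_iff]
          obtain ⟨k, hkP, hk, s, hs, rfl⟩ := q.dec hp
          have e1 : k * r = r * k := habel k hkP hk r hr hrA
          have e2 : k * z = z * k := comm_of_cent hk (mem_inf.1 hz').2
          have e3 : s * r = r * s := (comm_of_cent hrA (mem_inf.1 hs).2).symm
          have e4 : s * z = z * s := (L.central z hz s hs).symm
          have c1 : Commute k r := e1
          have c2 : Commute k z := e2
          have c3 : Commute s r := e3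
          have c4 : Commute s z := e4
          have := ((c1.mul_right c2).mul_left (c3.mul_right c4)).eq
          exact this
      have hxQ : x ∈ Q := by
        refine mem_inf.2 ⟨hx, ?_⟩
        rw [mem_centralizer_singleton_iff]
        exact hxc
      rw [hQ] at hxQ
      exact hxQ
    obtain ⟨r, hr, hrA, hr2⟩ := q.neA
    have hr1 : r ≠ 1 := SC.ne_one hr2
    -- a central involution of `T ∩ C(A)`
    have : Fact (Nat.Prime 2) := ⟨Nat.prime_two⟩
    let RT : Subgroup G := T ⊓ centralizer (A : Set G)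
    have hRT : IsPGroup 2 RT := hT.to_le inf_le_left
    have hnt : Nontrivial RT := ⟨⟨⟨r, mem_inf.2 ⟨hPT hr, hrA⟩⟩, 1, fun h => hr1 (congrArg Subtype.val h)⟩⟩
    have hct := hRT.center_nontrivial
    obtain ⟨⟨c0, hc0⟩, hc01⟩ := exists_ne (1 : center RT)
    have hc0' : (c0 : G) ≠ 1 := fun h => hc01 (Subtype.ext (Subtype.ext h))
    obtain ⟨m, hm⟩ := exists_pow_orderOf_two (exists_two_pow_of_mem hRT c0.2) hc0'
    set c : G := (c0 : G) ^ m with hc
    have hcRT : c ∈ RT := pow_mem c0.2 m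
    have hcc : ∀ x ∈ RT, c * x = x * c := by
      intro x hx
      have h1 := mem_center_iff.1 (pow_mem hc0 m) ⟨x, hx⟩
      exact (congrArg Subtype.val h1).symm
    -- `c ∈ P`
    obtain ⟨z, hz, hrz⟩ := htoB r hr hrA
    have hcP : c ∈ P := by
      refine key r hr hrA hr1 z hz hrz c (mem_inf.1 hcRT).1 ?_
      have e1 : c * r = r * c := hcc r (mem_inf.2 ⟨hPT hr, hrA⟩)
      have e2 : c * z = z * c := comm_of_cent (mem_inf.1 hcRT).2 (mem_inf.1 (L.Z_le hz)).2
      calc c * (r * z) = (c * r) * z := by group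
        _ = r * (c * z) := by rw [e1]; group
        _ = (r * z) * c := by rw [e2]; group
    obtain ⟨z', hz', hcz⟩ := htoB c hcP (mem_inf.1 hcRT).2
    apply le_antisymm _ hPT
    intro x hx
    refine key c hcP (mem_inf.1 hcRT).2 (SC.ne_one hm) z' hz' hcz x hx ?_
    obtain ⟨k, hkT, hk, s, hs, rfl⟩ := hdecT x hx
    have e1 : c * k = k * c := hcc k (mem_inf.2 ⟨hkT, hk⟩)
    have e2 : k * z' = z' * k := comm_of_cent hk (mem_inf.1 (L.Z_le hz')).2
    have e3 : c * s = s * c := comm_of_cent (mem_inf.1 hcRT).2 (mem_inf.1 hs).2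
    have e4 : s * z' = z' * s := (L.central z' hz' s hs).symm
    have c1 : Commute k c := e1.symm
    have c2 : Commute k z' := e2
    have c3 : Commute s c := e3.symm
    have c4 : Commute s z' := e4
    exact ((c1.mul_right c2).mul_left (c3.mul_right c4)).eq

/-- The conclusion in the second case. -/
structure CaseB (A B P Z : Subgroup G) (ρ : G) : Prop where
  eqA : P ⊓ centralizer (A : Set G) = P ⊓ B
  eqB : P ⊓ centralizer (B : Set G) = P ⊓ A
  Z_le : Z ≤ centralizer (B : Set G)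
  rho : ρ ∈ normalizer (B : Set G)
  maxA : ∀ T : Subgroup G, IsPGroup 2 T → T ≤ normalizer (A : Set G) → P ≤ T → T = P

/-- first part of the second case: `Z ≤ C(B)` and the maximality -/
theorem caseB_first (q : Quad A B P) (L : Loc A (P ⊓ A) Z ρ i) {w : G} (_hwP : w ∈ P)
    (hwB : w ∈ centralizer (B : Set G)) (hwZ : w ∈ Z) (hw1 : w ≠ 1) :
    (∀ T : Subgroup G, IsPGroup 2 T → T ≤ normalizer (A : Set G) → P ≤ T → T = P) ∧
      Z ≤ centralizer (B : Set G) ∧ ρ ∈ normalizer (B : Set G) ∧ (∀ p ∈ P, ρ * p * ρ⁻¹ ∈ P) := by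
  have hwS := L.Z_le hwZ
  have hw2 : orderOf w = 2 := orderOf_eq_two ((L.mem_Z w hwS).1 hwZ) hw1
  have hρP : ∀ p ∈ P, ρ * p * ρ⁻¹ ∈ P := by
    intro p hp
    obtain ⟨k, hkP, hk, s, hs, rfl⟩ := q.dec hp
    have e1 : ρ * k = k * ρ := (comm_of_cent hk L.rho_mem).symm
    have e2 : ρ * (k * s) * ρ⁻¹ = k * (ρ * s * ρ⁻¹) := by
      calc ρ * (k * s) * ρ⁻¹ = (ρ * k) * s * ρ⁻¹ := by group
        _ = k * (ρ * s * ρ⁻¹) := by rw [e1]; group
    rw [e2]
    exact mul_mem hkP (mem_inf.1 (conj_mem_of_norm L.rho_norm hs)).1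
  have hmax : ∀ T : Subgroup G, IsPGroup 2 T → T ≤ normalizer (A : Set G) → P ≤ T → T = P := by
    intro T hT hTA hPT
    have hTS : T ⊓ A = P ⊓ A := eq_of_two q.a.sz q.cardA (inf_le_inf_right A hPT) (hT.to_le inf_le_left) inf_le_right
    refine q.max T hT (le_inf hTA ?_) hPT
    intro x hx
    obtain ⟨k, hkT, hk, s, hs, rfl⟩ := decomp q.a.sz hT hTA (by rw [hTS]; exact q.cardA) hx
    rw [hTS] at hs
    refine q.b.mem_norm_of_comm hwB hw2 ?_
    have e1 : k * w = w * k := comm_of_cent hk (mem_inf.1 hwS).2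
    have e2 : s * w = w * s := (L.central w hwZ s hs).symm
    calc k * s * w = k * (s * w) := by group
      _ = (k * w) * s := by rw [e2]; group
      _ = w * (k * s) := by rw [e1]; group
  by_cases hZB : Z ≤ centralizer (B : Set G)
  · refine ⟨hmax, hZB, ?_, hρP⟩
    refine q.b.ti ρ w hwB hw2 (hZB ?_)
    -- `ρ w ρ⁻¹ ∈ Z`
    have h1 : ρ * w * ρ⁻¹ ∈ P ⊓ A := conj_mem_of_norm L.rho_norm hwS
    rw [L.mem_Z _ h1]
    have := (L.mem_Z w hwS).1 hwZ
    calc ρ * w * ρ⁻¹ * (ρ * w * ρ⁻¹) = ρ * (w * w) * ρ⁻¹ := by group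
      _ = 1 := by rw [this]; group
  · exfalso
    -- `Z ∩ C(B) = {1, w}`
    have hW0 : ∀ w' ∈ Z, w' ∈ centralizer (B : Set G) → w' = 1 ∨ w' = w := by
      intro w' hw'Z hw'B
      by_contra hcon
      push Not at hcon
      obtain ⟨n, hn⟩ := L.trans w hwZ w' hw'Z hw1 hcon.1
      have h1 : ρ ^ n ∈ normalizer (B : Set G) := q.b.ti _ w hwB hw2 (by rw [hn]; exact hw'B)
      have h2 : ρ ∈ normalizer (B : Set G) := by
        have h7 : Nat.Coprime 7 n := by
          rw [Nat.Prime.coprime_iff_not_dvd (by norm_num)]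
          rintro ⟨j, rfl⟩
          rw [pow_mul, L.rho_pow, one_pow] at hn
          apply hcon.2
          rw [← hn]; group
        have h8 : ρ ∈ zpowers (ρ ^ n) := by
          have h9 : orderOf ρ = 7 := by
            have : Fact (Nat.Prime 7) := ⟨by norm_num⟩
            exact orderOf_eq_prime L.rho_pow L.rho_ne
          have h10 : (orderOf ρ).Coprime n := by rw [h9]; exact h7
          obtain ⟨m, hm⟩ := exists_pow_eq_self_of_coprime h10.symm
          have h12 : (ρ ^ n) ^ m ∈ zpowers (ρ ^ n) := pow_mem (mem_zpowers _) m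
          rwa [hm] at h12
        have h11 : zpowers (ρ ^ n) ≤ normalizer (B : Set G) := by rw [zpowers_le]; exact h1
        exact h11 h8
      apply hZB
      intro z hz
      by_cases hz1 : z = 1
      · rw [hz1]; exact one_mem _
      · obtain ⟨m, hm⟩ := L.trans w hwZ z hz hw1 hz1
        rw [← hm]
        exact conj_mem_cent (pow_mem h2 m) hwB
    -- elements of `Y` are `k z`
    have hY : ∀ y ∈ P, y ∈ centralizer (B : Set G) →
        ∃ z ∈ Z, ∃ k ∈ P, k ∈ centralizer (A : Set G) ∧ y = k * z := by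
      intro y hy hyB
      obtain ⟨k, hkP, hk, s, hs, h1⟩ := q.dec hy
      refine ⟨s, ?_, k, hkP, hk, h1⟩
      by_contra hsZ
      have hcm : ∀ x ∈ P ⊓ A, ⁅s, x⁆ = 1 ∨ ⁅s, x⁆ = w := by
        intro x hx
        refine hW0 _ (L.comm_mem s hs x hx) ?_
        have e1 : k * (s * x * s⁻¹ * x⁻¹) = (s * x * s⁻¹ * x⁻¹) * k :=
          comm_of_cent hk (mul_mem (mul_mem (mul_mem (mem_inf.1 hs).2 (mem_inf.1 hx).2) (inv_mem (mem_inf.1 hs).2))
            (inv_mem (mem_inf.1 hx).2))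
        have e3 : k⁻¹ * x = x * k⁻¹ := by
          have := comm_of_cent (inv_mem hk) (mem_inf.1 hx).2
          exact this
        have e2 : y * x * y⁻¹ * x⁻¹ = ⁅s, x⁆ := by
          rw [commutatorElement_def, h1]
          calc k * s * x * (k * s)⁻¹ * x⁻¹ = k * (s * x * s⁻¹) * (k⁻¹ * x⁻¹) := by group
            _ = k * (s * x * s⁻¹) * (x⁻¹ * k⁻¹) := by
                rw [comm_of_cent (inv_mem hk) (inv_mem (mem_inf.1 hx).2)]
            _ = k * (s * x * s⁻¹ * x⁻¹) * k⁻¹ := by group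
            _ = (s * x * s⁻¹ * x⁻¹) * k * k⁻¹ := by rw [e1]
            _ = s * x * s⁻¹ * x⁻¹ := by group
        rw [← e2]
        have e : y * x * y⁻¹ * x⁻¹ = y * (x * y⁻¹ * x⁻¹) := by group
        rw [e]
        exact mul_mem hyB (conj_mem_cent (q.leB (mem_inf.1 hx).1) (inv_mem hyB))
      obtain ⟨a, ha, b, hb, h2, h3, h4⟩ := L.two s hs hsZ
      rcases hcm a ha with h5 | h5
      · exact h2 h5
      · rcases hcm b hb with h6 | h6
        · exact h3 h6
        · exact h4 (by rw [h5, h6])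
    have hsqB : ∀ y ∈ P, y ∈ centralizer (B : Set G) → y * y = 1 := by
      intro y hy hyB
      obtain ⟨z, hz, k, hkP, hk, h1⟩ := hY y hy hyB
      have hzS := L.Z_le hz
      have h2 : z * z = 1 := (L.mem_Z z hzS).1 hz
      have h3 := comm_of_cent hk (mem_inf.1 hzS).2
      have h4 : y * y = k * k := by
        calc y * y = k * (z * k) * z := by rw [h1]; group
          _ = k * (k * z) * z := by rw [h3]
          _ = k * k * (z * z) := by group
          _ = k * k := by rw [h2, mul_one]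
      refine q.eq_one (mul_mem hy hy) ?_ (mul_mem hyB hyB)
      rw [h4]
      exact mul_mem hk hk
    have habel : ∀ k ∈ P, k ∈ centralizer (B : Set G) → ∀ k' ∈ P, k' ∈ centralizer (B : Set G) →
        k * k' = k' * k := by
      intro k hk hkA k' hk' hkA'
      have h1 := hsqB k hk hkA
      have h2 := hsqB k' hk' hkA'
      have h3 := hsqB (k * k') (mul_mem hk hk') (mul_mem hkA hkA')
      have h4 : k⁻¹ = k := inv_eq_of_mul_eq_one_right h1
      have h5 : k'⁻¹ = k' := inv_eq_of_mul_eq_one_right h2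
      calc k * k' = (k * k')⁻¹ := (inv_eq_of_mul_eq_one_right h3).symm
        _ = k' * k := by rw [_root_.mul_inv_rev, h4, h5]
    obtain ⟨Z', ρ', i', L'⟩ := exists_loc q.b.sz (inf_le_right : P ⊓ B ≤ B) q.cardB
    have h1 : w ∈ Z' := (q.symm.comm_le_Z L' habel) (Z_le_comm L hwZ)
    exact hw1 (eq_one_of_mem q.b.sz (mem_inf.1 (L'.Z_le h1)).2 hwB)

/-- half of the second case -/
theorem caseB_le (q : Quad A B P) (L : Loc A (P ⊓ A) Z ρ i) (hρP : ∀ p ∈ P, ρ * p * ρ⁻¹ ∈ P)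
    (hρB : ρ ∈ normalizer (B : Set G)) : P ⊓ centralizer (B : Set G) ≤ P ⊓ A := by
  -- the map `y ↦ y⁻¹ ρ y ρ⁻¹`
  have hfm : ∀ y ∈ P, y ∈ centralizer (B : Set G) → y⁻¹ * (ρ * y * ρ⁻¹) ∈ (P ⊓ centralizer (B : Set G)) ⊓ (P ⊓ A) := by
    intro y hy hyB
    have h1 : y⁻¹ * (ρ * y * ρ⁻¹) ∈ P := mul_mem (inv_mem hy) (hρP y hy)
    refine mem_inf.2 ⟨mem_inf.2 ⟨h1, mul_mem (inv_mem hyB) (conj_mem_cent hρB hyB)⟩, mem_inf.2 ⟨h1, ?_⟩⟩
    obtain ⟨k, hkP, hk, s, hs, rfl⟩ := q.dec hy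
    have e1 : ρ * k = k * ρ := (comm_of_cent hk L.rho_mem).symm
    have e2 : (k * s)⁻¹ * (ρ * (k * s) * ρ⁻¹) = s⁻¹ * (ρ * s * ρ⁻¹) := by
      calc (k * s)⁻¹ * (ρ * (k * s) * ρ⁻¹) = s⁻¹ * k⁻¹ * (ρ * k) * s * ρ⁻¹ := by group
        _ = s⁻¹ * (ρ * s * ρ⁻¹) := by rw [e1]; group
    rw [e2]
    exact mul_mem (inv_mem (mem_inf.1 hs).2) (mul_mem (mul_mem L.rho_mem (mem_inf.1 hs).2) (inv_mem L.rho_mem))
  let f : (P ⊓ centralizer (B : Set G) : Subgroup G) → ((P ⊓ centralizer (B : Set G)) ⊓ (P ⊓ A) : Subgroup G) :=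
    fun y => ⟨(y : G)⁻¹ * (ρ * y * ρ⁻¹), hfm y (mem_inf.1 y.2).1 (mem_inf.1 y.2).2⟩
  have hinj : Function.Injective f := by
    intro y y' h
    have h1 : (y : G)⁻¹ * (ρ * y * ρ⁻¹) = (y' : G)⁻¹ * (ρ * y' * ρ⁻¹) := congrArg Subtype.val h
    set c : G := (y' : G) * (y : G)⁻¹ with hc
    have hcP : c ∈ P := mul_mem (mem_inf.1 y'.2).1 (inv_mem (mem_inf.1 y.2).1)
    have hcB : c ∈ centralizer (B : Set G) := mul_mem (mem_inf.1 y'.2).2 (inv_mem (mem_inf.1 y.2).2)
    have h2 : c = ρ * c * ρ⁻¹ := by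
      calc c = (y' : G) * ((y : G)⁻¹ * (ρ * y * ρ⁻¹)) * (ρ * y * ρ⁻¹)⁻¹ := by rw [hc]; group
        _ = (y' : G) * ((y' : G)⁻¹ * (ρ * y' * ρ⁻¹)) * (ρ * y * ρ⁻¹)⁻¹ := by rw [h1]
        _ = ρ * c * ρ⁻¹ := by rw [hc]; group
    have h3 : ρ * c = c * ρ := (mul_inv_eq_iff_eq_mul.mp h2.symm)
    obtain ⟨k, hkP, hk, s, hs, h4⟩ := q.dec hcP
    have e1 : ρ * k = k * ρ := (comm_of_cent hk L.rho_mem).symm
    have h5 : ρ * s = s * ρ := by
      rw [h4] at h3
      apply mul_left_cancel (a := k)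
      calc k * (ρ * s) = (k * ρ) * s := by group
        _ = ρ * (k * s) := by rw [← e1]; group
        _ = k * s * ρ := h3
        _ = k * (s * ρ) := by group
    have h6 : s = 1 := L.fpf s hs h5
    have h7 : c = 1 := q.eq_one hcP (by rw [h4, h6, mul_one]; exact hk) hcB
    apply Subtype.ext
    exact (mul_inv_eq_one.mp h7).symm
  have h1 := Nat.card_le_card_of_injective f hinj
  have h2 : (P ⊓ centralizer (B : Set G)) ⊓ (P ⊓ A) = P ⊓ centralizer (B : Set G) :=
    Subgroup.eq_of_le_of_card_ge inf_le_left h1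
  rw [← h2]
  exact inf_le_right

/-- the dichotomy -/
theorem cases (q : Quad A B P) (L : Loc A (P ⊓ A) Z ρ i) : CaseA A B P Z ∨ CaseB A B P Z ρ := by
  by_cases h : ∀ x ∈ P, x ∈ centralizer (B : Set G) → x ∈ Z → x = 1
  · exact Or.inl (q.caseA L h)
  · right
    push Not at h
    obtain ⟨w, hwP, hwB, hwZ, hw1⟩ := h
    obtain ⟨hmax, hZB, hρB, hρP⟩ := q.caseB_first L hwP hwB hwZ hw1
    obtain ⟨Z', ρ', i', L'⟩ := exists_loc q.b.sz (inf_le_right : P ⊓ B ≤ B) q.cardB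
    -- the symmetric statement
    have hsym : ∃ w' ∈ P, w' ∈ centralizer (A : Set G) ∧ w' ∈ Z' ∧ w' ≠ 1 := by
      by_contra hcon
      push Not at hcon
      have h1 := q.symm.caseA L' hcon
      have h2 : w ∈ Z' := by
        rw [← h1.comm]
        exact Z_le_comm L hwZ
      exact hw1 (eq_one_of_mem q.b.sz (mem_inf.1 (L'.Z_le h2)).2 hwB)
    obtain ⟨w', hwP', hwA', hwZ', hw1'⟩ := hsym
    obtain ⟨-, hZA', hρA', hρP'⟩ := q.symm.caseB_first L' hwP' hwA' hwZ' hw1'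
    have hle1 := q.caseB_le L hρP hρB
    have hle2 := q.symm.caseB_le L' hρP' hρA'
    have hdis : ∀ x ∈ P, x ∈ A → x ∈ B → x = 1 := by
      intro x hx hxA hxB
      have h1 : x * x ∈ Z := L.sq_mem x (mem_inf.2 ⟨hx, hxA⟩)
      have h2 : x * x = 1 := eq_one_of_mem q.b.sz (mul_mem hxB hxB) (hZB h1)
      have h3 : x ∈ Z := (L.mem_Z x (mem_inf.2 ⟨hx, hxA⟩)).2 h2
      exact eq_one_of_mem q.b.sz hxB (hZB h3)
    refine ⟨?_, ?_, hZB, hρB, hmax⟩
    · apply le_antisymm hle2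
      intro s hs
      obtain ⟨k, hkP, hk, s', hs', h1⟩ := q.dec (mem_inf.1 hs).1
      have hkB : k ∈ P ⊓ B := hle2 (mem_inf.2 ⟨hkP, hk⟩)
      have h2 : s' = 1 := by
        refine hdis s' (mem_inf.1 hs').1 (mem_inf.1 hs').2 ?_
        have : s' = k⁻¹ * s := by rw [h1]; group
        rw [this]
        exact mul_mem (inv_mem (mem_inf.1 hkB).2) (mem_inf.1 hs).2
      rw [h1, h2, mul_one]
      exact mem_inf.2 ⟨hkP, hk⟩
    · apply le_antisymm hle1
      intro s hs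
      obtain ⟨k, hkP, hk, s', hs', h1⟩ := q.symm.dec (mem_inf.1 hs).1
      have hkA : k ∈ P ⊓ A := hle1 (mem_inf.2 ⟨hkP, hk⟩)
      have h2 : s' = 1 := by
        refine hdis s' (mem_inf.1 hs').1 ?_ (mem_inf.1 hs').2
        have : s' = k⁻¹ * s := by rw [h1]; group
        rw [this]
        exact mul_mem (inv_mem (mem_inf.1 hkA).2) (mem_inf.1 hs).2
      rw [h1, h2, mul_one]
      exact mem_inf.2 ⟨hkP, hk⟩

end Quad

end Cfsg.Agent.RuRed
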