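import Mathlib
import Cfsg.Agent.S0215
import Cfsg.Agent.RuRed.PairCases

/-!
# Pairs of standard `Sz(8)`: the second case is impossible

If `P ∩ C(B) = P ∩ A` and `P ∩ C(A) = P ∩ B` then, with `ρ ∈ A` of order 7 normalising `P ∩ A` and `i ∈ A` an
involution inverting `ρ`, `P ∩ B` is a Sylow 2-subgroup of `C_G(ρ)`, the involution `i` is isolated in
`(P ∩ B) × ⟨i⟩`, and Glauberman's Z*-theorem gives a contradiction.
-/

set_option autoImplicit false
set_option linter.unusedSectionVars false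

open scoped commutatorElement Pointwise

namespace Cfsg.Agent.RuRed

open Subgroup

variable {G : Type*} [Group G]

/-- A conjugation closed family of pairwise 'independent' standard subgroups. -/
structure Fam (C : Set (Subgroup G)) : Prop where
  conj : ∀ A ∈ C, ∀ x : G, A.map (MulAut.conj x).toMonoidHom ∈ C
  pr : ∀ A ∈ C, ∀ B ∈ C, A ≠ B → Pr A B

theorem mem_map_conj {A : Subgroup G} {x y : G} :
    y ∈ A.map (MulAut.conj x).toMonoidHom ↔ x⁻¹ * y * x ∈ A := by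
  constructor
  · rintro ⟨a, ha, rfl⟩
    have : x⁻¹ * (MulAut.conj x).toMonoidHom a * x = a := by
      show x⁻¹ * (x * a * x⁻¹) * x = a
      group
    rw [this]; exact ha
  · intro h
    refine ⟨x⁻¹ * y * x, h, ?_⟩
    show x * (x⁻¹ * y * x) * x⁻¹ = y
    group

theorem mem_cent_map_conj {A : Subgroup G} {x y : G} :
    y ∈ centralizer (A.map (MulAut.conj x).toMonoidHom : Set G) ↔ x⁻¹ * y * x ∈ centralizer (A : Set G) := by
  rw [mem_cent_iff, mem_cent_iff]
  constructor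
  · intro h a ha
    have h1 := h (x * a * x⁻¹) (mem_map_conj.2 (by
      have : x⁻¹ * (x * a * x⁻¹) * x = a := by group
      rw [this]; exact ha))
    calc x⁻¹ * y * x * a = x⁻¹ * (y * (x * a * x⁻¹)) * x := by group
      _ = x⁻¹ * ((x * a * x⁻¹) * y) * x := by rw [h1]
      _ = a * (x⁻¹ * y * x) := by group
  · intro h a ha
    have h1 := h _ (mem_map_conj.1 ha)
    calc y * a = x * ((x⁻¹ * y * x) * (x⁻¹ * a * x)) * x⁻¹ := by group
      _ = x * ((x⁻¹ * a * x) * (x⁻¹ * y * x)) * x⁻¹ := by rw [h1]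
      _ = a * y := by group

section finite

variable [Finite G]

/-- a 2-subgroup `P` of `X` containing its 2-elements of the normaliser in `X` is maximal -/
theorem max_of_normalizer {X P : Subgroup G} (hn : ∀ n ∈ X, (∃ k : ℕ, n ^ 2 ^ k = 1) →
    (∀ x ∈ P, n * x * n⁻¹ ∈ P) → n ∈ P) : ∀ T : Subgroup G, IsPGroup 2 T → T ≤ X → P ≤ T → T = P := by
  intro T hT hTX hPT
  have : Fact (Nat.Prime 2) := ⟨Nat.prime_two⟩
  by_contra hne
  have hnil : Group.IsNilpotent ↥T := hT.isNilpotent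
  have h1 : P.subgroupOf T < ⊤ := by
    rw [lt_top_iff_ne_top]
    intro h
    exact hne (le_antisymm (subgroupOf_eq_top.mp h) hPT)
  have h2 := Group.normalizerCondition_of_isNilpotent (G := ↥T) _ h1
  obtain ⟨n, hn1, hn2⟩ := SetLike.exists_of_lt h2
  apply hn2
  rw [mem_subgroupOf]
  refine hn n (hTX n.2) (exists_two_pow_of_mem hT n.2) ?_
  intro x hx
  have h3 := (mem_normalizer_iff.1 hn1 ⟨x, hPT hx⟩).1 (mem_subgroupOf.2 hx)
  exact mem_subgroupOf.1 h3

theorem mem_sup_of_conj {N S : Subgroup G} (h : ∀ s ∈ S, ∀ n ∈ N, s * n * s⁻¹ ∈ N) {x : G}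
    (hx : x ∈ N ⊔ S) : ∃ n ∈ N, ∃ s ∈ S, x = n * s := by
  let H : Subgroup G :=
    { carrier := {x | ∃ n ∈ N, ∃ s ∈ S, x = n * s}
      mul_mem' := by
        rintro _ _ ⟨n, hn, s, hs, rfl⟩ ⟨m, hm, t, ht, rfl⟩
        exact ⟨n * (s * m * s⁻¹), mul_mem hn (h s hs m hm), s * t, mul_mem hs ht, by group⟩
      one_mem' := ⟨1, one_mem _, 1, one_mem _, by group⟩
      inv_mem' := by
        rintro _ ⟨n, hn, s, hs, rfl⟩
        exact ⟨s⁻¹ * n⁻¹ * s⁻¹⁻¹, h _ (inv_mem hs) _ (inv_mem hn), s⁻¹, inv_mem hs, by group⟩ }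
  have h1 : N ⊔ S ≤ H := sup_le (fun n hn => ⟨n, hn, 1, one_mem _, by group⟩)
    (fun s hs => ⟨1, one_mem _, s, hs, by group⟩)
  exact h1 hx

namespace Quad

variable {A B P : Subgroup G} {Z Z' : Subgroup G} {ρ i ρ' i' : G}

/-- everything we need about the second case, for both sides -/
structure BData (A B P Z Z' : Subgroup G) (ρ i ρ' i' : G) : Prop where
  q : Quad A B P
  L : Loc A (P ⊓ A) Z ρ i
  L' : Loc B (P ⊓ B) Z' ρ' i'
  cb : CaseB A B P Z ρ
  cb' : CaseB B A P Z' ρ'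

theorem BData.symm (h : BData A B P Z Z' ρ i ρ' i') : BData B A P Z' Z ρ' i' ρ i where
  q := h.q.symm
  L := h.L'
  L' := h.L
  cb := h.cb'
  cb' := h.cb

/-- the two sides of the dichotomy are the same -/
theorem caseB_symm (q : Quad A B P) (L' : Loc B (P ⊓ B) Z' ρ' i') (cb : CaseB A B P Z ρ) :
    CaseB B A P Z' ρ' := by
  rcases q.symm.cases L' with h | h
  · exfalso
    -- then `P ∩ C(A) = P ∩ B` is elementary abelian
    obtain ⟨x, hx, hxZ⟩ : ∃ x ∈ P ⊓ B, x ∉ Z' := by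
      by_contra hcon
      push Not at hcon
      have h1 : P ⊓ B ≤ Z' := hcon
      have h2 := Nat.card_le_card_of_injective _ (Subgroup.inclusion_injective h1)
      rw [L'.card_S, L'.card_Z] at h2
      omega
    apply hxZ
    rw [L'.mem_Z x hx]
    rw [← cb.eqA] at hx
    exact h.sqB x (mem_inf.1 hx).1 (mem_inf.1 hx).2
  · exact h

variable (D : BData A B P Z Z' ρ i ρ' i')
include D

theorem BData.rho_mem : ρ ∈ centralizer (B : Set G) := by
  refine D.L'.aut_odd ρ D.cb.rho ?_ ?_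
  · have : Fact (Nat.Prime 7) := ⟨by norm_num⟩
    rw [orderOf_eq_prime D.L.rho_pow D.L.rho_ne]
    decide
  · intro x hx
    rw [← D.cb.eqA] at hx
    exact (comm_of_cent (mem_inf.1 hx).2 D.L.rho_mem).symm

theorem BData.exists_Z : ∃ z ∈ Z, z ≠ 1 := by
  by_contra hcon
  push Not at hcon
  have h1 : Z = ⊥ := by
    rw [eq_bot_iff]
    intro z hz
    exact mem_bot.2 (hcon z hz)
  have := D.L.card_Z
  rw [h1, card_bot] at this
  omega

theorem BData.orderOf_Z {z : G} (hz : z ∈ Z) (h1 : z ≠ 1) : orderOf z = 2 :=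
  orderOf_eq_two ((D.L.mem_Z z (D.L.Z_le hz)).1 hz) h1

/-- `C(A) ≤ N(B)` -/
theorem BData.cent_le : centralizer (A : Set G) ≤ normalizer (B : Set G) := by
  obtain ⟨z, hz, hz1⟩ := D.exists_Z
  intro k hk
  refine D.q.b.mem_norm_of_comm (D.cb.Z_le hz) (D.orderOf_Z hz hz1) ?_
  exact comm_of_cent hk (mem_inf.1 (D.L.Z_le hz)).2

/-- `C(A)` normalises `P ∩ B` -/
theorem BData.conj_mem {k s : G} (hk : k ∈ centralizer (A : Set G)) (hs : s ∈ P ⊓ B) : k * s * k⁻¹ ∈ P ⊓ B := by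
  have hsA : s ∈ centralizer (A : Set G) := by
    have := hs
    rw [← D.cb.eqA] at this
    exact (mem_inf.1 this).2
  have h1 : k * s * k⁻¹ ∈ B := conj_mem_of_norm (D.cent_le hk) (mem_inf.1 hs).2
  have h2 : k * s * k⁻¹ ∈ centralizer (A : Set G) := mul_mem (mul_mem hk hsA) (inv_mem hk)
  refine mem_of_two D.q.b.sz inf_le_right D.q.cardB h1 ?_ ?_
  · obtain ⟨n, hn⟩ := exists_two_pow_of_mem D.q.two (mem_inf.1 hs).1
    refine ⟨n, ?_⟩
    rw [conj_pow, hn]; group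
  · by_contra hcon
    apply D.q.nc
    refine D.L'.max (centralizer (A : Set G)) ?_ D.symm.rho_mem _ h1 h2 hcon
    rw [← D.cb.eqA]
    exact inf_le_right

/-- 2-elements of `C(A)` are in `P ∩ B` -/
theorem BData.two_mem {k : G} (hk : k ∈ centralizer (A : Set G)) (h2 : ∃ n : ℕ, k ^ 2 ^ n = 1) : k ∈ P ⊓ B := by
  have hSB : P ⊓ B ≤ centralizer (A : Set G) := by
    rw [← D.cb.eqA]; exact inf_le_right
  have h1 : k ∈ normalizer ((P ⊓ B : Subgroup G) : Set G) := mem_norm_of_conj_le fun x hx => D.conj_mem hk hx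
  have h3 : IsPGroup 2 (zpowers k ⊔ (P ⊓ B) : Subgroup G) :=
    IsPGroup.to_sup_of_normal_right' (isPGroup_zpowers h2) (D.q.two.to_le inf_le_left) (by rw [zpowers_le]; exact h1)
  set Q := zpowers k ⊔ (P ⊓ B) with hQ
  have hQA : Q ≤ centralizer (A : Set G) := sup_le (by rw [zpowers_le]; exact hk) hSB
  -- `Q (P ∩ A)` is a 2-group containing `P`
  have h4 : Q ≤ normalizer ((P ⊓ A : Subgroup G) : Set G) := by
    intro x hx
    refine mem_norm_of_conj_le fun s hs => ?_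
    rw [comm_of_cent (hQA hx) (mem_inf.1 hs).2]
    have : s * x * x⁻¹ = s := by group
    rw [this]; exact hs
  have h5 : IsPGroup 2 (Q ⊔ (P ⊓ A) : Subgroup G) :=
    IsPGroup.to_sup_of_normal_right' h3 (D.q.two.to_le inf_le_left) h4
  have h6 : P ≤ Q ⊔ (P ⊓ A) := by
    intro p hp
    obtain ⟨r, hrP, hr, s, hs, rfl⟩ := D.q.dec hp
    have h7 : r ∈ P ⊓ B := by
      rw [← D.cb.eqA]; exact mem_inf.2 ⟨hrP, hr⟩
    exact mul_mem (mem_sup_left (mem_sup_right h7)) (mem_sup_right hs)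
  have h7 := D.cb.maxA _ h5 (sup_le (hQA.trans cent_le_norm) (inf_le_right.trans self_le_norm)) h6
  have h8 : k ∈ P := by
    rw [← h7]
    exact mem_sup_left (mem_sup_left (mem_zpowers k))
  rw [← D.cb.eqA]
  exact mem_inf.2 ⟨h8, hk⟩

/-- `N(A)` normalises `P ∩ B` -/
theorem BData.norm_conj {m s : G} (hm : m ∈ normalizer (A : Set G)) (hs : s ∈ P ⊓ B) : m * s * m⁻¹ ∈ P ⊓ B := by
  have hsA : s ∈ centralizer (A : Set G) := by
    have := hs
    rw [← D.cb.eqA] at this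
    exact (mem_inf.1 this).2
  refine D.two_mem (conj_mem_cent hm hsA) ?_
  obtain ⟨n, hn⟩ := exists_two_pow_of_mem D.q.two (mem_inf.1 hs).1
  refine ⟨n, ?_⟩
  rw [conj_pow, hn]; group

/-- the subgroup of elements centralising or inverting `ρ` -/
def BData.X1 (_D : BData A B P Z Z' ρ i ρ' i') : Subgroup G where
  carrier := {x | x * ρ * x⁻¹ = ρ ∨ x * ρ * x⁻¹ = ρ⁻¹}
  mul_mem' := by
    rintro x y (hx | hx) (hy | hy)
    · left
      calc x * y * ρ * (x * y)⁻¹ = x * (y * ρ * y⁻¹) * x⁻¹ := by group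
        _ = ρ := by rw [hy, hx]
    · right
      calc x * y * ρ * (x * y)⁻¹ = x * (y * ρ * y⁻¹) * x⁻¹ := by group
        _ = (x * ρ * x⁻¹)⁻¹ := by rw [hy]; group
        _ = ρ⁻¹ := by rw [hx]
    · right
      calc x * y * ρ * (x * y)⁻¹ = x * (y * ρ * y⁻¹) * x⁻¹ := by group
        _ = ρ⁻¹ := by rw [hy, hx]
    · left
      calc x * y * ρ * (x * y)⁻¹ = x * (y * ρ * y⁻¹) * x⁻¹ := by group
        _ = (x * ρ * x⁻¹)⁻¹ := by rw [hy]; group
        _ = ρ := by rw [hx]; group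
  one_mem' := by left; group
  inv_mem' := by
    rintro x (hx | hx)
    · left
      calc x⁻¹ * ρ * x⁻¹⁻¹ = x⁻¹ * (x * ρ * x⁻¹) * x⁻¹⁻¹ := by rw [hx]
        _ = ρ := by group
    · right
      calc x⁻¹ * ρ * x⁻¹⁻¹ = (x⁻¹ * (x * ρ * x⁻¹) * x⁻¹⁻¹)⁻¹ := by rw [hx]; group
        _ = ρ⁻¹ := by group

theorem BData.mem_X1 {x : G} : x ∈ D.X1 ↔ (x * ρ * x⁻¹ = ρ ∨ x * ρ * x⁻¹ = ρ⁻¹) := Iff.rfl

theorem BData.rho_ne_inv : ρ ≠ ρ⁻¹ := by
  intro h
  apply D.L.rho_ne
  have h1 : ρ ^ 2 = 1 := by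
    rw [pow_two]
    calc ρ * ρ = ρ * ρ⁻¹ := by rw [← h]
      _ = 1 := mul_inv_cancel _
  calc ρ = ρ ^ 7 * ((ρ ^ 2) ^ 3)⁻¹ := by group
    _ = 1 := by rw [D.L.rho_pow, h1]; group

theorem BData.i_conj : i * ρ * i⁻¹ = ρ⁻¹ := by
  rw [inv_eq_of_mul_eq_one_right D.L.i_sq]
  exact D.L.i_inv

theorem BData.i_mem_X1 : i ∈ D.X1 := Or.inr D.i_conj

/-- 2-elements of `C(ρ)` normalising `P ∩ B` are in `P ∩ B` -/
theorem BData.two_mem_X {n : G} (hn : n * ρ * n⁻¹ = ρ) (h2 : ∃ k : ℕ, n ^ 2 ^ k = 1)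
    (hnn : ∀ x ∈ P ⊓ B, n * x * n⁻¹ ∈ P ⊓ B) : n ∈ P ⊓ B := by
  have hSB : P ⊓ B ≤ centralizer (A : Set G) := by
    rw [← D.cb.eqA]; exact inf_le_right
  obtain ⟨z, hz, hz1⟩ := D.symm.exists_Z
  have hnA : n ∈ normalizer (A : Set G) :=
    D.q.a.ti n z (hSB (D.L'.Z_le hz)) (D.symm.orderOf_Z hz hz1) (hSB (hnn z (D.L'.Z_le hz)))
  obtain ⟨k, hk, a, ha, h1, hk2, ha2⟩ := exists_decomp D.q.a.sz hnA h2
  have h3 : a = 1 := by
    have e1 : k * ρ = ρ * k := comm_of_cent hk D.L.rho_mem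
    have e2 : a * ρ = ρ * a := by
      have h4 : n * ρ = ρ * n := mul_inv_eq_iff_eq_mul.mp hn
      rw [h1] at h4
      apply mul_left_cancel (a := k)
      calc k * (a * ρ) = k * a * ρ := by group
        _ = ρ * (k * a) := h4
        _ = (k * ρ) * a := by rw [e1]; group
        _ = k * (ρ * a) := by group
    obtain ⟨m, rfl⟩ := D.L.cent_rho a ha e2
    obtain ⟨j, hj⟩ := ha2
    -- `ρ ^ m` has order dividing `2 ^ j` and `7`
    have h5 : orderOf (ρ ^ m) ∣ 2 ^ j := orderOf_dvd_of_pow_eq_one hj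
    have h6 : orderOf (ρ ^ m) ∣ 7 := by
      apply orderOf_dvd_of_pow_eq_one
      rw [← pow_mul, mul_comm, pow_mul, D.L.rho_pow, one_pow]
    have h7 : Nat.Coprime (2 ^ j) 7 := Nat.Coprime.pow_left j (by norm_num)
    have h8 : orderOf (ρ ^ m) ∣ 1 := by
      rw [← h7]
      exact Nat.dvd_gcd h5 h6
    exact orderOf_eq_one_iff.mp (Nat.dvd_one.mp h8)
  rw [h1, h3, mul_one]
  exact D.two_mem hk hk2

theorem BData.B_le_X1 : B ≤ D.X1 := by
  intro b hb
  left
  rw [← comm_of_cent D.rho_mem hb]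
  group

/-- the subgroup `(P ∩ B) × ⟨i⟩` -/
def BData.P1 (_D : BData A B P Z Z' ρ i ρ' i') : Subgroup G := zpowers i ⊔ (P ⊓ B)

theorem BData.SB_le : P ⊓ B ≤ centralizer (A : Set G) := by
  rw [← D.cb.eqA]; exact inf_le_right

theorem BData.P1_two : IsPGroup 2 D.P1 := by
  refine IsPGroup.to_sup_of_normal_right' (isPGroup_zpowers ⟨1, by rw [pow_one, pow_two]; exact D.L.i_sq⟩)
    (D.q.two.to_le inf_le_left) ?_
  rw [zpowers_le]
  refine mem_norm_of_conj_le fun x hx => ?_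
  rw [← comm_of_cent (D.SB_le hx) D.L.i_mem]
  have : x * i * i⁻¹ = x := by group
  rw [this]; exact hx

theorem BData.P1_le : D.P1 ≤ D.X1 := by
  refine sup_le (by rw [zpowers_le]; exact D.i_mem_X1) ?_
  exact inf_le_right.trans D.B_le_X1

theorem BData.mem_P1 {x : G} (hx : x ∈ D.P1) : x ∈ P ⊓ B ∨ ∃ s ∈ P ⊓ B, x = s * i := by
  let H : Subgroup G :=
    { carrier := {x | x ∈ P ⊓ B ∨ ∃ s ∈ P ⊓ B, x = s * i}
      mul_mem' := by
        rintro x y (hx | ⟨s, hs, rfl⟩) (hy | ⟨t, ht, rfl⟩)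
        · exact Or.inl (mul_mem hx hy)
        · exact Or.inr ⟨x * t, mul_mem hx ht, by group⟩
        · refine Or.inr ⟨s * y, mul_mem hs hy, ?_⟩
          have := comm_of_cent (D.SB_le hy) D.L.i_mem
          calc s * i * y = s * (i * y) := by group
            _ = s * (y * i) := by rw [this]
            _ = s * y * i := by group
        · left
          have := comm_of_cent (D.SB_le ht) D.L.i_mem
          have e : s * i * (t * i) = s * t := by
            calc s * i * (t * i) = s * (i * t) * i := by group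
              _ = s * (t * i) * i := by rw [this]
              _ = s * t * (i * i) := by group
              _ = s * t := by rw [D.L.i_sq, mul_one]
          show s * i * (t * i) ∈ P ⊓ B
          rw [e]; exact mul_mem hs ht
      one_mem' := Or.inl (one_mem _)
      inv_mem' := by
        rintro x (hx | ⟨s, hs, rfl⟩)
        · exact Or.inl (inv_mem hx)
        · refine Or.inr ⟨s⁻¹, inv_mem hs, ?_⟩
          have := comm_of_cent (D.SB_le (inv_mem hs)) D.L.i_mem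
          rw [_root_.mul_inv_rev, inv_eq_of_mul_eq_one_right D.L.i_sq]
          exact this.symm }
  have h1 : D.P1 ≤ H := by
    refine sup_le ?_ ?_
    · rw [zpowers_le]
      exact Or.inr ⟨1, one_mem _, by group⟩
    · intro y hy
      exact Or.inl hy
  exact h1 hx

/-- `P1` is a Sylow 2-subgroup of `X1` -/
theorem BData.P1_max : ∀ T : Subgroup G, IsPGroup 2 T → T ≤ D.X1 → D.P1 ≤ T → T = D.P1 := by
  intro T hT hTX hPT
  -- `T ∩ C(ρ) = P ∩ B`
  have h1 : T ⊓ centralizer ({ρ} : Set G) = P ⊓ B := by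
    refine max_of_normalizer (X := centralizer ({ρ} : Set G)) ?_ _ (hT.to_le inf_le_left) inf_le_right ?_
    · intro n hn h2 hnn
      refine D.two_mem_X ?_ h2 hnn
      have := mem_centralizer_singleton_iff.1 hn
      exact mul_inv_eq_iff_eq_mul.mpr this
    · intro x hx
      refine mem_inf.2 ⟨hPT (mem_sup_right hx), ?_⟩
      rw [mem_centralizer_singleton_iff]
      exact (comm_of_cent (D.SB_le hx) D.L.rho_mem)
  apply le_antisymm _ hPT
  intro x hx
  rcases hTX hx with h2 | h2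
  · have h3 : x ∈ T ⊓ centralizer ({ρ} : Set G) := by
      refine mem_inf.2 ⟨hx, ?_⟩
      rw [mem_centralizer_singleton_iff]
      exact mul_inv_eq_iff_eq_mul.mp h2
    rw [h1] at h3
    exact mem_sup_right h3
  · have hi : i ∈ T := hPT (mem_sup_left (mem_zpowers i))
    have h3 : x * i ∈ T ⊓ centralizer ({ρ} : Set G) := by
      refine mem_inf.2 ⟨mul_mem hx hi, ?_⟩
      rw [mem_centralizer_singleton_iff]
      apply mul_inv_eq_iff_eq_mul.mp
      calc x * i * ρ * (x * i)⁻¹ = x * (i * ρ * i⁻¹) * x⁻¹ := by group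
        _ = (x * ρ * x⁻¹)⁻¹ := by rw [D.i_conj]; group
        _ = ρ := by rw [h2]; group
    rw [h1] at h3
    have h4 : x = (x * i) * i⁻¹ := by group
    rw [h4]
    exact mul_mem (mem_sup_right h3) (inv_mem (mem_sup_left (mem_zpowers i)))

/-- `i` is isolated in `P1` -/
theorem BData.isolated {C : Set (Subgroup G)} (hC : Fam C) (hA : A ∈ C) (hB : B ∈ C) {g : G}
    (hg : g * i * g⁻¹ ∈ D.P1) (hgX : g ∈ D.X1) : g * i * g⁻¹ = i := by
  have h1 : (g * i * g⁻¹) * ρ * (g * i * g⁻¹)⁻¹ = ρ⁻¹ := by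
    rcases D.mem_X1.1 hgX with h | h
    · have h2 : g⁻¹ * ρ * g = ρ := by
        calc g⁻¹ * ρ * g = g⁻¹ * (g * ρ * g⁻¹) * g := by rw [h]
          _ = ρ := by group
      calc (g * i * g⁻¹) * ρ * (g * i * g⁻¹)⁻¹ = g * (i * (g⁻¹ * ρ * g) * i⁻¹) * g⁻¹ := by group
        _ = (g * ρ * g⁻¹)⁻¹ := by rw [h2, D.i_conj]; group
        _ = ρ⁻¹ := by rw [h]
    · have h2 : g⁻¹ * ρ * g = ρ⁻¹ := by
        calc g⁻¹ * ρ * g = (g⁻¹ * (g * ρ * g⁻¹) * g)⁻¹ := by rw [h]; group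
          _ = ρ⁻¹ := by group
      calc (g * i * g⁻¹) * ρ * (g * i * g⁻¹)⁻¹ = g * (i * (g⁻¹ * ρ * g) * i⁻¹) * g⁻¹ := by group
        _ = g * (i * ρ * i⁻¹)⁻¹ * g⁻¹ := by rw [h2]; group
        _ = g * ρ * g⁻¹ := by rw [D.i_conj]; group
        _ = ρ⁻¹ := h
  rcases D.mem_P1 hg with h | ⟨s, hs, h⟩
  · exfalso
    have h2 := comm_of_cent (D.SB_le h) D.L.rho_mem
    rw [h2] at h1
    apply D.rho_ne_inv
    rw [← h1]; group
  · -- `g i g⁻¹ = s i`
    have hsA := D.SB_le hs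
    have e1 : s * i = i * s := comm_of_cent hsA D.L.i_mem
    have hss : s * s = 1 := by
      have h2 : (s * i) * (s * i) = 1 := by
        rw [← h]
        calc (g * i * g⁻¹) * (g * i * g⁻¹) = g * (i * i) * g⁻¹ := by group
          _ = 1 := by rw [D.L.i_sq]; group
      calc s * s = s * s * (i * i) := by rw [D.L.i_sq, mul_one]
        _ = s * (s * i) * i := by group
        _ = s * (i * s) * i := by rw [e1]
        _ = (s * i) * (s * i) := by group
        _ = 1 := h2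
    have hsZ : s ∈ Z' := (D.L'.mem_Z s hs).2 hss
    by_cases hs1 : s = 1
    · rw [h, hs1, one_mul]
    · exfalso
      obtain ⟨a, ha, hz⟩ := D.L.conj i D.L.i_mem D.L.i_sq
      set z := a * i * a⁻¹ with hzdef
      have hz1 : z ≠ 1 := by
        intro h2
        apply D.L.i_ne
        calc i = a⁻¹ * z * a := by rw [hzdef]; group
          _ = 1 := by rw [h2]; group
      have hzB : z ∈ centralizer (B : Set G) := D.cb.Z_le hz
      have hzS := D.L.Z_le hz
      set x := a * g * a⁻¹ with hxdef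
      have hxz : x * z * x⁻¹ = s * z := by
        have e2 : s * a = a * s := comm_of_cent hsA ha
        calc x * z * x⁻¹ = a * (g * i * g⁻¹) * a⁻¹ := by rw [hxdef, hzdef]; group
          _ = (a * s) * i * a⁻¹ := by rw [h]; group
          _ = s * z := by rw [← e2, hzdef]; group
      let B1 := B.map (MulAut.conj x).toMonoidHom
      have hB1 : B1 ∈ C := hC.conj B hB x
      have hszB1 : s * z ∈ centralizer (B1 : Set G) := by
        rw [mem_cent_map_conj, ← hxz]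
        have : x⁻¹ * (x * z * x⁻¹) * x = z := by group
        rw [this]; exact hzB
      have hne : A ≠ B1 := by
        intro h2
        rw [← h2] at hszB1
        have h3 : z ∈ centralizer (A : Set G) := by
          have : z = s⁻¹ * (s * z) := by group
          rw [this]; exact mul_mem (inv_mem hsA) hszB1
        exact hz1 (D.q.eq_one_of_A (mem_inf.1 hzS).2 h3)
      have hpr := hC.pr A hA B1 hB1 hne
      have e3 : s * z = z * s := comm_of_cent hsA (mem_inf.1 hzS).2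
      have hsz2 : (s * z) * (s * z) = 1 := by
        calc (s * z) * (s * z) = s * (z * s) * z := by group
          _ = s * (s * z) * z := by rw [e3]
          _ = (s * s) * (z * z) := by group
          _ = 1 := by rw [hss, (D.L.mem_Z z hzS).1 hz, one_mul]
      have hsz1 : s * z ≠ 1 := by
        intro h2
        apply hz1
        refine D.q.eq_one_of_A (mem_inf.1 hzS).2 ?_
        have : z = s⁻¹ := eq_inv_of_mul_eq_one_right h2
        rw [this]; exact inv_mem hsA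
      have hszo : orderOf (s * z) = 2 := orderOf_eq_two hsz2 hsz1
      have hPle : P ≤ normalizer (B1 : Set G) := by
        intro p hp
        refine hpr.b.mem_norm_of_comm hszB1 hszo ?_
        obtain ⟨k, hkP, hk, t, ht, rfl⟩ := D.q.dec hp
        have hkB : k ∈ P ⊓ B := by
          rw [← D.cb.eqA]; exact mem_inf.2 ⟨hkP, hk⟩
        have c1 : Commute k s := (D.L'.central s hsZ k hkB).symm
        have c2 : Commute k z := comm_of_cent hk (mem_inf.1 hzS).2
        have c3 : Commute t s := (comm_of_cent hsA (mem_inf.1 ht).2).symm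
        have c4 : Commute t z := (D.L.central z hz t ht).symm
        exact ((c1.mul_right c2).mul_left (c3.mul_right c4)).eq
      have q2 : Quad A B1 P := quad_of_max hpr D.q.two (le_inf D.q.leA hPle)
        (fun T h1 h2 h3 => D.cb.maxA T h1 (h2.trans inf_le_left) h3) hszB1 hszo
        (by
          rw [e3]
          exact mul_mem (self_le_norm (mem_inf.1 hzS).2) (cent_le_norm hsA))
      rcases q2.cases D.L with h2 | h2
      · obtain ⟨y, hy, hyZ⟩ : ∃ y ∈ P ⊓ B, y ∉ Z' := by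
          by_contra hcon
          push Not at hcon
          have h3 : P ⊓ B ≤ Z' := hcon
          have h4 := Nat.card_le_card_of_injective _ (Subgroup.inclusion_injective h3)
          rw [D.L'.card_S, D.L'.card_Z] at h4
          omega
        apply hyZ
        rw [D.L'.mem_Z y hy]
        exact h2.sqA y (mem_inf.1 hy).1 (D.SB_le hy)
      · have h3 : s * z ∈ P ⊓ centralizer (B1 : Set G) :=
          mem_inf.2 ⟨mul_mem (mem_inf.1 hs).1 (mem_inf.1 hzS).1, hszB1⟩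
        rw [h2.eqB] at h3
        apply hs1
        refine D.q.eq_one_of_A ?_ hsA
        have : s = (s * z) * z⁻¹ := by group
        rw [this]
        exact mul_mem (mem_inf.1 h3).2 (inv_mem (mem_inf.1 hzS).2)

/-- elements of `X1` commuting with `i` normalise `A` -/
theorem BData.mem_norm {c : G} (hc : c ∈ D.X1) (hci : c * i = i * c) : c ∈ normalizer (A : Set G) := by
  obtain ⟨a, ha, hz⟩ := D.L.conj i D.L.i_mem D.L.i_sq
  set z := a * i * a⁻¹ with hzdef
  have hz1 : z ≠ 1 := by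
    intro h2
    apply D.L.i_ne
    calc i = a⁻¹ * z * a := by rw [hzdef]; group
      _ = 1 := by rw [h2]; group
  have hzB : z ∈ centralizer (B : Set G) := D.cb.Z_le hz
  have hzo : orderOf z = 2 := D.orderOf_Z hz hz1
  -- `a c a⁻¹` normalises `P ∩ A`
  have h1 : ∀ x ∈ P ⊓ A, (a * c * a⁻¹) * x * (a * c * a⁻¹)⁻¹ ∈ P ⊓ A := by
    have h2 : a * c * a⁻¹ ∈ normalizer (B : Set G) := by
      refine D.q.b.mem_norm_of_comm hzB hzo ?_
      calc (a * c * a⁻¹) * z = a * (c * i) * a⁻¹ := by rw [hzdef]; group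
        _ = a * (i * c) * a⁻¹ := by rw [hci]
        _ = z * (a * c * a⁻¹) := by rw [hzdef]; group
    intro x hx
    exact D.symm.norm_conj h2 hx
  -- the subgroup of elements whose conjugate is in `A`
  let H : Subgroup G := A.comap (MulAut.conj c).toMonoidHom
  have hH : ∀ x, x ∈ H ↔ c * x * c⁻¹ ∈ A := fun x => Iff.rfl
  -- conjugate by `a`
  let H' : Subgroup G := H.map (MulAut.conj a).toMonoidHom
  have hH' : ∀ x, x ∈ H' ↔ c * (a⁻¹ * x * a) * c⁻¹ ∈ A := fun x => by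
    rw [mem_map_conj, hH]
  have h3 : P ⊓ A ≤ H' := by
    intro x hx
    rw [hH']
    have h4 := (mem_inf.1 (h1 x hx)).2
    have e : c * (a⁻¹ * x * a) * c⁻¹ = a⁻¹ * ((a * c * a⁻¹) * x * (a * c * a⁻¹)⁻¹) * a := by group
    rw [e]
    exact mul_mem (mul_mem (inv_mem ha) h4) ha
  have hcρ : ∀ y ∈ A, c * y * c⁻¹ ∈ A → c * (ρ * y * ρ⁻¹) * c⁻¹ ∈ A := by
    intro y _ hy2
    have e : c * (ρ * y * ρ⁻¹) * c⁻¹ = (c * ρ * c⁻¹) * (c * y * c⁻¹) * (c * ρ * c⁻¹)⁻¹ := by group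
    rw [e]
    rcases D.mem_X1.1 hc with h | h
    · rw [h]; exact mul_mem (mul_mem D.L.rho_mem hy2) (inv_mem D.L.rho_mem)
    · rw [h]; exact mul_mem (mul_mem (inv_mem D.L.rho_mem) hy2) (inv_mem (inv_mem D.L.rho_mem))
  have h5 : A ≤ H' := by
    refine D.L.gen H' h3 (a * ρ * a⁻¹) (mul_mem (mul_mem ha D.L.rho_mem) (inv_mem ha)) ?_ ?_
    · -- `a ρ a⁻¹` does not normalise `P ∩ A`
      intro hcon
      set r := a * ρ * a⁻¹ with hr
      have h6 : z * r * z⁻¹ = r⁻¹ := by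
        calc z * r * z⁻¹ = a * (i * ρ * i⁻¹) * a⁻¹ := by rw [hzdef, hr]; group
          _ = r⁻¹ := by rw [D.i_conj, hr]; group
      have h7 : r⁻¹ * r⁻¹ ∈ P ⊓ A := by
        have h8 : r * z⁻¹ * r⁻¹ ∈ P ⊓ A := conj_mem_of_norm hcon (inv_mem (D.L.Z_le hz))
        have h9 : z * (r * z⁻¹ * r⁻¹) ∈ P ⊓ A := mul_mem (D.L.Z_le hz) h8
        have e : z * (r * z⁻¹ * r⁻¹) = r⁻¹ * r⁻¹ := by
          calc z * (r * z⁻¹ * r⁻¹) = (z * r * z⁻¹) * r⁻¹ := by group
            _ = r⁻¹ * r⁻¹ := by rw [h6]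
        rwa [e] at h9
      obtain ⟨n, hn⟩ := exists_two_pow_of_mem D.q.two (mem_inf.1 h7).1
      -- order 7
      have h8 : (r⁻¹ * r⁻¹) ^ 7 = 1 := by
        have h9 : r ^ 7 = 1 := by
          rw [hr, conj_pow, D.L.rho_pow]; group
        rw [← pow_two, ← pow_mul, mul_comm, pow_mul, inv_pow, h9]
        group
      have h10 : orderOf (r⁻¹ * r⁻¹) ∣ 1 := by
        have h11 : Nat.Coprime (2 ^ n) 7 := Nat.Coprime.pow_left n (by norm_num)
        rw [← h11]
        exact Nat.dvd_gcd (orderOf_dvd_of_pow_eq_one hn) (orderOf_dvd_of_pow_eq_one h8)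
      have h12 : r⁻¹ * r⁻¹ = 1 := orderOf_eq_one_iff.mp (Nat.dvd_one.mp h10)
      apply D.rho_ne_inv
      have h13 : ρ⁻¹ * ρ⁻¹ = 1 := by
        calc ρ⁻¹ * ρ⁻¹ = a⁻¹ * (r⁻¹ * r⁻¹) * a := by rw [hr]; group
          _ = 1 := by rw [h12]; group
      calc ρ = ρ * (ρ⁻¹ * ρ⁻¹) := by rw [h13, mul_one]
        _ = ρ⁻¹ := by group
    · intro x hx
      rw [hH']
      have hy : a⁻¹ * x * a ∈ A := mul_mem (mul_mem (inv_mem ha) (mem_inf.1 hx).2) ha
      have e : a⁻¹ * (a * ρ * a⁻¹ * x * (a * ρ * a⁻¹)⁻¹) * a = ρ * (a⁻¹ * x * a) * ρ⁻¹ := by group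
      rw [e]
      exact hcρ _ hy ((hH' x).1 (h3 hx))
  refine mem_norm_of_conj_le fun x hx => ?_
  have h6 : a * x * a⁻¹ ∈ H' := h5 (mul_mem (mul_mem ha hx) (inv_mem ha))
  rw [hH'] at h6
  have e : c * (a⁻¹ * (a * x * a⁻¹) * a) * c⁻¹ = c * x * c⁻¹ := by group
  rwa [e] at h6

/-- **The second case is impossible.** -/
theorem BData.false {C : Set (Subgroup G)} (hC : Fam C) (hA : A ∈ C) (hB : B ∈ C) : False := by
  have : Fact (Nat.Prime 2) := ⟨Nat.prime_two⟩
  -- the Sylow subgroup of `X1`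
  have h2 : IsPGroup 2 (D.P1.subgroupOf D.X1) := D.P1_two.of_injective
    (Subgroup.subgroupOfEquivOfLe D.P1_le).toMonoidHom (Subgroup.subgroupOfEquivOfLe D.P1_le).injective
  obtain ⟨Q, hQ⟩ := h2.exists_le_sylow
  have hQ' : (Q : Subgroup ↥D.X1).map D.X1.subtype = D.P1 := by
    refine D.P1_max _ (Q.2.map _) (map_subtype_le _) ?_
    intro x hx
    exact ⟨⟨x, D.P1_le hx⟩, hQ (mem_subgroupOf.2 hx), rfl⟩
  have hQmem : ∀ x : ↥D.X1, x ∈ Q ↔ (x : G) ∈ D.P1 := by
    intro x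
    rw [← hQ']
    constructor
    · intro hx; exact ⟨x, hx, rfl⟩
    · rintro ⟨y, hy, h⟩
      have : y = x := Subtype.ext h
      rw [← this]; exact hy
  have hio : orderOf (⟨i, D.i_mem_X1⟩ : ↥D.X1) = 2 := by
    rw [← orderOf_injective D.X1.subtype D.X1.subtype_injective]
    exact orderOf_eq_two D.L.i_sq D.L.i_ne
  obtain ⟨N, hN, hNodd, hNc⟩ := Cfsg.Agent.S0215.result Q ⟨i, D.i_mem_X1⟩ hio
    ((hQmem _).2 (mem_sup_left (mem_zpowers i))) (by
      intro g hg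
      apply Subtype.ext
      exact D.isolated hC hA hB ((hQmem _).1 hg) g.2)
  -- the subgroup `N` in `G`
  let N' : Subgroup G := N.map D.X1.subtype
  have hN'X : N' ≤ D.X1 := map_subtype_le _
  have hN'n : ∀ x ∈ D.X1, ∀ n ∈ N', x * n * x⁻¹ ∈ N' := by
    rintro x hx _ ⟨n, hn, rfl⟩
    exact ⟨⟨x, hx⟩ * n * (⟨x, hx⟩ : ↥D.X1)⁻¹, hN.conj_mem n hn _, rfl⟩
  have hN'c : ∀ x ∈ D.X1, i * x * i⁻¹ * x⁻¹ ∈ N' := fun x hx => ⟨_, hNc ⟨x, hx⟩, rfl⟩
  have hN'odd : Odd (Nat.card N') := by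
    rw [← Nat.card_congr (N.equivMapOfInjective _ D.X1.subtype_injective).toEquiv]
    exact hNodd
  -- `X1 = N' (X1 ∩ C(i))`
  have hfact : ∀ x ∈ D.X1, ∃ o ∈ N', (o * x) * i = i * (o * x) := by
    intro x hx
    have hii : i⁻¹ = i := inv_eq_of_mul_eq_one_right D.L.i_sq
    set c : G := (x * i * x⁻¹) * i with hc
    have hcN : c ∈ N' := by
      have h3 : i * x⁻¹ * i⁻¹ * x⁻¹⁻¹ ∈ N' := hN'c x⁻¹ (inv_mem hx)
      have h4 := hN'n x hx _ h3
      have e : x * (i * x⁻¹ * i⁻¹ * x⁻¹⁻¹) * x⁻¹ = c := by rw [hc, hii]; group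
      rwa [e] at h4
    obtain ⟨m, hm⟩ := hN'odd
    -- `c` has odd order
    have hc1 : c ^ (2 * m + 1) = 1 := by
      have h3 : (⟨c, hcN⟩ : N') ^ Nat.card N' = 1 := pow_card_eq_one'
      have h4 := congrArg Subtype.val h3
      rw [hm] at h4
      exact h4
    have hic : i * c * i = c⁻¹ := by
      calc i * c * i = i * (x * i * x⁻¹) * (i * i) := by rw [hc]; group
        _ = i * (x * i⁻¹ * x⁻¹) := by rw [D.L.i_sq, hii]; group
        _ = c⁻¹ := by rw [hc]; nth_rewrite 1 [← hii]; group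
    have hicn : ∀ n : ℕ, i * c ^ n * i = (c ^ n)⁻¹ := by
      intro n
      have h3 : (i * c * i⁻¹) ^ n = i * c ^ n * i⁻¹ := conj_pow
      rw [hii, hic, inv_pow] at h3
      exact h3.symm
    refine ⟨(c ^ (m + 1))⁻¹, inv_mem (pow_mem hcN _), ?_⟩
    -- `x i x⁻¹ = c i = c^(m+1) i c^(-(m+1))`
    have h5 : c ^ (m + 1) * i * (c ^ (m + 1))⁻¹ = x * i * x⁻¹ := by
      have h6 : i * (c ^ (m + 1))⁻¹ = c ^ (m + 1) * i := by
        rw [← hicn (m + 1)]
        calc i * (i * c ^ (m + 1) * i) = (i * i) * c ^ (m + 1) * i := by group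
          _ = c ^ (m + 1) * i := by rw [D.L.i_sq, one_mul]
      calc c ^ (m + 1) * i * (c ^ (m + 1))⁻¹ = c ^ (m + 1) * (i * (c ^ (m + 1))⁻¹) := by group
        _ = c ^ (m + 1) * c ^ (m + 1) * i := by rw [h6]; group
        _ = c ^ (2 * m + 1) * c * i := by
            rw [← pow_add, ← pow_succ]
            congr 2
            ring
        _ = c * i := by rw [hc1, one_mul]
        _ = x * i * x⁻¹ * (i * i) := by rw [hc]; group
        _ = x * i * x⁻¹ := by rw [D.L.i_sq, mul_one]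
    calc (c ^ (m + 1))⁻¹ * x * i = (c ^ (m + 1))⁻¹ * (x * i * x⁻¹) * x := by group
      _ = (c ^ (m + 1))⁻¹ * (c ^ (m + 1) * i * (c ^ (m + 1))⁻¹) * x := by rw [h5]
      _ = i * ((c ^ (m + 1))⁻¹ * x) := by group
  -- `H = N' (P ∩ B)`
  let H : Subgroup G := N' ⊔ (P ⊓ B)
  have hSX : P ⊓ B ≤ D.X1 := inf_le_right.trans D.B_le_X1
  have hBconj : ∀ b ∈ B, ∀ s ∈ P ⊓ B, b * s * b⁻¹ ∈ H := by
    intro b hb s hs
    obtain ⟨o, ho, h3⟩ := hfact b (D.B_le_X1 hb)
    have h4 : o * b ∈ D.X1 := mul_mem (hN'X ho) (D.B_le_X1 hb)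
    have h5 := D.mem_norm h4 h3
    have h6 : (o * b) * s * (o * b)⁻¹ ∈ P ⊓ B := D.norm_conj h5 hs
    have h7 : b * s * b⁻¹ = o⁻¹ * ((o * b) * s * (o * b)⁻¹) * o := by group
    rw [h7]
    exact mul_mem (mul_mem (inv_mem (mem_sup_left ho)) (mem_sup_right h6)) (mem_sup_left ho)
  have hBH : B ≤ H := by
    refine D.L'.gen H le_sup_right i' D.L'.i_mem D.L'.i_not ?_
    intro x hx
    exact hBconj i' D.L'.i_mem x hx
  -- the order of `ρ'`
  have hρ' : ρ' ∈ H := hBH D.L'.rho_mem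
  have hH64 : ∀ x ∈ H, x ^ 64 ∈ N' := by
    intro x hx
    obtain ⟨n, hn, s, hs, rfl⟩ := mem_sup_of_conj (fun s hs n hn => hN'n s (hSX hs) n hn) hx
    have h3 : ∀ k : ℕ, ∃ n' ∈ N', (n * s) ^ k = n' * s ^ k := by
      intro k
      induction k with
      | zero => exact ⟨1, one_mem _, by simp⟩
      | succ k ih =>
        obtain ⟨n', hn', h4⟩ := ih
        refine ⟨n' * (s ^ k * n * (s ^ k)⁻¹), mul_mem hn' (hN'n _ (hSX (pow_mem hs k)) n hn), ?_⟩
        rw [pow_succ, h4, pow_succ]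
        group
    obtain ⟨n', hn', h4⟩ := h3 64
    have h5 : s ^ 64 = 1 := by
      have h6 : (⟨s, hs⟩ : (P ⊓ B : Subgroup G)) ^ Nat.card (P ⊓ B : Subgroup G) = 1 := pow_card_eq_one'
      rw [D.q.cardB] at h6
      exact congrArg Subtype.val h6
    rw [h4, h5, mul_one]
    exact hn'
  have hρN : ρ' ∈ N' := by
    have h3 := hH64 ρ' hρ'
    have h4 : ρ' ^ 64 = ρ' := by
      calc ρ' ^ 64 = (ρ' ^ 7) ^ 9 * ρ' := by rw [← pow_mul, ← pow_succ]
        _ = ρ' := by rw [D.L'.rho_pow, one_pow, one_mul]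
    rwa [h4] at h3
  have hsim : IsSimpleGroup ↥B := D.q.b.sz.1
  have hnorm : (N'.subgroupOf B).Normal := by
    refine ⟨fun n hn g => ?_⟩
    rw [mem_subgroupOf] at hn ⊢
    exact hN'n g (D.B_le_X1 g.2) n hn
  rcases hnorm.eq_bot_or_eq_top with h | h
  · have h3 : (⟨ρ', D.L'.rho_mem⟩ : ↥B) ∈ N'.subgroupOf B := mem_subgroupOf.2 hρN
    rw [h, mem_bot] at h3
    exact D.L'.rho_ne (congrArg Subtype.val h3)
  · have h3 : B ≤ N' := subgroupOf_eq_top.mp h
    have h4 : P ⊓ B ≤ N' := inf_le_right.trans h3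
    have h5 := Subgroup.card_dvd_of_le h4
    rw [D.q.cardB] at h5
    have h6 : 2 ∣ Nat.card N' := (by norm_num : 2 ∣ 64).trans h5
    rw [← even_iff_two_dvd] at h6
    exact (Nat.not_even_iff_odd.2 hN'odd) h6

end Quad

end finite

end Cfsg.Agent.RuRed
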