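import Mathlib
import Cfsg.Agent.RuRed.PairKill

/-!
# Standard `Sz(8)`: the Sylow 2-subgroup of the centralizer is elementary abelian

`Fam C`, `A ∈ C`, and some involution of `C(A ^ g)`, `g ∉ N(A)`, normalises `A`. Then the Sylow 2-subgroup
`R = T ∩ C(A)` of `C(A)` (`T = R × S` Sylow in `N(A)`) is elementary abelian of order at most 8 and some
`h ∈ N(T)` does not normalise `A`.
-/

set_option autoImplicit false
set_option linter.unusedSectionVars false

open scoped commutatorElement Pointwise

namespace Cfsg.Agent.RuRed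

open Subgroup

variable {G : Type*} [Group G] [Finite G]

/-- The output of the reduction. -/
structure Elem (A T Z : Subgroup G) (ρ i h : G) : Prop where
  /-- `S = T ∩ A`, with its local data -/
  L : Loc A (T ⊓ A) Z ρ i
  two : IsPGroup 2 T
  le : T ≤ normalizer (A : Set G)
  /-- `T` is a Sylow 2-subgroup of `N(A)` -/
  max : ∀ Q : Subgroup G, IsPGroup 2 Q → Q ≤ normalizer (A : Set G) → T ≤ Q → Q = T
  /-- `T = R S`, `R = T ∩ C(A)` -/
  dec : ∀ p ∈ T, ∃ k ∈ T, k ∈ centralizer (A : Set G) ∧ ∃ s ∈ T ⊓ A, p = k * s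
  /-- `R` is elementary abelian -/
  sq : ∀ k ∈ T, k ∈ centralizer (A : Set G) → k * k = 1
  card_le : Nat.card (T ⊓ centralizer (A : Set G) : Subgroup G) ≤ 8
  ne : ∃ k ∈ T, k ∈ centralizer (A : Set G) ∧ orderOf k = 2
  comm : ⁅T, T⁆ = Z
  h_norm : h ∈ normalizer (T : Set G)
  h_not : h ∉ normalizer (A : Set G)

theorem Fam.exists_elem {C : Set (Subgroup G)} (hC : Fam C) {A : Subgroup G} (hA : A ∈ C) {g y : G}
    (hg : g ∉ normalizer (A : Set G))
    (hy : y ∈ centralizer (A.map (MulAut.conj g).toMonoidHom : Set G)) (hy2 : orderOf y = 2)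
    (hyA : y ∈ normalizer (A : Set G)) : ∃ T Z : Subgroup G, ∃ ρ i h : G, Elem A T Z ρ i h := by
  set B : Subgroup G := A.map (MulAut.conj g).toMonoidHom with hBdef
  have hB : B ∈ C := hC.conj A hA g
  have hne : A ≠ B := by
    intro h
    apply hg
    refine mem_norm_of_conj_le fun x hx => ?_
    have : g * x * g⁻¹ ∈ B := ⟨x, hx, rfl⟩
    rwa [← h] at this
  obtain ⟨P, q⟩ := exists_quad (hC.pr A hA B hB hne) hy hy2 hyA
  obtain ⟨Z, ρ, i, L⟩ := exists_loc q.a.sz (inf_le_right : P ⊓ A ≤ A) q.cardA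
  obtain ⟨Z', ρ', i', L'⟩ := exists_loc q.b.sz (inf_le_right : P ⊓ B ≤ B) q.cardB
  rcases q.cases L with c | c
  · rcases q.symm.cases L' with c' | c'
    · -- `P` is maximal in `N(A)` and `N(B)`
      have h1 : IsPGroup 2 (P.map (MulAut.conj g).toMonoidHom) := q.two.map _
      have h2 : P.map (MulAut.conj g).toMonoidHom ≤ normalizer (B : Set G) := by
        rintro _ ⟨p, hp, rfl⟩
        refine mem_norm_of_conj_le fun x hx => ?_
        rw [mem_map_conj] at hx ⊢
        have e : g⁻¹ * ((MulAut.conj g).toMonoidHom p * x * ((MulAut.conj g).toMonoidHom p)⁻¹) * g =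
            p * (g⁻¹ * x * g) * p⁻¹ := by
          show g⁻¹ * (g * p * g⁻¹ * x * (g * p * g⁻¹)⁻¹) * g = _
          group
        rw [e]
        exact conj_mem_of_norm (q.leA hp) hx
      obtain ⟨m, hm, hmc⟩ := conj_into q.two q.leB c'.maxA h1 h2
      refine ⟨P, Z, ρ, i, m * g, L, q.two, q.leA, c.maxA, fun p hp => q.dec hp, c.sqA, c.card_le, q.neA,
        c.comm, ?_, ?_⟩
      · refine mem_norm_of_conj_le fun x hx => ?_
        have h3 := hmc (g * x * g⁻¹) ⟨x, hx, rfl⟩
        have e : m * g * x * (m * g)⁻¹ = m * (g * x * g⁻¹) * m⁻¹ := by group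
        rw [e]; exact h3
      · intro h3
        apply hne
        ext x
        constructor
        · intro hx
          have h4 := (mem_normalizer_iff.1 (inv_mem h3) x).1 hx
          rw [inv_inv] at h4
          have h5 : g * ((m * g)⁻¹ * x * (m * g)) * g⁻¹ ∈ B := ⟨_, h4, rfl⟩
          have h6 := conj_mem_of_norm hm h5
          have e : m * (g * ((m * g)⁻¹ * x * (m * g)) * g⁻¹) * m⁻¹ = x := by group
          rwa [e] at h6
        · intro hx
          have h5 : m⁻¹ * x * m ∈ B := by
            have := conj_mem_of_norm (inv_mem hm) hx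
            rwa [inv_inv] at this
          rw [hBdef, mem_map_conj] at h5
          have h6 := conj_mem_of_norm h3 h5
          have e : m * g * (g⁻¹ * (m⁻¹ * x * m) * g) * (m * g)⁻¹ = x := by group
          rwa [e] at h6
    · exact ((Quad.BData.mk q.symm L' L c' (q.symm.caseB_symm L c')).false hC hB hA).elim
  · exact ((Quad.BData.mk q L L' c (q.caseB_symm L' c)).false hC hA hB).elim

end Cfsg.Agent.RuRed
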