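import Mathlib
import Cfsg.Agent.RuRed.PairMain
import Cfsg.Agent.RuRed.Grow2
import Cfsg.Agent.RuRed.RelW
import Cfsg.Agent.RuRed.Burn
import Cfsg.Agent.Dichotomy.CoreTools

/-!
# From `Elem A T Z ρ i h` to `Core G` and `Core8 G`

The hypothesis is `C_G(t) ∩ C_G(A) = R := T ∩ C_G(A)` for `1 ≠ t ∈ R`.
-/

set_option autoImplicit false
set_option linter.unusedSectionVars false

namespace Cfsg.Agent.RuRed

open Subgroup
open Cfsg.Agent.ThreePrime

open Cfsg.Agent.RuB.Raw (uu dd uu_mem dd_mem)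

variable {G : Type*} [Group G] [Finite G]

/-- a parametrisation of `A` adapted to a Sylow 2-subgroup `S` -/
theorem exists_rel_map {A S : Subgroup G} {F : Type*} [Field F] (hF : Nat.card F = 8) (R : SzRel.Rel ↥A F)
    (hS : S ≤ A) (hc : Nat.card S = 64) : ∃ a : ↥A, (R.map (MulAut.conj a)).T.map A.subtype = S := by
  have hfin : Finite F := Nat.finite_of_card_ne_zero (by rw [hF]; norm_num)
  have : Fintype F := Fintype.ofFinite F
  have hF' : Fintype.card F = 2 ^ (2 * 1 + 1) := by rw [← Nat.card_eq_fintype_card, hF]; norm_num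
  have : Fact (Nat.Prime 2) := ⟨Nat.prime_two⟩
  obtain ⟨P, hP⟩ := R.exists_sylow_eq (le_refl 1) hF'
  have hcP : Nat.card P = 64 := by
    rw [show Nat.card P = Nat.card R.T by rw [← hP], R.card_T, hF]
  -- `S` as a Sylow subgroup
  have hcS : Nat.card (S.subgroupOf A) = 64 := by
    rw [Nat.card_congr (subgroupOfEquivOfLe hS).toEquiv, hc]
  have h2 : IsPGroup 2 (S.subgroupOf A) := IsPGroup.of_card (n := 6) (by rw [hcS]; norm_num)
  obtain ⟨Q, hQ⟩ := h2.exists_le_sylow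
  have hQ' : (Q : Subgroup ↥A) = S.subgroupOf A := by
    symm
    apply Subgroup.eq_of_le_of_card_ge hQ
    rw [hcS]
    have h3 : Nat.card Q = Nat.card P := by
      rw [Sylow.card_eq_multiplicity, Sylow.card_eq_multiplicity]
    rw [← hcP]
    exact h3.le
  obtain ⟨a, ha⟩ := MulAction.exists_smul_eq ↥A P Q
  refine ⟨a, ?_⟩
  have h4 : (R.map (MulAut.conj a)).T = S.subgroupOf A := by
    rw [← hQ', ← ha]
    ext x
    constructor
    · rintro ⟨b, c, rfl⟩
      have h5 : R.u b c ∈ (P : Subgroup ↥A) := by rw [hP]; exact R.u_mem b c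
      exact ⟨_, h5, rfl⟩
    · rintro ⟨y, hy, rfl⟩
      have hy' : y ∈ (P : Subgroup ↥A) := hy
      rw [hP] at hy'
      obtain ⟨b, c, rfl⟩ := hy'
      exact ⟨b, c, rfl⟩
  rw [h4, subgroupOf_map_subtype, inf_eq_left.mpr hS]

/-- The configuration of `Grow2`. -/
theorem Elem.cfg {A T Z : Subgroup G} {ρ i h : G} (E : Elem A T Z ρ i h) (hstd : Std A)
    {F : Type*} [Field F] (hF : Nat.card F = 8) (R : SzRel.Rel ↥A F)
    (hR : R.T.map A.subtype = T ⊓ A) : Grow2.Cfg R (T ⊓ centralizer (A : Set G)) T := by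
  have hV : ∀ v ∈ T ⊓ centralizer (A : Set G), v ≠ 1 → orderOf v = 2 := fun v hv h1 =>
    orderOf_eq_two (E.sq v hv.1 hv.2) h1
  refine {
    cardF := hF
    commV := fun v hv a ha => comm_of_cent hv.2 ha
    sqV := fun v hv => E.sq v hv.1 hv.2
    cen := fun v hv h1 g hg => hstd.mem_norm_of_comm hv.2 (hV v hv h1) hg
    ti := fun v hv h1 g hg => hstd.ti g v hv.2 (hV v hv h1) hg.2
    mem_T := ?_
    syl := ?_ }
  · intro x
    constructor
    · intro hx
      obtain ⟨k, hk, hkA, s, hs, rfl⟩ := E.dec x hx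
      rw [← hR] at hs
      obtain ⟨y, ⟨a, b, rfl⟩, rfl⟩ := hs
      exact ⟨k, ⟨hk, hkA⟩, a, b, rfl⟩
    · rintro ⟨v, hv, a, b, rfl⟩
      have h3 : uu R a b ∈ T ⊓ A := by
        rw [← hR]
        exact ⟨_, R.u_mem a b, rfl⟩
      exact mul_mem hv.1 h3.1
  · intro g hgA hgT hg2
    have h1 : IsPGroup 2 (zpowers g) := by
      obtain ⟨n, hn⟩ := exists_two_pow_of_mem E.two hg2
      refine isPGroup_zpowers ⟨n + 1, ?_⟩
      rw [pow_succ', pow_mul, pow_two, hn]
    have h2 : zpowers g ≤ normalizer (T : Set G) := by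
      rw [zpowers_le]; exact hgT
    have h3 := IsPGroup.to_sup_of_normal_right' h1 E.two h2
    have h4 : T ≤ zpowers g ⊔ T := le_sup_right
    have h5 := E.max _ h3 (sup_le (by rw [zpowers_le]; exact hgA) E.le) h4
    rw [← h5]
    exact mem_sup_left (mem_zpowers g)

/-- `R = T ∩ C(A)` is a Sylow 2-subgroup of `C(A)` -/
theorem Elem.max_cent {A T Z : Subgroup G} {ρ i h : G} (E : Elem A T Z ρ i h) {Q : Subgroup G}
    (hQ : IsPGroup 2 Q) (hQA : Q ≤ centralizer (A : Set G)) (hle : T ⊓ centralizer (A : Set G) ≤ Q) :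
    Q = T ⊓ centralizer (A : Set G) := by
  have h1 : Q ≤ normalizer ((T ⊓ A : Subgroup G) : Set G) := by
    intro q hq
    rw [mem_normalizer_iff]
    have h2 : ∀ q ∈ Q, ∀ x ∈ A, q * x * q⁻¹ = x := by
      intro q hq x hx
      rw [comm_of_cent (hQA hq) hx, mul_inv_cancel_right]
    intro x
    constructor
    · intro hx
      rw [h2 q hq x hx.2]; exact hx
    · intro hx
      have h3 := h2 _ (inv_mem hq) _ hx.2
      have h4 : q⁻¹ * (q * x * q⁻¹) * q⁻¹⁻¹ = x := by group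
      rw [← h4, h3]
      exact hx
  have h2 : IsPGroup 2 (T ⊓ A : Subgroup G) := E.two.to_le inf_le_left
  have h3 := IsPGroup.to_sup_of_normal_right' hQ h2 h1
  have h4 : T ≤ Q ⊔ (T ⊓ A) := by
    intro x hx
    obtain ⟨k, hk, hkA, s, hs, rfl⟩ := E.dec x hx
    exact mul_mem (mem_sup_left (hle ⟨hk, hkA⟩)) (mem_sup_right hs)
  have h5 := E.max _ h3 (sup_le (hQA.trans cent_le_norm) (inf_le_right.trans self_le_norm)) h4
  refine le_antisymm (fun q hq => ⟨?_, hQA hq⟩) hle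
  rw [← h5]
  exact mem_sup_left hq

/-- **Burnside**: `C_G(t) ∩ C_G(A) = O(…) R` for `1 ≠ t ∈ R`, if `|R| ≥ 4`. -/
theorem Elem.exists_compl {A T Z : Subgroup G} {ρ i h : G} (E : Elem A T Z ρ i h) (hstd : Std A)
    (h4 : 4 ≤ Nat.card (T ⊓ centralizer (A : Set G) : Subgroup G)) {t : G} (htT : t ∈ T)
    (htA : t ∈ centralizer (A : Set G)) (ht1 : t ≠ 1) :
    ∃ O : Subgroup G, O ≤ centralizer {t} ⊓ centralizer (A : Set G) ∧
      (∀ x ∈ centralizer {t} ⊓ centralizer (A : Set G), x ∈ O ↔ Odd (orderOf x)) ∧ ¬ 2 ∣ Nat.card O ∧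
      ∀ x ∈ centralizer {t} ⊓ centralizer (A : Set G), ∃ o ∈ O, ∃ v ∈ T ⊓ centralizer (A : Set G), x = o * v := by
  have hsz := hstd.sz
  obtain ⟨_, F, iF, iF', hF, ⟨R⟩⟩ := hsz
  have hF' : Nat.card F = 8 := by rw [Nat.card_eq_fintype_card, hF]
  obtain ⟨a, ha⟩ := exists_rel_map hF' R (S := T ⊓ A) inf_le_right E.L.card_S
  have H := E.cfg hstd hF' _ ha
  have hVt : ∀ v ∈ T ⊓ centralizer (A : Set G), v * t = t * v := fun v hv =>
    Grow2.V_mul_comm H hv ⟨htT, htA⟩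
  refine exists_complement (V := T ⊓ centralizer (A : Set G)) ?_ (E.two.to_le inf_le_left) ?_ ?_
  · intro v hv
    exact mem_inf.2 ⟨mem_centralizer_singleton_iff.2 (hVt v hv), hv.2⟩
  · intro Q hQ hQX hVQ
    exact E.max_cent hQ (hQX.trans inf_le_right) hVQ
  · intro n hn hnV
    have h1 : n * t = t * n := mem_centralizer_singleton_iff.1 hn.1
    refine Grow2.comm_V_of_norm H h4 E.h_norm E.h_not (fun a ha => comm_of_cent hn.2 ha) ⟨htT, htA⟩ ht1 h1
      (fun v hv => ?_)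
    have h2 := (mem_normalizer_iff.1 (inv_mem hnV) v).1 hv
    rwa [inv_inv] at h2

/-- the locally balanced case -/
theorem Elem.cenK {A T Z : Subgroup G} {ρ i h : G} (E : Elem A T Z ρ i h) (hstd : Std A)
    (h4 : 4 ≤ Nat.card (T ⊓ centralizer (A : Set G) : Subgroup G))
    (hbal : ∀ t : G, orderOf t = 2 → Cfsg.centralizerPPrimeCore 2 t = ⊥) :
    Grow2.CenK A (T ⊓ centralizer (A : Set G)) := by
  intro t ht ht1 g hg hgA
  have ht2 : orderOf t = 2 := orderOf_eq_two (E.sq t ht.1 ht.2) ht1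
  have hgX : g ∈ centralizer {t} ⊓ centralizer (A : Set G) :=
    ⟨mem_centralizer_singleton_iff.2 hg, mem_cent_iff.2 hgA⟩
  obtain ⟨O, hO1, hO2, hO3, hO4⟩ := E.exists_compl hstd h4 ht.1 ht.2 ht1
  have hO : O = ⊥ := by
    rw [eq_bot_iff, ← hbal t ht2]
    have : Fact (Nat.Prime 2) := ⟨Nat.prime_two⟩
    refine Dichotomy.CoreTools.le_core 2 t (hO1.trans inf_le_left) ?_ hO3
    intro c hc
    have hct : c * t = t * c := mem_centralizer_singleton_iff.1 hc
    have hcN : c ∈ normalizer (A : Set G) := hstd.mem_norm_of_comm ht.2 ht2 hct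
    refine mem_norm_of_conj_le fun x hx => ?_
    have hx' := mem_inf.1 (hO1 hx)
    have h5 : c * x * c⁻¹ ∈ centralizer {t} ⊓ centralizer (A : Set G) :=
      mem_inf.2 ⟨mul_mem (mul_mem hc hx'.1) (inv_mem hc), conj_mem_cent hcN hx'.2⟩
    rw [hO2 _ h5, SC.orderOf_conj']
    exact (hO2 _ (hO1 hx)).1 hx
  obtain ⟨o, ho, v, hv, rfl⟩ := hO4 g hgX
  rw [hO, mem_bot] at ho
  rw [ho, one_mul]
  exact hv

/-- **`|R| = 4`**: the `Core` with the relation of `w`. -/
theorem Elem.exists_core_hw {A T Z : Subgroup G} {ρ i h : G} (E : Elem A T Z ρ i h) (hstd : Std A)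
    (hK : Grow2.CenK A (T ⊓ centralizer (A : Set G)))
    (h4 : Nat.card (T ⊓ centralizer (A : Set G) : Subgroup G) = 4)
    {F : Type*} [Field F] (hF : Nat.card F = 8) (R : SzRel.Rel ↥A F) (hw : RelW R) :
    ∃ C : RuB.Core G, C.L = A ∧ (∀ a, C.v a ∈ T ⊓ centralizer (A : Set G)) ∧
      (C.R.w : G) * (C.U 1 0)⁻¹ * (C.R.w : G) * C.U 1 0 = C.z 1 * (C.R.w : G) := by
  obtain ⟨a, ha⟩ := exists_rel_map hF R (S := T ⊓ A) inf_le_right E.L.card_S
  have H := E.cfg hstd hF _ ha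
  obtain ⟨C, φ, h1, h2, h3, h5, -⟩ := Grow2.exists_core H hK h4 E.h_norm E.h_not
  refine ⟨C, h1, h2, ?_⟩
  have h6 := h5 1 0
  have h7 := h5 0 1
  rw [map_one, map_zero] at h6 h7
  rw [h3, h6, C.z_eq, h7]
  exact congrArg Subtype.val (hw.map (MulAut.conj a))

/-- **`|R| = 8`**: the `Core8`. -/
theorem Elem.exists_core8 {A T Z : Subgroup G} {ρ i h : G} (E : Elem A T Z ρ i h) (hstd : Std A)
    (hK : Grow2.CenK A (T ⊓ centralizer (A : Set G)))
    (h8 : Nat.card (T ⊓ centralizer (A : Set G) : Subgroup G) = 8) : Nonempty (Ru8.Core8 G) := by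
  have hsz := hstd.sz
  obtain ⟨_, F, iF, iF', hF, ⟨R⟩⟩ := hsz
  have hF' : Nat.card F = 8 := by rw [Nat.card_eq_fintype_card, hF]
  obtain ⟨a, ha⟩ := exists_rel_map hF' R (S := T ⊓ A) inf_le_right E.L.card_S
  have H := E.cfg hstd hF' _ ha
  obtain ⟨C, -⟩ := Grow2.exists_core8 H hK h8 E.h_norm E.h_not
  exact ⟨C⟩

end Cfsg.Agent.RuRed
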