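import Mathlib
import Cfsg.Agent.RuRed.Glue

/-!
# Cores: the subgroup `D` generated by the `O(C_G(t) ∩ C_G(A))`, `1 ≠ t ∈ V`

`H : Cfg R V T`, `4 ≤ |V|`, `V` a Sylow 2-subgroup of `C_G(A)`, `h ∈ N(T) \ N(A)`. Then `D` has odd order, `A`
centralises `D`, `C_G(t) ≤ N_G(D)` for `1 ≠ t ∈ V`, and the configuration in `N_G(D)/D` satisfies `CenK`.
-/

set_option autoImplicit false
set_option linter.unusedSectionVars false
set_option linter.style.haveILetI false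

namespace Cfsg.Agent.RuRed.CoreD

open Cfsg.Agent.ThreePrime Subgroup Cfsg.Agent.RuRed.Grow2

open Cfsg.Agent.RuB.Raw (uu dd uu_mem dd_mem uu_mul uu_zero uu_inj uu_inv uu_sq z_mul uu_mul_z z_sq z_comm z_inv)

variable {G : Type*} [Group G] [Finite G] {A V T : Subgroup G} {F : Type*} [Field F]

/-- the subgroup generated by the cores -/
def DD (A V : Subgroup G) : Subgroup G :=
  closure {x | ∃ t ∈ V, t ≠ 1 ∧ x * t = t * x ∧ x ∈ centralizer (A : Set G) ∧ Odd (orderOf x)}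

theorem mem_DD {t x : G} (ht : t ∈ V) (ht1 : t ≠ 1) (hxt : x * t = t * x)
    (hx : x ∈ centralizer (A : Set G)) (hodd : Odd (orderOf x)) : x ∈ DD A V :=
  subset_closure ⟨t, ht, ht1, hxt, hx, hodd⟩

theorem DD_le : DD A V ≤ centralizer (A : Set G) := by
  rw [DD, closure_le]
  rintro x ⟨t, -, -, -, hx, -⟩
  exact hx

theorem orderOf_conj (g x : G) : orderOf (g * x * g⁻¹) = orderOf x := SC.orderOf_conj' g x

/-- a criterion for an element to normalise `D` -/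
theorem norm_DD {g : G}
    (h : ∀ t ∈ V, t ≠ 1 → ∀ x, x * t = t * x → x ∈ centralizer (A : Set G) → Odd (orderOf x) →
      ∃ t' ∈ V, t' ≠ 1 ∧ (g * x * g⁻¹) * t' = t' * (g * x * g⁻¹) ∧ g * x * g⁻¹ ∈ centralizer (A : Set G)) :
    g ∈ normalizer (DD A V : Set G) := by
  refine mem_norm_of_conj_le fun x hx => ?_
  have h1 : DD A V ≤ (DD A V).comap (MulAut.conj g).toMonoidHom := by
    conv_lhs => rw [DD]
    rw [closure_le]
    rintro y ⟨t, ht, ht1, hyt, hy, hodd⟩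
    obtain ⟨t', ht', ht1', h2, h3⟩ := h t ht ht1 y hyt hy hodd
    show g * y * g⁻¹ ∈ DD A V
    exact mem_DD ht' ht1' h2 h3 (by rw [orderOf_conj]; exact hodd)
  exact h1 hx

section main

variable {R : SzRel.Rel A F} (H : Cfg R V T)

include H

theorem order_V {v : G} (hv : v ∈ V) (hv1 : v ≠ 1) : orderOf v = 2 := orderOf_eq_two (H.sqV v hv) hv1

theorem V_le_cent : V ≤ centralizer (A : Set G) := fun v hv => mem_cent_iff.2 (H.commV v hv)

/-- Claim 1 -/
theorem key {g v t x : G} {b : F} (hg : g ∈ normalizer (T : Set G)) (hv : v ∈ V) (hv1 : v ≠ 1)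
    (he : g * v * g⁻¹ = t * uu R 0 b) (hxt : x * t = t * x)
    (hx : x ∈ centralizer (A : Set G)) (hodd : Odd (orderOf x)) :
    (g⁻¹ * x * g) * v = v * (g⁻¹ * x * g) ∧ g⁻¹ * x * g ∈ centralizer (A : Set G) := by
  have hxu : ∀ a b, x * uu R a b = uu R a b * x := fun a b => comm_of_cent hx (uu_mem R a b)
  have h1 : x * (g * v * g⁻¹) = (g * v * g⁻¹) * x := by
    rw [he, ← mul_assoc, hxt, mul_assoc, hxu, ← mul_assoc]
  have h2 : (g⁻¹ * x * g) * v = v * (g⁻¹ * x * g) := by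
    calc (g⁻¹ * x * g) * v = g⁻¹ * (x * (g * v * g⁻¹)) * g := by group
      _ = g⁻¹ * ((g * v * g⁻¹) * x) * g := by rw [h1]
      _ = _ := by group
  refine ⟨h2, ?_⟩
  have h3 : g⁻¹ * x * g ∈ normalizer (A : Set G) := H.cen v hv hv1 _ h2
  have h4 : ∀ c, (g⁻¹ * x * g) * uu R 0 c = uu R 0 c * (g⁻¹ * x * g) := by
    intro c
    obtain ⟨e, he'⟩ := norm_Z H hg c
    calc (g⁻¹ * x * g) * uu R 0 c = g⁻¹ * (x * (g * uu R 0 c * g⁻¹)) * g := by group
      _ = g⁻¹ * ((g * uu R 0 c * g⁻¹) * x) * g := by rw [he', hxu]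
      _ = _ := by group
  obtain ⟨a, c, hac⟩ := exists_inner H h3 h4
  set y := g⁻¹ * x * g with hy
  set k := (uu R a c)⁻¹ * y with hk
  have hkA : k ∈ centralizer (A : Set G) := mem_cent_iff.2 hac
  have hcomm : Commute (uu R a c) k := (comm_of_cent hkA (uu_mem R a c)).symm
  have hyk : y = uu R a c * k := by rw [hk]; group
  have hyo : orderOf y = orderOf x := by
    have : y = g⁻¹ * x * g⁻¹⁻¹ := by rw [hy, inv_inv]
    rw [this, orderOf_conj]
  have h5 : uu R a c ^ (orderOf x) * k ^ (orderOf x) = 1 := by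
    rw [← hcomm.mul_pow, ← hyk, ← hyo, pow_orderOf_eq_one]
  have h6 : uu R a c ^ (orderOf x) = 1 := by
    refine cap H (pow_mem (uu_mem R a c) _) (fun z hz => ?_)
    rw [eq_inv_of_mul_eq_one_left h5]
    exact comm_of_cent (inv_mem (pow_mem hkA _)) hz
  have h7 : uu R a c ^ 4 = 1 := by
    have h8 : uu R a c ^ 4 = (uu R a c * uu R a c) * (uu R a c * uu R a c) := by
      simp only [pow_succ, pow_zero, one_mul, mul_assoc]
    rw [h8, uu_sq, z_sq]
  have h8 : orderOf (uu R a c) = 1 := by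
    have h9 : orderOf (uu R a c) ∣ orderOf x := orderOf_dvd_of_pow_eq_one h6
    have h10 : orderOf (uu R a c) ∣ 2 ^ 2 := orderOf_dvd_of_pow_eq_one h7
    exact Nat.eq_one_of_dvd_coprimes (Nat.Coprime.pow_right 2 (Nat.coprime_two_right.2 hodd)) h9 h10
  rw [orderOf_eq_one_iff] at h8
  rw [hyk, h8, one_mul]
  exact hkA

theorem V_ne_of_norm {g v t : G} {b : F} (hg : g ∈ normalizer (T : Set G)) (hv : v ∈ V) (hv1 : v ≠ 1)
    (he : g * v * g⁻¹ = t * uu R 0 b) : t ≠ 1 := by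
  rintro rfl
  rw [one_mul] at he
  exact hv1 (eq_one_of_conj_Z H hg hv he)

/-- `N(T) ≤ N(D)` -/
theorem norm_T_le : normalizer (T : Set G) ≤ normalizer (DD A V : Set G) := by
  intro g hg
  refine norm_DD fun t ht ht1 x hxt hx hodd => ?_
  obtain ⟨v, hv, b, he⟩ := norm_E H hg ht 0
  rw [uu_zero, mul_one] at he
  have hv1 : v ≠ 1 := V_ne_of_norm H hg ht ht1 he
  obtain ⟨c, hc⟩ := norm_Z H (inv_mem hg) b
  rw [inv_inv] at hc
  have he' : g⁻¹ * v * g⁻¹⁻¹ = t * uu R 0 c := by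
    have h1 : v = (g * t * g⁻¹) * uu R 0 b := by rw [he, mul_assoc, z_sq, mul_one]
    rw [inv_inv, h1, ← hc]; group
  obtain ⟨h1, h2⟩ := key H (inv_mem hg) hv hv1 he' hxt hx hodd
  rw [inv_inv] at h1 h2
  exact ⟨v, hv, hv1, h1, h2⟩

/-- `N(A) ∩ N(V) ≤ N(D)` -/
theorem norm_V_le {g : G} (hg : g ∈ normalizer (A : Set G)) (hgV : ∀ v ∈ V, g * v * g⁻¹ ∈ V) :
    g ∈ normalizer (DD A V : Set G) := by
  refine norm_DD fun t ht ht1 x hxt hx hodd => ?_
  refine ⟨g * t * g⁻¹, hgV t ht, ?_, ?_, conj_mem_cent hg hx⟩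
  · intro h1
    apply ht1
    have : t = g⁻¹ * (g * t * g⁻¹) * g := by group
    rw [this, h1]; group
  · calc g * x * g⁻¹ * (g * t * g⁻¹) = g * (x * t) * g⁻¹ := by group
      _ = g * (t * x) * g⁻¹ := by rw [hxt]
      _ = _ := by group

variable (hmax : ∀ Q : Subgroup G, IsPGroup 2 Q → Q ≤ centralizer (A : Set G) → V ≤ Q → Q = V)

include hmax

/-- Burnside -/
theorem exists_compl (h4 : 4 ≤ Nat.card V) {h : G} (hh : h ∈ normalizer (T : Set G))
    (hhA : h ∉ normalizer (A : Set G)) {t : G} (ht : t ∈ V) (ht1 : t ≠ 1) :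
    ∃ O : Subgroup G, O ≤ centralizer {t} ⊓ centralizer (A : Set G) ∧
      (∀ x ∈ centralizer {t} ⊓ centralizer (A : Set G), x ∈ O ↔ Odd (orderOf x)) ∧ ¬ 2 ∣ Nat.card O ∧
      ∀ x ∈ centralizer {t} ⊓ centralizer (A : Set G), ∃ o ∈ O, ∃ v ∈ V, x = o * v := by
  have hV2 : IsPGroup 2 V := fun v => ⟨1, Subtype.ext (by
    show (v : G) ^ 2 ^ 1 = 1
    rw [pow_one, pow_two, H.sqV v v.2])⟩
  refine exists_complement (V := V) ?_ hV2 ?_ ?_
  · intro v hv
    exact mem_inf.2 ⟨mem_centralizer_singleton_iff.2 (V_mul_comm H hv ht), V_le_cent H hv⟩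
  · intro Q hQ hQX hVQ
    exact hmax Q hQ (hQX.trans inf_le_right) hVQ
  · intro n hn hnV
    have h1 : n * t = t * n := mem_centralizer_singleton_iff.1 hn.1
    refine comm_V_of_norm H h4 hh hhA (fun a ha => comm_of_cent hn.2 ha) ht ht1 h1 (fun v hv => ?_)
    have h2 := (mem_normalizer_iff.1 (inv_mem hnV) v).1 hv
    rwa [inv_inv] at h2

/-- every element of `C_G(t) ∩ C_G(A)` is in `D V` -/
theorem exists_mul (h4 : 4 ≤ Nat.card V) {h : G} (hh : h ∈ normalizer (T : Set G))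
    (hhA : h ∉ normalizer (A : Set G)) {t x : G} (ht : t ∈ V) (ht1 : t ≠ 1) (hxt : x * t = t * x)
    (hx : x ∈ centralizer (A : Set G)) : ∃ d ∈ DD A V, ∃ v ∈ V, x = d * v := by
  obtain ⟨O, hO1, hO2, hO3, hO4⟩ := exists_compl H hmax h4 hh hhA ht ht1
  obtain ⟨o, ho, v, hv, rfl⟩ := hO4 x (mem_inf.2 ⟨mem_centralizer_singleton_iff.2 hxt, hx⟩)
  have h1 := mem_inf.1 (hO1 ho)
  exact ⟨o, mem_DD ht ht1 (mem_centralizer_singleton_iff.1 h1.1) h1.2 ((hO2 o (hO1 ho)).1 ho), v, hv, rfl⟩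

/-- `C_G(t) ≤ N_G(D)` -/
theorem cent_le (h4 : 4 ≤ Nat.card V) {h : G} (hh : h ∈ normalizer (T : Set G))
    (hhA : h ∉ normalizer (A : Set G)) {t g : G} (ht : t ∈ V) (ht1 : t ≠ 1) (hg : g * t = t * g) :
    g ∈ normalizer (DD A V : Set G) := by
  have hgN : g ∈ normalizer (A : Set G) := H.cen t ht ht1 g hg
  have hV2 : IsPGroup 2 V := fun v => ⟨1, Subtype.ext (by
    show (v : G) ^ 2 ^ 1 = 1
    rw [pow_one, pow_two, H.sqV v v.2])⟩
  set X : Subgroup G := centralizer {t} ⊓ centralizer (A : Set G) with hX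
  have hVX : V ≤ X := fun v hv =>
    mem_inf.2 ⟨mem_centralizer_singleton_iff.2 (V_mul_comm H hv ht), V_le_cent H hv⟩
  have hQX : V.map (MulAut.conj g).toMonoidHom ≤ X := by
    rintro _ ⟨v, hv, rfl⟩
    show g * v * g⁻¹ ∈ X
    have hg' : g ∈ centralizer {t} := mem_centralizer_singleton_iff.2 hg
    exact mem_inf.2 ⟨mul_mem (mul_mem hg' (mem_inf.1 (hVX hv)).1) (inv_mem hg'),
      conj_mem_cent hgN (V_le_cent H hv)⟩
  obtain ⟨d, hd, hdQ⟩ := conj_into hV2 hVX (fun Q hQ hQX hVQ => hmax Q hQ (hQX.trans inf_le_right) hVQ)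
    (hV2.map (MulAut.conj g).toMonoidHom) hQX
  -- `d g` normalises `V` and `A`
  have h1 : ∀ v ∈ V, (d * g) * v * (d * g)⁻¹ ∈ V := by
    intro v hv
    have h2 := hdQ (g * v * g⁻¹) ⟨v, hv, rfl⟩
    have h3 : (d * g) * v * (d * g)⁻¹ = d * (g * v * g⁻¹) * d⁻¹ := by group
    rw [h3]; exact h2
  have hd' := mem_inf.1 hd
  have h2 : d * g ∈ normalizer (DD A V : Set G) :=
    norm_V_le H (mul_mem (cent_le_norm hd'.2) hgN) h1
  obtain ⟨o, ho, v, hv, hdov⟩ := exists_mul H hmax h4 hh hhA ht ht1 (mem_centralizer_singleton_iff.1 hd'.1) hd'.2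
  have h3 : d ∈ normalizer (DD A V : Set G) := by
    rw [hdov]
    refine mul_mem (le_normalizer ho) (norm_T_le H (le_normalizer (V_le H hv)))
  have h4 : g = d⁻¹ * (d * g) := by group
  rw [h4]
  exact mul_mem (inv_mem h3) h2

omit hmax in
/-- `D` has odd order -/
theorem odd_DD (hti : ∀ x k : G, k ∈ centralizer (A : Set G) → orderOf k = 2 →
      x * k * x⁻¹ ∈ centralizer (A : Set G) → x ∈ normalizer (A : Set G)) {h : G}
    (hh : h ∈ normalizer (T : Set G)) (hhA : h ∉ normalizer (A : Set G)) : ¬ 2 ∣ Nat.card (DD A V) := by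
  intro h2
  haveI : Fact (Nat.Prime 2) := ⟨Nat.prime_two⟩
  obtain ⟨d, hd⟩ := exists_prime_orderOf_dvd_card' 2 h2
  have hd2 : orderOf (d : G) = 2 := by rw [Subgroup.orderOf_coe]; exact hd
  have h3 : h * (d : G) * h⁻¹ ∈ DD A V := (mem_normalizer_iff.1 (norm_T_le H hh) _).1 d.2
  exact hhA (hti h d (DD_le d.2) hd2 (DD_le h3))

end main

end Cfsg.Agent.RuRed.CoreD
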