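import Mathlib
import Cfsg.Agent.RuRed.CoreD

/-!
# The configuration in `N_G(D)/D`
-/

set_option autoImplicit false
set_option linter.unusedSectionVars false
set_option linter.style.haveILetI false

namespace Cfsg.Agent.RuRed.CoreQ

open Cfsg.Agent.ThreePrime Subgroup Cfsg.Agent.RuRed.Grow2

open Cfsg.Agent.RuB.Raw (uu dd uu_mem dd_mem uu_mul uu_zero uu_inj uu_inv uu_sq z_mul uu_mul_z z_sq z_comm z_inv)

variable {G : Type*} [Group G] [Finite G] {A V T : Subgroup G} {F : Type*} [Field F]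

/-! ### odd and 2-elements -/

theorem eq_one_of_sq {D : Subgroup G} (hD : ¬ 2 ∣ Nat.card D) {d : G} (hd : d ∈ D) (h : d * d = 1) : d = 1 := by
  have h1 : orderOf d ∣ Nat.card D := Subgroup.orderOf_dvd_natCard D hd
  have h2 : orderOf d ∣ 2 := orderOf_dvd_of_pow_eq_one (by rw [pow_two, h])
  rcases (Nat.dvd_prime Nat.prime_two).1 h2 with h3 | h3
  · exact orderOf_eq_one_iff.1 h3
  · rw [h3] at h1
    exact (hD h1).elim

theorem eq_one_of_two {D : Subgroup G} (hD : ¬ 2 ∣ Nat.card D) {d : G} (hd : d ∈ D) {n : ℕ}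
    (h : d ^ 2 ^ n = 1) : d = 1 := by
  have h1 : orderOf d ∣ Nat.card D := Subgroup.orderOf_dvd_natCard D hd
  have h2 : orderOf d ∣ 2 ^ n := orderOf_dvd_of_pow_eq_one h
  have h3 : Nat.Coprime (Nat.card D) (2 ^ n) := Nat.Coprime.pow_right _
    ((Nat.Prime.coprime_iff_not_dvd Nat.prime_two).2 hD).symm
  exact orderOf_eq_one_iff.1 (Nat.eq_one_of_dvd_coprimes h3 h1 h2)

theorem odd_orderOf {D : Subgroup G} (hD : ¬ 2 ∣ Nat.card D) {d : G} (hd : d ∈ D) : Odd (orderOf d) := by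
  rw [← Nat.not_even_iff_odd, even_iff_two_dvd]
  exact fun h => hD (h.trans (Subgroup.orderOf_dvd_natCard D hd))

/-- two involutions which are equal modulo the odd group `D` are conjugate in `D` -/
theorem exists_conj_eq {D : Subgroup G} (hD : ¬ 2 ∣ Nat.card D) {v w : G} (hv : v * v = 1) (hw : w * w = 1)
    (h : v * w ∈ D) : ∃ d ∈ D, d * v * d⁻¹ = w := by
  obtain ⟨k, hk⟩ := odd_orderOf hD h
  set e := v * w with he
  have hve : v * e * v = e⁻¹ := by
    have h1 : v⁻¹ = v := inv_eq_of_mul_eq_one_right hv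
    have h2 : w⁻¹ = w := inv_eq_of_mul_eq_one_right hw
    rw [he, mul_inv_rev, h1, h2, ← mul_assoc, hv, one_mul]
  have hvk : ∀ n : ℕ, v * e ^ n * v = (e ^ n)⁻¹ := by
    intro n
    induction n with
    | zero => rw [pow_zero, mul_one, hv, inv_one]
    | succ n ih =>
      calc v * e ^ (n + 1) * v = (v * e ^ n * v) * (v * e * v) := by
            rw [pow_succ]
            calc v * (e ^ n * e) * v = v * e ^ n * 1 * e * v := by group
              _ = v * e ^ n * (v * v) * e * v := by rw [hv]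
              _ = _ := by group
        _ = (e ^ n)⁻¹ * e⁻¹ := by rw [ih, hve]
        _ = (e * e ^ n)⁻¹ := (mul_inv_rev e (e ^ n)).symm
        _ = (e ^ (n + 1))⁻¹ := by rw [pow_succ']
  refine ⟨e ^ k, pow_mem h k, ?_⟩
  have h3 : v * (e ^ k)⁻¹ = e ^ k * v := by
    calc v * (e ^ k)⁻¹ = v * (v * e ^ k * v) := by rw [hvk]
      _ = (v * v) * e ^ k * v := by group
      _ = e ^ k * v := by rw [hv, one_mul]
  have h4 : e ^ k * e ^ k = e⁻¹ := by
    rw [← pow_add]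
    have h5 := pow_orderOf_eq_one e
    rw [hk, pow_succ, two_mul] at h5
    exact eq_inv_of_mul_eq_one_left h5
  calc e ^ k * v * (e ^ k)⁻¹ = e ^ k * (v * (e ^ k)⁻¹) := by group
    _ = (e ^ k * e ^ k) * v := by rw [h3]; group
    _ = w := by
      rw [h4, he, mul_inv_rev, inv_eq_of_mul_eq_one_right hv, inv_eq_of_mul_eq_one_right hw, mul_assoc, hv,
        mul_one]

/-! ### the data -/

/-- the standing hypotheses on `D` -/
structure DHyp (R : SzRel.Rel A F) (V T D : Subgroup G) : Prop where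
  H : Cfg R V T
  simple : IsSimpleGroup A
  odd : ¬ 2 ∣ Nat.card D
  cent : D ≤ centralizer (A : Set G)
  T_le : T ≤ normalizer (D : Set G)
  two_T : IsPGroup 2 T
  mul : ∀ t ∈ V, t ≠ 1 → ∀ x, x * t = t * x → x ∈ centralizer (A : Set G) → ∃ d ∈ D, ∃ v ∈ V, x = d * v

section main

variable {R : SzRel.Rel A F} {D : Subgroup G} (P : DHyp R V T D)

/-- the quotient map -/
abbrev π (D : Subgroup G) : ↥(normalizer (D : Set G)) →* ↥(normalizer (D : Set G)) ⧸ D.subgroupOf (normalizer (D : Set G)) :=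
  QuotientGroup.mk' _

theorem π_eq_iff {x y : ↥(normalizer (D : Set G))} : π D x = π D y ↔ ((x : G)⁻¹ * y) ∈ D :=
  QuotientGroup.eq

theorem π_eq_iff' {x y : ↥(normalizer (D : Set G))} : π D x = π D y ↔ (x : G) * (y : G)⁻¹ ∈ D := by
  have h1 : π D x = π D y ↔ π D (x * y⁻¹) = 1 := by
    rw [map_mul, map_inv, mul_inv_eq_one]
  rw [h1]
  exact QuotientGroup.eq_one_iff _

theorem π_eq_one {x : ↥(normalizer (D : Set G))} : π D x = 1 ↔ (x : G) ∈ D := QuotientGroup.eq_one_iff _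

theorem π_surj (y : ↥(normalizer (D : Set G)) ⧸ D.subgroupOf (normalizer (D : Set G))) :
    ∃ x : ↥(normalizer (D : Set G)), π D x = y := QuotientGroup.mk'_surjective _ y

include P

theorem A_le : A ≤ normalizer (D : Set G) := by
  intro a ha
  refine mem_norm_of_conj_le fun d hd => ?_
  have h1 := comm_of_cent (P.cent hd) ha
  have h2 : a * d * a⁻¹ = d := by rw [← h1, mul_inv_cancel_right]
  rw [h2]; exact hd

theorem V_le' : V ≤ normalizer (D : Set G) := fun _ hv => P.T_le (V_le P.H hv)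

/-- `A → N(D)/D` -/
def ψ : A →* ↥(normalizer (D : Set G)) ⧸ D.subgroupOf (normalizer (D : Set G)) :=
  (π D).comp (Subgroup.inclusion (A_le P))

theorem ψ_apply (a : A) : ψ P a = π D ⟨a, A_le P a.2⟩ := rfl

theorem AD {x : G} (hx : x ∈ A) (hxD : x ∈ D) : x = 1 :=
  cap P.H hx (fun _ ha => comm_of_cent (P.cent hxD) ha)

theorem TD {x : G} (hx : x ∈ T) (hxD : x ∈ D) : x = 1 := by
  obtain ⟨n, hn⟩ := exists_two_pow_of_mem P.two_T hx
  exact eq_one_of_two P.odd hxD hn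

theorem ψ_inj : Function.Injective (ψ P) := by
  rw [injective_iff_map_eq_one]
  intro a ha
  rw [ψ_apply, π_eq_one] at ha
  exact Subtype.ext (AD P a.2 ha)

/-- the parametrisation of the image -/
noncomputable def R' : SzRel.Rel (ψ P).range F := R.map (MonoidHom.ofInjective (ψ_inj P))

omit P in
/-- image of a subgroup in `N(D)/D` -/
def im (D Y : Subgroup G) : Subgroup (↥(normalizer (D : Set G)) ⧸ D.subgroupOf (normalizer (D : Set G))) :=
  (Y.subgroupOf (normalizer (D : Set G))).map (π D)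

omit P in
theorem mem_im {Y : Subgroup G} {y : ↥(normalizer (D : Set G)) ⧸ D.subgroupOf (normalizer (D : Set G))} :
    y ∈ im D Y ↔ ∃ x : ↥(normalizer (D : Set G)), (x : G) ∈ Y ∧ π D x = y := by
  constructor
  · rintro ⟨x, hx, rfl⟩
    exact ⟨x, hx, rfl⟩
  · rintro ⟨x, hx, rfl⟩
    exact ⟨x, hx, rfl⟩

theorem uu' (a b : F) : uu (R' P) a b = π D ⟨uu R a b, A_le P (uu_mem R a b)⟩ := rfl

/-- elements of the normaliser of `A` -/
theorem norm_of {g : ↥(normalizer (D : Set G))} (hg : (g : G) ∈ normalizer (A : Set G)) :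
    π D g ∈ normalizer ((ψ P).range : Set (↥(normalizer (D : Set G)) ⧸ D.subgroupOf (normalizer (D : Set G)))) := by
  refine mem_norm_of_conj_le ?_
  rintro _ ⟨a, rfl⟩
  refine ⟨⟨(g : G) * a * (g : G)⁻¹, conj_mem_of_norm hg a.2⟩, ?_⟩
  rw [ψ_apply, ψ_apply, ← map_inv, ← map_mul, ← map_mul]
  rfl

/-- the converse -/
theorem norm_iff {g : ↥(normalizer (D : Set G))}
    (hg : π D g ∈ normalizer ((ψ P).range : Set (↥(normalizer (D : Set G)) ⧸ D.subgroupOf (normalizer (D : Set G))))) :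
    (g : G) ∈ normalizer (A : Set G) := by
  -- `g a g⁻¹ = a₁ d`
  have key : ∀ a ∈ A, ∃ a₁ ∈ A, ∃ d ∈ D, (g : G) * a * (g : G)⁻¹ = a₁ * d := by
    intro a ha
    have h1 : π D g * ψ P ⟨a, ha⟩ * (π D g)⁻¹ ∈ (ψ P).range := (mem_normalizer_iff.1 hg _).1 ⟨_, rfl⟩
    obtain ⟨a₁, h2⟩ := h1
    rw [ψ_apply, ψ_apply, ← map_inv, ← map_mul, ← map_mul, π_eq_iff] at h2
    refine ⟨a₁, a₁.2, (a₁ : G)⁻¹ * ((g : G) * a * (g : G)⁻¹), h2, ?_⟩
    rw [mul_inv_cancel_left]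
  -- the normal subgroup `{a | g a g⁻¹ ∈ A}` of `A`
  let N : Subgroup A := (A.comap (MulAut.conj (g : G)).toMonoidHom).subgroupOf A
  have hN : ∀ x : A, x ∈ N ↔ (g : G) * x * (g : G)⁻¹ ∈ A := fun x => Iff.rfl
  have hNn : N.Normal := by
    constructor
    intro n hn x
    rw [hN] at hn ⊢
    obtain ⟨x₁, hx₁, d, hd, h1⟩ := key x x.2
    have h2 : (g : G) * ((x * n * x⁻¹ : A) : G) * (g : G)⁻¹ =
        (x₁ * d) * ((g : G) * n * (g : G)⁻¹) * (x₁ * d)⁻¹ := by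
      rw [← h1]
      show (g : G) * ((x : G) * n * (x : G)⁻¹) * (g : G)⁻¹ = _
      group
    have h3 := comm_of_cent (P.cent hd) hn
    have h4 : (x₁ * d) * ((g : G) * n * (g : G)⁻¹) * (x₁ * d)⁻¹ = x₁ * ((g : G) * n * (g : G)⁻¹) * x₁⁻¹ := by
      calc (x₁ * d) * ((g : G) * n * (g : G)⁻¹) * (x₁ * d)⁻¹ =
          x₁ * (d * ((g : G) * n * (g : G)⁻¹)) * d⁻¹ * x₁⁻¹ := by group
        _ = _ := by rw [h3]; group
    rw [h2, h4]
    exact mul_mem (mul_mem hx₁ hn) (inv_mem hx₁)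
  have hs := P.simple
  have h1 : N = ⊤ := by
    refine (hNn.eq_bot_or_eq_top).resolve_left (fun hb => ?_)
    have h2 : R.u 0 1 ∈ N := by
      rw [hN]
      obtain ⟨a₁, ha₁, d, hd, h3⟩ := key (uu R 0 1) (uu_mem R 0 1)
      have h4 : (a₁ * d) * (a₁ * d) = 1 := by
        rw [← h3]
        calc (g : G) * uu R 0 1 * (g : G)⁻¹ * ((g : G) * uu R 0 1 * (g : G)⁻¹) =
            (g : G) * (uu R 0 1 * uu R 0 1) * (g : G)⁻¹ := by group
          _ = 1 := by rw [z_sq]; group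
      have h5 := comm_of_cent (P.cent hd) ha₁
      have h6 : (a₁ * a₁) * (d * d) = 1 := by
        rw [← h4]
        calc (a₁ * a₁) * (d * d) = a₁ * (a₁ * d) * d := by group
          _ = a₁ * (d * a₁) * d := by rw [h5]
          _ = _ := by group
      have h7 : d * d = 1 := by
        refine AD P ?_ (mul_mem hd hd)
        rw [eq_inv_of_mul_eq_one_right h6]
        exact inv_mem (mul_mem ha₁ ha₁)
      have h8 := eq_one_of_sq P.odd hd h7
      rw [h8, mul_one] at h3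
      show (g : G) * uu R 0 1 * (g : G)⁻¹ ∈ A
      rw [h3]
      exact ha₁
    rw [hb, mem_bot] at h2
    have h3 : uu R 0 1 = uu R 0 0 := by
      rw [uu_zero]
      exact congrArg Subtype.val h2
    exact one_ne_zero (uu_inj R h3).2
  refine mem_norm_of_conj_le fun x hx => ?_
  have h2 : (⟨x, hx⟩ : A) ∈ N := by rw [h1]; trivial
  exact h2

/-- conjugate elements of `V` modulo `D` -/
theorem exists_adj {g : ↥(normalizer (D : Set G))} {v w : G} (hv : v ∈ V) (hw : w ∈ V)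
    (h : (g : G) * v * (g : G)⁻¹ * w⁻¹ ∈ D) : ∃ d ∈ D, (d * g) * v * (d * g)⁻¹ = w := by
  have hw' : w⁻¹ = w := V_inv P.H hw
  rw [hw'] at h
  have h1 : ((g : G) * v * (g : G)⁻¹) * ((g : G) * v * (g : G)⁻¹) = 1 := by
    calc ((g : G) * v * (g : G)⁻¹) * ((g : G) * v * (g : G)⁻¹) = (g : G) * (v * v) * (g : G)⁻¹ := by group
      _ = 1 := by rw [P.H.sqV v hv]; group
  obtain ⟨d, hd, h2⟩ := exists_conj_eq P.odd h1 (P.H.sqV w hw) h
  refine ⟨d, hd, ?_⟩
  rw [← h2]; group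

theorem norm_of_adj {g : ↥(normalizer (D : Set G))} {d : G} (hd : d ∈ D)
    (h : d * g ∈ normalizer (A : Set G)) :
    π D g ∈ normalizer ((ψ P).range : Set (↥(normalizer (D : Set G)) ⧸ D.subgroupOf (normalizer (D : Set G)))) := by
  apply norm_of P
  have h1 : (g : G) = d⁻¹ * (d * g) := by group
  rw [h1]
  exact mul_mem (cent_le_norm (inv_mem (P.cent hd))) h

omit P in
theorem ne_one_of {v : ↥(normalizer (D : Set G))} (h : π D v ≠ 1) : (v : G) ≠ 1 := by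
  intro h1
  apply h
  rw [π_eq_one, h1]
  exact one_mem _

/-- the main part: the configuration in the quotient -/
theorem cfg : Cfg (R' P) (im D V) (im D T) := by
  have H := P.H
  refine {
    cardF := H.cardF
    commV := ?_
    sqV := ?_
    cen := ?_
    ti := ?_
    mem_T := ?_
    syl := ?_ }
  · intro v' hv0 a' ha
    obtain ⟨v, hv, rfl⟩ := mem_im.1 hv0
    obtain ⟨a, rfl⟩ := ha
    rw [ψ_apply, ← map_mul, ← map_mul]
    congr 1
    exact Subtype.ext (H.commV v hv a a.2)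
  · intro v' hv0
    obtain ⟨v, hv, rfl⟩ := mem_im.1 hv0
    rw [← map_mul, π_eq_one]
    show (v : G) * v ∈ D
    rw [H.sqV v hv]
    exact one_mem _
  · intro v' hv0 hv1 g' hg
    obtain ⟨v, hv, rfl⟩ := mem_im.1 hv0
    obtain ⟨g, rfl⟩ := π_surj g'
    rw [← map_mul, ← map_mul, π_eq_iff'] at hg
    have h1 : (g : G) * v * (g : G)⁻¹ * (v : G)⁻¹ ∈ D := by
      have h2 : (g : G) * v * (g : G)⁻¹ * (v : G)⁻¹ = ((g * v : ↥(normalizer (D : Set G))) : G) *
          ((v * g : ↥(normalizer (D : Set G))) : G)⁻¹ := by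
        show _ = ((g : G) * v) * ((v : G) * g)⁻¹
        group
      rw [h2]; exact hg
    obtain ⟨d, hd, h2⟩ := exists_adj P hv hv h1
    refine norm_of_adj P hd (H.cen v hv (ne_one_of hv1) _ ?_)
    calc d * (g : G) * v = (d * g * v * (d * g)⁻¹) * (d * g) := by group
      _ = _ := by rw [h2]
  · intro v' hv0 hv1 g' hg
    obtain ⟨v, hv, rfl⟩ := mem_im.1 hv0
    obtain ⟨g, rfl⟩ := π_surj g'
    obtain ⟨w, hw, hwe⟩ := mem_im.1 hg
    rw [← map_inv, ← map_mul, ← map_mul, eq_comm, π_eq_iff'] at hwe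
    have h1 : (g : G) * v * (g : G)⁻¹ * (w : G)⁻¹ ∈ D := hwe
    obtain ⟨d, hd, h2⟩ := exists_adj P hv hw h1
    refine norm_of_adj P hd (H.ti v hv (ne_one_of hv1) _ ?_)
    rw [h2]; exact hw
  · intro x'
    constructor
    · intro hx0
      obtain ⟨x, hx, rfl⟩ := mem_im.1 hx0
      obtain ⟨v, hv, a, b, h⟩ := (H.mem_T _).1 hx
      refine ⟨π D ⟨v, V_le' P hv⟩, mem_im.2 ⟨_, hv, rfl⟩, a, b, ?_⟩
      rw [uu' P, ← map_mul]
      congr 1
      exact Subtype.ext h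
    · rintro ⟨v', hv0, a, b, rfl⟩
      obtain ⟨v, hv, rfl⟩ := mem_im.1 hv0
      rw [uu' P, ← map_mul]
      exact mem_im.2 ⟨_, (H.mem_T _).2 ⟨v, hv, a, b, rfl⟩, rfl⟩
  · intro g' hgA hgT hg2
    obtain ⟨g, rfl⟩ := π_surj g'
    have hgA' := norm_iff P hgA
    -- the preimage of `T'`
    let W : Subgroup G := ((im D T).comap (π D)).map (normalizer (D : Set G)).subtype
    have hW : ∀ x, x ∈ W ↔ ∃ t ∈ T, ∃ d ∈ D, x = t * d := by
      intro x
      constructor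
      · rintro ⟨y, hy, rfl⟩
        obtain ⟨t, ht, h1⟩ := mem_im.1 hy
        rw [π_eq_iff] at h1
        exact ⟨t, ht, (t : G)⁻¹ * y, h1, by
          show (y : G) = _
          group⟩
      · rintro ⟨t, ht, d, hd, rfl⟩
        have htd : t * d ∈ normalizer (D : Set G) := mul_mem (P.T_le ht) (le_normalizer hd)
        refine ⟨⟨t * d, htd⟩, ?_, rfl⟩
        refine mem_im.2 ⟨⟨t, P.T_le ht⟩, ht, ?_⟩
        rw [π_eq_iff]
        show t⁻¹ * (t * d) ∈ D
        rw [inv_mul_cancel_left]; exact hd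
    have hTW : T ≤ W := fun t ht => (hW t).2 ⟨t, ht, 1, one_mem _, by rw [mul_one]⟩
    have hmaxW : ∀ Q : Subgroup G, IsPGroup 2 Q → Q ≤ W → T ≤ Q → Q = T := by
      intro Q hQ hQW hTQ
      refine le_antisymm (fun q hq => ?_) hTQ
      obtain ⟨t, ht, d, hd, h1⟩ := (hW q).1 (hQW hq)
      have h2 : d ∈ Q := by
        have : d = t⁻¹ * q := by rw [h1, inv_mul_cancel_left]
        rw [this]
        exact mul_mem (inv_mem (hTQ ht)) hq
      obtain ⟨n, hn⟩ := exists_two_pow_of_mem hQ h2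
      rw [h1, eq_one_of_two P.odd hd hn, mul_one]
      exact ht
    have hQW : T.map (MulAut.conj (g : G)).toMonoidHom ≤ W := by
      rintro _ ⟨t, ht, rfl⟩
      have h1 : π D g * π D ⟨t, P.T_le ht⟩ * (π D g)⁻¹ ∈ im D T :=
        (mem_normalizer_iff.1 hgT _).1 (mem_im.2 ⟨_, ht, rfl⟩)
      rw [← map_inv, ← map_mul, ← map_mul] at h1
      exact ⟨_, h1, rfl⟩
    obtain ⟨w, hw, hwT⟩ := conj_into P.two_T hTW hmaxW (P.two_T.map _) hQW
    obtain ⟨t₀, ht₀, d₀, hd₀, rfl⟩ := (hW w).1 hw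
    -- `d₀ g ∈ N(T)`
    have h1 : d₀ * g ∈ normalizer (T : Set G) := by
      refine mem_norm_of_conj_le fun t ht => ?_
      have h2 := hwT ((g : G) * t * (g : G)⁻¹) ⟨t, ht, rfl⟩
      have h3 : d₀ * (g : G) * t * (d₀ * (g : G))⁻¹ =
          t₀⁻¹ * (t₀ * d₀ * ((g : G) * t * (g : G)⁻¹) * (t₀ * d₀)⁻¹) * t₀ := by group
      rw [h3]
      exact mul_mem (mul_mem (inv_mem ht₀) h2) ht₀
    set g₁ : G := d₀ * g with hg₁
    have hg₁A : g₁ ∈ normalizer (A : Set G) := mul_mem (cent_le_norm (P.cent hd₀)) hgA'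
    have hg₁M : g₁ ∈ normalizer (D : Set G) := mul_mem (le_normalizer hd₀) g.2
    have hπ : π D ⟨g₁, hg₁M⟩ = π D g := by
      rw [π_eq_iff']
      show d₀ * (g : G) * (g : G)⁻¹ ∈ D
      rw [mul_inv_cancel_right]; exact hd₀
    rw [← hπ] at hg2 ⊢
    -- `g₁ ^ 2 = τ δ`
    rw [← map_mul] at hg2
    obtain ⟨τ, hτ, h2⟩ := mem_im.1 hg2
    rw [π_eq_iff] at h2
    set δ : G := (τ : G)⁻¹ * (g₁ * g₁) with hδ
    have hδD : δ ∈ D := h2
    have hδT : δ ∈ normalizer (T : Set G) := mul_mem (inv_mem (le_normalizer hτ)) (mul_mem h1 h1)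
    have hδc : Commute (τ : G) δ := by
      have h3 : δ * τ * δ⁻¹ * (τ : G)⁻¹ = 1 := by
        refine TD P (mul_mem ((mem_normalizer_iff.1 hδT _).1 hτ) (inv_mem hτ)) ?_
        have h4 : δ * τ * δ⁻¹ * (τ : G)⁻¹ = δ * (τ * δ⁻¹ * (τ : G)⁻¹) := by group
        rw [h4]
        exact mul_mem hδD ((mem_normalizer_iff.1 τ.2 _).1 (inv_mem hδD))
      have h5 : δ * τ = τ * δ := by
        calc δ * τ = (δ * τ * δ⁻¹ * (τ : G)⁻¹) * (τ * δ) := by group
          _ = _ := by rw [h3, one_mul]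
      exact h5.symm
    have hg₁2 : g₁ * g₁ = τ * δ := by rw [hδ]; group
    obtain ⟨k, hk⟩ := odd_orderOf P.odd hδD
    have h3 : (g₁ ^ orderOf δ) * (g₁ ^ orderOf δ) = (τ : G) ^ orderOf δ := by
      rw [← pow_add, ← two_mul, pow_mul, pow_two, hg₁2, hδc.mul_pow, pow_orderOf_eq_one, mul_one]
    have h4 : g₁ ^ orderOf δ ∈ T := H.syl _ (pow_mem hg₁A _) (pow_mem h1 _) (by
      rw [h3]; exact pow_mem hτ _)
    have h5 : π D ⟨g₁, hg₁M⟩ ^ orderOf δ ∈ im D T := by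
      rw [← map_pow]
      exact mem_im.2 ⟨_, h4, rfl⟩
    have h6 : π D ⟨g₁, hg₁M⟩ * π D ⟨g₁, hg₁M⟩ ∈ im D T := by
      rw [← map_mul]; exact hg2
    rw [hk, pow_succ, pow_mul, pow_two] at h5
    have h7 := mul_mem (inv_mem (pow_mem h6 k)) h5
    rwa [inv_mul_cancel_left] at h7

theorem cenK : CenK (ψ P).range (im D V) := by
  have H := P.H
  intro v' hv0 hv1 g' hg hgA
  obtain ⟨v, hv, rfl⟩ := mem_im.1 hv0
  obtain ⟨g, rfl⟩ := π_surj g'
  rw [← map_mul, ← map_mul, π_eq_iff'] at hg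
  have h1 : (g : G) * v * (g : G)⁻¹ * (v : G)⁻¹ ∈ D := by
    have h2 : (g : G) * v * (g : G)⁻¹ * (v : G)⁻¹ = ((g * v : ↥(normalizer (D : Set G))) : G) *
        ((v * g : ↥(normalizer (D : Set G))) : G)⁻¹ := by
      show _ = ((g : G) * v) * ((v : G) * g)⁻¹
      group
    rw [h2]; exact hg
  obtain ⟨d, hd, h2⟩ := exists_adj P hv hv h1
  set g₁ : G := d * g with hg₁
  have hg₁v : g₁ * v = v * g₁ := by
    calc g₁ * v = (d * g * v * (d * g)⁻¹) * (d * g) := by rw [hg₁]; group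
      _ = _ := by rw [h2]
  have hg₁N : g₁ ∈ normalizer (A : Set G) := H.cen v hv (ne_one_of hv1) _ hg₁v
  have hg₁M : g₁ ∈ normalizer (D : Set G) := mul_mem (le_normalizer hd) g.2
  have hπ : π D ⟨g₁, hg₁M⟩ = π D g := by
    rw [π_eq_iff']
    show d * (g : G) * (g : G)⁻¹ ∈ D
    rw [mul_inv_cancel_right]; exact hd
  have hg₁A : g₁ ∈ centralizer (A : Set G) := by
    rw [mem_cent_iff]
    intro a ha
    have h3 := hgA _ ⟨⟨a, ha⟩, rfl⟩
    rw [← hπ, ψ_apply, ← map_mul, ← map_mul, π_eq_iff'] at h3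
    have h4 : g₁ * a * g₁⁻¹ * a⁻¹ ∈ D := by
      have h5 : g₁ * a * g₁⁻¹ * a⁻¹ = (g₁ * a) * (a * g₁)⁻¹ := by group
      rw [h5]; exact h3
    have h5 := AD P (mul_mem (conj_mem_of_norm hg₁N ha) (inv_mem ha)) h4
    calc g₁ * a = (g₁ * a * g₁⁻¹ * a⁻¹) * (a * g₁) := by group
      _ = _ := by rw [h5, one_mul]
  obtain ⟨e, he, w, hw, h3⟩ := P.mul v hv (ne_one_of hv1) g₁ hg₁v hg₁A
  rw [← hπ]
  refine mem_im.2 ⟨⟨w, V_le' P hw⟩, hw, ?_⟩
  rw [eq_comm, π_eq_iff']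
  show g₁ * w⁻¹ ∈ D
  rw [h3, mul_inv_cancel_right]
  exact he

theorem card_im : Nat.card (im D V) = Nat.card V := by
  refine (Nat.card_congr (Equiv.ofBijective
    (fun v : V => (⟨π D ⟨v, V_le' P v.2⟩, mem_im.2 ⟨_, v.2, rfl⟩⟩ : im D V)) ⟨?_, ?_⟩)).symm
  · intro v w h
    have h1 : π D ⟨v, V_le' P v.2⟩ = π D ⟨w, V_le' P w.2⟩ := congrArg Subtype.val h
    rw [π_eq_iff] at h1
    have h2 : (v : G)⁻¹ * w = 1 := TD P (mul_mem (inv_mem (V_le P.H v.2)) (V_le P.H w.2)) h1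
    exact Subtype.ext (inv_mul_eq_one.1 h2)
  · rintro ⟨y, hy⟩
    obtain ⟨x, hx, rfl⟩ := mem_im.1 hy
    exact ⟨⟨x, hx⟩, rfl⟩

theorem growth {h : G} (hh : h ∈ normalizer (T : Set G)) (hhA : h ∉ normalizer (A : Set G))
    (hhD : h ∈ normalizer (D : Set G)) :
    π D ⟨h, hhD⟩ ∈ normalizer ((im D T) : Set (↥(normalizer (D : Set G)) ⧸ D.subgroupOf (normalizer (D : Set G)))) ∧
    π D ⟨h, hhD⟩ ∉ normalizer ((ψ P).range : Set (↥(normalizer (D : Set G)) ⧸ D.subgroupOf (normalizer (D : Set G)))) := by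
  constructor
  · refine mem_norm_of_conj_le fun x' hx0 => ?_
    obtain ⟨x, hx, rfl⟩ := mem_im.1 hx0
    rw [← map_inv, ← map_mul, ← map_mul]
    exact mem_im.2 ⟨_, (mem_normalizer_iff.1 hh _).1 hx, rfl⟩
  · intro h1
    exact hhA (norm_iff P h1)

/-- **`|V| = 4`** -/
theorem exists_core_hw (h4 : Nat.card V = 4) {h : G} (hh : h ∈ normalizer (T : Set G))
    (hhA : h ∉ normalizer (A : Set G)) (hhD : h ∈ normalizer (D : Set G)) (hw : RelW R) :
    ∃ C : RuB.Core (↥(normalizer (D : Set G)) ⧸ D.subgroupOf (normalizer (D : Set G))),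
      C.L = (ψ P).range ∧ (∀ a, C.v a ∈ im D V) ∧
      (C.R.w : ↥(normalizer (D : Set G)) ⧸ D.subgroupOf (normalizer (D : Set G))) * (C.U 1 0)⁻¹ * C.R.w * C.U 1 0 =
        C.z 1 * C.R.w := by
  obtain ⟨h1, h2⟩ := growth P hh hhA hhD
  obtain ⟨C, φ, h3, h4, h5, h6, -⟩ := Grow2.exists_core (cfg P) (cenK P) (by rw [card_im P, h4]) h1 h2
  refine ⟨C, h3, h4, ?_⟩
  have h8 := h6 1 0
  have h9 := h6 0 1
  rw [map_one, map_zero] at h8 h9
  rw [h5, h8, C.z_eq, h9]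
  exact congrArg Subtype.val (hw.map (MonoidHom.ofInjective (ψ_inj P)))

/-- **`|V| = 8`** -/
theorem exists_core8 (h8 : Nat.card V = 8) {h : G} (hh : h ∈ normalizer (T : Set G))
    (hhA : h ∉ normalizer (A : Set G)) (hhD : h ∈ normalizer (D : Set G)) :
    Nonempty (Ru8.Core8 (↥(normalizer (D : Set G)) ⧸ D.subgroupOf (normalizer (D : Set G)))) := by
  obtain ⟨h1, h2⟩ := growth P hh hhA hhD
  obtain ⟨C, -⟩ := Grow2.exists_core8 (cfg P) (cenK P) (by rw [card_im P, h8]) h1 h2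
  exact ⟨C⟩

end main

end Cfsg.Agent.RuRed.CoreQ
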