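import Mathlib
import Cfsg.Agent.RuRed.CoreQ
import Cfsg.Agent.RuC.Cov
import Cfsg.Agent.Ru127.Sg

/-!
# From `Elem` to the covering situation `Cov` (`|V| = 4`) and to `Core8 (N_G(D)/D)` (`|V| = 8`)
-/

set_option autoImplicit false
set_option linter.unusedSectionVars false
set_option linter.style.haveILetI false

namespace Cfsg.Agent.RuRed.CoreCov

open Cfsg.Agent.ThreePrime Subgroup Cfsg.Agent.RuRed.Grow2 Cfsg.Agent.RuRed.CoreQ

open Cfsg.Agent.RuB.Raw (uu dd uu_mem dd_mem uu_mul uu_zero uu_inj uu_inv uu_sq z_mul uu_mul_z z_sq z_comm z_inv)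

variable {G : Type*} [Group G] [Finite G] {A V T : Subgroup G} {F : Type*} [Field F]

section main

variable {R : SzRel.Rel A F} {D : Subgroup G} (P : DHyp R V T D)

include P

theorem ker_eq : (π D).ker = D.subgroupOf (normalizer (D : Set G)) := QuotientGroup.ker_mk' _

theorem card_ker : Odd (Nat.card (π D).ker) := by
  rw [ker_eq P, Nat.card_congr (subgroupOfEquivOfLe (le_normalizer (H := D))).toEquiv,
    ← Nat.not_even_iff_odd, even_iff_two_dvd]
  exact P.odd

theorem comm_of_simple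
    (hs : IsSimpleGroup (↥(normalizer (D : Set G)) ⧸ D.subgroupOf (normalizer (D : Set G))))
    (x : ↥(normalizer (D : Set G))) (n : ℕ) (hx : x ^ (2 ^ n) = 1) (d : ↥(normalizer (D : Set G)))
    (hd : d ∈ (π D).ker) : x * d = d * x := by
  let Cd : Subgroup ↥(normalizer (D : Set G)) :=
    centralizer ((D.subgroupOf (normalizer (D : Set G)) : Subgroup _) : Set ↥(normalizer (D : Set G)))
  have hmem : ∀ y : ↥(normalizer (D : Set G)), y ∈ Cd ↔ ∀ e : ↥(normalizer (D : Set G)), (e : G) ∈ D → e * y = y * e :=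
    fun y => mem_centralizer_iff
  have hn : Cd.Normal := by
    constructor
    intro y hy g
    rw [hmem] at hy ⊢
    intro e he
    have h1 : ((g⁻¹ * e * g : ↥(normalizer (D : Set G))) : G) ∈ D := by
      have h2 := (mem_normalizer_iff.1 (inv_mem g.2) _).1 he
      rw [inv_inv] at h2
      exact h2
    have h2 := hy _ h1
    calc e * (g * y * g⁻¹) = g * ((g⁻¹ * e * g) * y) * g⁻¹ := by group
      _ = g * (y * (g⁻¹ * e * g)) * g⁻¹ := by rw [h2]
      _ = _ := by group
  have hn' : (Cd.map (π D)).Normal := hn.map _ (QuotientGroup.mk'_surjective _)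
  have htop : Cd.map (π D) = ⊤ := by
    refine hn'.eq_bot_or_eq_top.resolve_left (fun hb => ?_)
    have h1 : π D ⟨uu R 0 1, A_le P (uu_mem R 0 1)⟩ ∈ Cd.map (π D) := by
      refine ⟨_, ?_, rfl⟩
      show _ ∈ Cd
      rw [hmem]
      intro e he
      exact Subtype.ext (comm_of_cent (P.cent he) (uu_mem R 0 1))
    rw [hb, mem_bot, π_eq_one] at h1
    have h2 : uu R 0 1 = uu R 0 0 := by
      rw [uu_zero]
      exact AD P (uu_mem R 0 1) h1
    exact one_ne_zero (uu_inj R h2).2
  have hxC : x ∈ Cd := by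
    obtain ⟨c, hc, hcx⟩ : π D x ∈ Cd.map (π D) := by rw [htop]; trivial
    rw [π_eq_iff] at hcx
    set e : G := (c : G)⁻¹ * x with he
    have hxe : x = c * ⟨e, le_normalizer hcx⟩ := by
      apply Subtype.ext
      show (x : G) = c * e
      rw [he]; group
    have hce : Commute c (⟨e, le_normalizer hcx⟩ : ↥(normalizer (D : Set G))) :=
      ((hmem c).1 hc _ hcx).symm
    have hodd := odd_orderOf P.odd hcx
    have h3 : x ^ orderOf e ∈ Cd := by
      rw [hxe, hce.mul_pow]
      have h4 : (⟨e, le_normalizer hcx⟩ : ↥(normalizer (D : Set G))) ^ orderOf e = 1 :=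
        Subtype.ext (pow_orderOf_eq_one e)
      rw [h4, mul_one]
      exact pow_mem hc _
    have h5 : (x : ↥(normalizer (D : Set G)) ⧸ Cd) = 1 := by
      refine RuC.two_odd (n := n) (m := orderOf e) ?_ hodd ?_
      · rw [← QuotientGroup.mk_pow, hx]; rfl
      · rw [← QuotientGroup.mk_pow]
        exact (QuotientGroup.eq_one_iff _).2 h3
    exact (QuotientGroup.eq_one_iff _).1 h5
  have hd' : (d : G) ∈ D := by
    rw [ker_eq P] at hd
    exact hd
  exact ((hmem x).1 hxC d hd').symm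

/-- `C_G(t) ≤ N_G(D)` for the involutions `t` lifting the elements of `V` -/
theorem cent_lift (hcent : ∀ t ∈ V, t ≠ 1 → ∀ g, g * t = t * g → g ∈ normalizer (D : Set G))
    {t : ↥(normalizer (D : Set G))} (ht : t * t = 1) (htV : π D t ∈ im D V) (ht1 : π D t ≠ 1) {g : G}
    (hg : g * t = t * g) : g ∈ normalizer (D : Set G) := by
  obtain ⟨v, hv, hvt⟩ := mem_im.1 htV
  have hv1 : (v : G) ≠ 1 := ne_one_of (by rw [hvt]; exact ht1)
  have hvinv : (v : G)⁻¹ = v := V_inv P.H hv
  rw [π_eq_iff, hvinv] at hvt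
  have ht' : (t : G) * t = 1 := congrArg Subtype.val ht
  obtain ⟨d, hd, hdt⟩ := exists_conj_eq P.odd (P.H.sqV v hv) ht' hvt
  have h1 : d⁻¹ * g * d ∈ normalizer (D : Set G) := by
    refine hcent v hv hv1 _ ?_
    calc d⁻¹ * g * d * v = d⁻¹ * (g * (d * v * d⁻¹)) * d := by group
      _ = d⁻¹ * ((d * v * d⁻¹) * g) * d := by rw [hdt, hg]
      _ = _ := by group
  have h2 : g = d * (d⁻¹ * g * d) * d⁻¹ := by group
  rw [h2]
  exact mul_mem (mul_mem (le_normalizer hd) h1) (inv_mem (le_normalizer hd))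

end main

/-- the data for `D = DD A V` from `Elem` -/
theorem dhyp {A T Z : Subgroup G} {ρ i h : G} (E : Elem A T Z ρ i h) (hstd : Std A)
    (h4 : 4 ≤ Nat.card (T ⊓ centralizer (A : Set G) : Subgroup G))
    (hF : Nat.card F = 8) (R : SzRel.Rel ↥A F) (hR : R.T.map A.subtype = T ⊓ A) :
    DHyp R (T ⊓ centralizer (A : Set G)) T (CoreD.DD A (T ⊓ centralizer (A : Set G))) where
  H := E.cfg hstd hF R hR
  simple := hstd.sz.1
  odd := CoreD.odd_DD (E.cfg hstd hF R hR) hstd.ti E.h_norm E.h_not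
  cent := CoreD.DD_le
  T_le := le_normalizer.trans (CoreD.norm_T_le (E.cfg hstd hF R hR))
  two_T := E.two
  mul := fun _ ht ht1 _ hxt hx => CoreD.exists_mul (E.cfg hstd hF R hR)
    (fun _ hQ hQA hle => E.max_cent hQ hQA hle) h4 E.h_norm E.h_not ht ht1 hxt hx

/-- **`|V| = 4`**: `D` of odd order, `A` centralises `D`, `Core (N_G(D)/D)`, and the covering situation as soon as
`N_G(D)/D` is simple. -/
theorem exists_cov {A T Z : Subgroup G} {ρ i h : G} (E : Elem A T Z ρ i h) (hstd : Std A)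
    (h4 : Nat.card (T ⊓ centralizer (A : Set G) : Subgroup G) = 4)
    (hF : Nat.card F = 8) (R : SzRel.Rel ↥A F) (hw : RelW R) :
    ∃ (D : Subgroup G) (C : RuB.Core (↥(normalizer (D : Set G)) ⧸ D.subgroupOf (normalizer (D : Set G)))),
      ¬ 2 ∣ Nat.card D ∧ D ≤ centralizer (A : Set G) ∧
      (C.R.w : ↥(normalizer (D : Set G)) ⧸ D.subgroupOf (normalizer (D : Set G))) * (C.U 1 0)⁻¹ * C.R.w * C.U 1 0 =
        C.z 1 * C.R.w ∧
      (IsSimpleGroup (↥(normalizer (D : Set G)) ⧸ D.subgroupOf (normalizer (D : Set G))) →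
        RuC.Cov C (normalizer (D : Set G)) (QuotientGroup.mk' (D.subgroupOf (normalizer (D : Set G))))) := by
  obtain ⟨a, ha⟩ := exists_rel_map hF R (S := T ⊓ A) inf_le_right E.L.card_S
  have P := dhyp E hstd h4.ge hF _ ha
  have hhD : h ∈ normalizer (CoreD.DD A (T ⊓ centralizer (A : Set G)) : Set G) := CoreD.norm_T_le P.H E.h_norm
  obtain ⟨C, hC1, hC2, hC3⟩ := CoreQ.exists_core_hw P h4 E.h_norm E.h_not hhD (hw.map (MulAut.conj a))
  refine ⟨_, C, P.odd, P.cent, hC3, fun hs => ?_⟩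
  exact {
    surj := QuotientGroup.mk'_surjective _
    odd := card_ker P
    comm := comm_of_simple P hs
    cent := fun t ht a ha hta g hg => by
      refine cent_lift P (fun t ht ht1 g hg => CoreD.cent_le P.H (fun _ hQ hQA hle => E.max_cent hQ hQA hle)
        h4.ge E.h_norm E.h_not ht ht1 hg) ht ?_ ?_ hg
      · show π _ t ∈ _
        have : π _ t = C.v a := hta
        rw [this]
        exact hC2 a
      · have : π _ t = C.v a := hta
        rw [this]
        exact fun h1 => ha (C.v_eq_one h1) }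

/-- **`|V| = 8`**: `Core8 (N_G(D)/D)` for some `D`. -/
theorem exists_core8 {A T Z : Subgroup G} {ρ i h : G} (E : Elem A T Z ρ i h) (hstd : Std A)
    (h8 : Nat.card (T ⊓ centralizer (A : Set G) : Subgroup G) = 8) :
    ∃ D : Subgroup G, Nonempty (Ru8.Core8 (↥(normalizer (D : Set G)) ⧸ D.subgroupOf (normalizer (D : Set G)))) := by
  have hsz := hstd.sz
  obtain ⟨_, F, iF, iF', hF, ⟨R⟩⟩ := hsz
  have hF' : Nat.card F = 8 := by rw [Nat.card_eq_fintype_card, hF]
  obtain ⟨a, ha⟩ := exists_rel_map hF' R (S := T ⊓ A) inf_le_right E.L.card_S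
  have P := dhyp E hstd (by omega) hF' _ ha
  have hhD : h ∈ normalizer (CoreD.DD A (T ⊓ centralizer (A : Set G)) : Set G) := CoreD.norm_T_le P.H E.h_norm
  exact ⟨_, CoreQ.exists_core8 P h8 E.h_norm E.h_not hhD⟩

end Cfsg.Agent.RuRed.CoreCov
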