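import Mathlib
import Cfsg.Agent.RuRed.PairMain
import Cfsg.Agent.RuRed.CtxSz
import Cfsg.Agent.RuB.K8

/-!
# The reduction from the literal hypotheses

`A` standard in `G`, `A ≃* Sz F 4`, `|F| = 8`, `O(G) = 1`, `A` not normal: then `Elem A T Z ρ i h` for some
`T, Z, ρ, i, h` (the Sylow 2-subgroup of `C_G(A)` is elementary abelian of order at most 8, …).
-/

set_option autoImplicit false
set_option linter.unusedSectionVars false

open scoped commutatorElement Pointwise

namespace Cfsg.Agent.RuRed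

open Subgroup
open Cfsg.Agent.ThreePrime

/-- change of the field of a parametrisation -/
def mapField {J : Type*} [Group J] {F F' : Type*} [Field F] [Field F'] (R : SzRel.Rel J F) (f : F' ≃+* F) :
    SzRel.Rel J F' where
  θ := (f.symm : F →+* F').comp (R.θ.comp (f : F' →+* F))
  two := by
    apply f.injective
    rw [map_ofNat, map_zero]
    exact R.two
  sq x := by
    apply f.injective
    simp only [RingHom.comp_apply, RingHom.coe_coe, RingEquiv.apply_symm_apply, map_pow]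
    exact R.sq (f x)
  u a b := R.u (f a) (f b)
  d k := R.d (Units.map (f : F' →* F) k)
  w := R.w
  u_mul a b c e := by
    rw [R.u_mul]
    congr 1
    · rw [map_add]
    · simp only [RingHom.comp_apply, RingHom.coe_coe, map_add, map_mul, RingEquiv.apply_symm_apply]
  u_inj h := ⟨f.injective (R.u_inj h).1, f.injective (R.u_inj h).2⟩
  d_mul k l := by rw [R.d_mul, map_mul]
  d_mul_u k a b := by
    rw [R.d_mul_u]
    congr 1
    simp only [RingHom.comp_apply, RingHom.coe_coe, map_mul, map_pow, map_inv₀, RingEquiv.apply_symm_apply,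
      Units.coe_map, MonoidHom.coe_coe]
  w_mul_w := R.w_mul_w
  w_mul_d k := by rw [R.w_mul_d, map_inv]
  ud_inj h := by
    obtain ⟨h1, h2, h3⟩ := R.ud_inj h
    refine ⟨f.injective h1, f.injective h2, ?_⟩
    apply Units.ext
    apply f.injective
    exact congrArg Units.val h3
  w_ne a b k := R.w_ne _ _ _
  bruhat g := by
    have hk : ∀ k : Fˣ, ∃ l : F'ˣ, Units.map (f : F' →* F) l = k := by
      intro k
      refine ⟨Units.map (f.symm : F →* F') k, ?_⟩
      apply Units.ext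
      simp
    rcases R.bruhat g with ⟨a, b, k, h⟩ | ⟨a, b, c, e, k, h⟩
    · left
      obtain ⟨l, rfl⟩ := hk k
      exact ⟨f.symm a, f.symm b, l, by rw [h]; simp⟩
    · right
      obtain ⟨l, rfl⟩ := hk k
      exact ⟨f.symm a, f.symm b, f.symm c, f.symm e, l, by rw [h]; simp⟩
  inter a b c e k h := by
    obtain ⟨h1, h2⟩ := R.inter _ _ _ _ _ h
    exact ⟨(map_eq_zero f).mp h1, (map_eq_zero f).mp h2⟩

/-- a parametrisation of `J ≃* Sz F 4`, `|F| = 8`, over the concrete field `K8` -/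
theorem exists_rel_K8 {J : Type*} [Group J] {F : Type*} [Field F] [Fintype F] (hF : Fintype.card F = 8)
    (e : J ≃* ↥(Cfsg.Lie.Sz F 4)) : Nonempty (SzRel.Rel J RuB.K8) := by
  have hc : Fintype.card F = 2 ^ (2 * 1 + 1) := by rw [hF]; norm_num
  have R0 : SzRel.Rel ↥(Cfsg.Lie.Sz F 4) F := SzRel.ofGood (LieRecognition.SzMatrix.good hc)
  have f : RuB.K8 ≃+* F := FiniteField.ringEquivOfCardEq (by rw [RuB.K8.card, hF])
  exact ⟨mapField (R0.map e.symm) f⟩

/-- `IsSz8` from the literal hypotheses -/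
theorem isSz8_of {G : Type*} [Group G] [Finite G] {A : Subgroup G} (hA : Cfsg.IsStandardSubgroup A)
    {F : Type*} [Field F] [Fintype F] (hF : Fintype.card F = 8) (hAX : Nonempty (↥A ≃* ↥(Cfsg.Lie.Sz F 4))) :
    IsSz8 A := by
  obtain ⟨e⟩ := hAX
  obtain ⟨R⟩ := exists_rel_K8 hF e
  exact ⟨CtxSz.isSimple hA.1 R, RuB.K8, inferInstance, inferInstance, RuB.K8.card, ⟨R⟩⟩

variable {G : Type*} [Group G]

theorem IsSz8.conj {A : Subgroup G} (h : IsSz8 A) (x : G) : IsSz8 (A.map (MulAut.conj x).toMonoidHom) := by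
  obtain ⟨h1, F, i1, i2, h2, ⟨R⟩⟩ := h
  let e : ↥A ≃* ↥(A.map (MulAut.conj x).toMonoidHom) :=
    A.equivMapOfInjective (MulAut.conj x).toMonoidHom (MulAut.conj x).injective
  have : Nontrivial ↥(A.map (MulAut.conj x).toMonoidHom) := e.symm.toEquiv.nontrivial
  exact ⟨IsSimpleGroup.isSimpleGroup_of_surjective e.toMonoidHom e.surjective, F, i1, i2, h2, ⟨R.map e⟩⟩

theorem mem_norm_map_conj [Finite G] {A : Subgroup G} {x y : G} (h : x⁻¹ * y * x ∈ normalizer (A : Set G)) :
    y ∈ normalizer (A.map (MulAut.conj x).toMonoidHom : Set G) := by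
  refine mem_norm_of_conj_le fun a ha => ?_
  rw [mem_map_conj] at ha ⊢
  have h1 := conj_mem_of_norm h ha
  have e : x⁻¹ * (y * a * y⁻¹) * x = x⁻¹ * y * x * (x⁻¹ * a * x) * (x⁻¹ * y * x)⁻¹ := by group
  rw [e]
  exact h1

/-- the family of conjugates of a standard `Sz(8)` -/
theorem fam_of_standard [Finite G] {A : Subgroup G} (hA : Cfsg.IsStandardSubgroup A) (hsz : IsSz8 A) :
    Fam {B | ∃ x : G, B = A.map (MulAut.conj x).toMonoidHom} := by
  have : Fact (Nat.Prime 2) := ⟨Nat.prime_two⟩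
  have hstd : ∀ x : G, Std (A.map (MulAut.conj x).toMonoidHom) := by
    intro x
    refine ⟨hsz.conj x, ?_, ?_⟩
    · intro g k hk hk2 hg
      rw [mem_cent_map_conj] at hk hg
      apply mem_norm_map_conj
      refine CtxSz.tight hA (x⁻¹ * g * x) (x⁻¹ * k * x) hk ?_ ?_
      · have e : x⁻¹ * k * x = x⁻¹ * k * x⁻¹⁻¹ := by rw [inv_inv]
        rw [e, SC.orderOf_conj', hk2]
      · have e : x⁻¹ * g * x * (x⁻¹ * k * x) * (x⁻¹ * g * x)⁻¹ = x⁻¹ * (g * k * g⁻¹) * x := by group
        rw [e]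
        exact hg
    · have h2 : 2 ∣ Nat.card ↥(centralizer (A : Set G)) := even_iff_two_dvd.1 hA.2.1.1
      obtain ⟨⟨k, hk⟩, hk2⟩ := exists_prime_orderOf_dvd_card' 2 h2
      have hk2' : orderOf k = 2 := by rw [← hk2, ← Subgroup.orderOf_coe]
      refine ⟨x * k * x⁻¹, ?_, by rw [SC.orderOf_conj', hk2']⟩
      rw [mem_cent_map_conj]
      have e : x⁻¹ * (x * k * x⁻¹) * x = k := by group
      rw [e]
      exact hk
  constructor
  · rintro _ ⟨y, rfl⟩ x
    refine ⟨x * y, ?_⟩
    ext g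
    rw [mem_map_conj, mem_map_conj, mem_map_conj]
    have e : y⁻¹ * (x⁻¹ * g * x) * y = (x * y)⁻¹ * g * (x * y) := by group
    rw [e]
  · rintro _ ⟨x, rfl⟩ _ ⟨y, rfl⟩ hne
    -- the conjugate by `x⁻¹ y` is different
    have hne' : A.map (MulAut.conj (x⁻¹ * y)).toMonoidHom ≠ A := by
      intro h
      apply hne
      ext g
      rw [mem_map_conj, mem_map_conj]
      have h1 := SetLike.ext_iff.1 h (x⁻¹ * g * x)
      rw [mem_map_conj] at h1
      have e : (x⁻¹ * y)⁻¹ * (x⁻¹ * g * x) * (x⁻¹ * y) = y⁻¹ * g * y := by group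
      rw [e] at h1
      exact h1.symm
    refine ⟨hstd x, hstd y, ?_, ?_⟩
    · intro k hk hk' hk2
      rw [mem_cent_map_conj] at hk hk'
      have h1 : (y⁻¹ * x) ∈ normalizer (A : Set G) := by
        refine CtxSz.tight hA (y⁻¹ * x) (x⁻¹ * k * x) hk ?_ ?_
        · have e : x⁻¹ * k * x = x⁻¹ * k * x⁻¹⁻¹ := by rw [inv_inv]
          rw [e, SC.orderOf_conj', hk2]
        · have e : y⁻¹ * x * (x⁻¹ * k * x) * (y⁻¹ * x)⁻¹ = y⁻¹ * k * y := by group
          rw [e]
          exact hk'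
      apply hne'
      have h2 : x⁻¹ * y ∈ normalizer (A : Set G) := by
        have := inv_mem h1
        rwa [mul_inv_rev, inv_inv] at this
      ext g
      rw [mem_map_conj]
      have h3 := (mem_normalizer_iff.1 (inv_mem h2) g)
      rw [inv_inv] at h3
      exact h3.symm
    · intro h
      apply hA.2.2.1 (x⁻¹ * y) hne'
      rw [eq_bot_iff, commutator_le]
      rintro a ha b hb
      rw [mem_map_conj] at hb
      have h1 : x * b * x⁻¹ ∈ A.map (MulAut.conj y).toMonoidHom := by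
        rw [mem_map_conj]
        have e : y⁻¹ * (x * b * x⁻¹) * y = (x⁻¹ * y)⁻¹ * b * (x⁻¹ * y) := by group
        rw [e]
        exact hb
      have h2 := h h1
      rw [mem_cent_map_conj] at h2
      have e : x⁻¹ * (x * b * x⁻¹) * x = b := by group
      rw [e] at h2
      rw [mem_bot, commutatorElement_eq_one_iff_mul_comm]
      exact (comm_of_cent h2 ha).symm

/-- **The reduction**: `A` standard, `A ≅ Sz(8)`, `O(G) = 1`, `A` not normal. -/
theorem exists_elem_of_standard [Finite G] (hO : Cfsg.oddCore G = ⊥) {A : Subgroup G}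
    (hA : Cfsg.IsStandardSubgroup A) {F : Type*} [Field F] [Fintype F] (hF : Fintype.card F = 8)
    (hAX : Nonempty (↥A ≃* ↥(Cfsg.Lie.Sz F 4))) (hN : ¬ A.Normal) :
    ∃ T Z : Subgroup G, ∃ ρ i h : G, Elem A T Z ρ i h := by
  have hsz := isSz8_of hA hF hAX
  have hfam := fam_of_standard hA hsz
  obtain ⟨e⟩ := hAX
  obtain ⟨Rl⟩ := exists_rel_K8 hF e
  obtain ⟨R, hctx⟩ := CtxSz.exists_ctx hA RuB.K8.card Rl
  by_cases hSC : ∀ g t : G, t ∈ centralizer (A : Set G) → orderOf t = 2 →
      g * t * g⁻¹ ∈ normalizer (A : Set G) → g * t * g⁻¹ ∈ centralizer (A : Set G)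
  · exact (hN (hctx.normal hSC hO)).elim
  · push Not at hSC
    obtain ⟨g, t, ht, ht2, h1, h2⟩ := hSC
    have hAmem : A ∈ {B | ∃ x : G, B = A.map (MulAut.conj x).toMonoidHom} := by
      refine ⟨1, ?_⟩
      ext y
      rw [mem_map_conj, inv_one, one_mul, mul_one]
    refine hfam.exists_elem hAmem (g := g) (y := g * t * g⁻¹) ?_ ?_ (by rw [SC.orderOf_conj', ht2]) h1
    · intro hg
      exact h2 (conj_mem_cent hg ht)
    · rw [mem_cent_map_conj]
      have e : g⁻¹ * (g * t * g⁻¹) * g = t := by group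
      rw [e]
      exact ht

end Cfsg.Agent.RuRed
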