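import Mathlib
import Cfsg.Agent.RuRed.Literal
import Cfsg.Agent.RuRed.CoreCov
import Cfsg.Agent.Ru127.Bridge
import Cfsg.Agent.RuC.Trans
import Cfsg.Agent.StrongEmb.TwoRank

/-!
# S1768 from the recognition of the `Core` groups

Three hypotheses: `main` (a finite group with a `Core` is the Rudvalis group), `eqtop` (the covering situation is
trivial), `false8` (no `Core8`).
-/

set_option autoImplicit false
set_option linter.unusedSectionVars false

universe u

namespace Cfsg.Agent.RuRed.Final768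

open Subgroup
open Cfsg.Agent.ThreePrime Cfsg.Agent.RuRed

/-- `Std A` from the literal hypotheses -/
theorem std_of {G : Type*} [Group G] [Finite G] {A : Subgroup G} (hA : Cfsg.IsStandardSubgroup A)
    (hsz : IsSz8 A) : Std A := by
  have : Fact (Nat.Prime 2) := ⟨Nat.prime_two⟩
  refine ⟨hsz, fun x k hk hk2 hx => CtxSz.tight hA x k hk hk2 hx, ?_⟩
  have h2 : 2 ∣ Nat.card ↥(centralizer (A : Set G)) := even_iff_two_dvd.1 hA.2.1.1
  obtain ⟨⟨k, hk⟩, hk2⟩ := exists_prime_orderOf_dvd_card' 2 h2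
  exact ⟨k, hk, by rw [← hk2, ← Subgroup.orderOf_coe]⟩

/-- the order of `R` from the 2-rank of `C_G(A)` -/
theorem card_R {G : Type*} [Group G] [Finite G] {A T Z : Subgroup G} {ρ i h : G} (E : Elem A T Z ρ i h)
    (hR : ¬ Cfsg.PRankLE 2 1 ↥(centralizer (A : Set G))) :
    Nat.card (T ⊓ centralizer (A : Set G) : Subgroup G) = 4 ∨
      Nat.card (T ⊓ centralizer (A : Set G) : Subgroup G) = 8 := by
  have : Fact (Nat.Prime 2) := ⟨Nat.prime_two⟩
  have h2 : IsPGroup 2 (T ⊓ centralizer (A : Set G) : Subgroup G) := E.two.to_le inf_le_left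
  have hgt : 2 < Nat.card (T ⊓ centralizer (A : Set G) : Subgroup G) := by
    unfold Cfsg.PRankLE at hR
    push Not at hR
    obtain ⟨B, hBc, hB2, hB⟩ := hR
    have h3 : IsPGroup 2 (B.map (centralizer (A : Set G)).subtype) := by
      rintro ⟨_, b, hb, rfl⟩
      refine ⟨1, Subtype.ext ?_⟩
      show ((centralizer (A : Set G)).subtype b) ^ 2 ^ 1 = 1
      rw [pow_one, ← map_pow, hB2 b hb, map_one]
    obtain ⟨d, hd, hdB⟩ := conj_into (D := centralizer (A : Set G)) h2 inf_le_right
      (fun Q hQ hQA hle => E.max_cent hQ hQA hle) h3 (map_subtype_le _)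
    have h4 : Nat.card B ≤ Nat.card (T ⊓ centralizer (A : Set G) : Subgroup G) := by
      refine Nat.card_le_card_of_injective
        (fun b : B => (⟨d * ((b : ↥(centralizer (A : Set G))) : G) * d⁻¹,
          hdB _ ⟨b, b.2, rfl⟩⟩ : (T ⊓ centralizer (A : Set G) : Subgroup G))) ?_
      intro b c hbc
      have h5 : d * ((b : ↥(centralizer (A : Set G))) : G) * d⁻¹ =
        d * ((c : ↥(centralizer (A : Set G))) : G) * d⁻¹ := congrArg Subtype.val hbc
      have h6 : ((b : ↥(centralizer (A : Set G))) : G) = ((c : ↥(centralizer (A : Set G))) : G) := by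
        have h7 := mul_right_cancel h5
        exact mul_left_cancel h7
      exact Subtype.ext (Subtype.ext h6)
    rw [pow_one] at hB
    exact lt_of_lt_of_le hB h4
  obtain ⟨k, hk⟩ := IsPGroup.iff_card.1 h2
  have hle := E.card_le
  rw [hk] at hgt hle ⊢
  have hk1 : 2 ≤ k := by
    by_contra hlt
    have : k ≤ 1 := by omega
    have : 2 ^ k ≤ 2 ^ 1 := Nat.pow_le_pow_right (by norm_num) this
    omega
  have hk3 : k ≤ 3 := by
    by_contra hlt
    have : 4 ≤ k := by omega
    have : 2 ^ 4 ≤ 2 ^ k := Nat.pow_le_pow_right (by norm_num) this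
    omega
  have : k = 2 ∨ k = 3 := by omega
  rcases this with rfl | rfl
  · left; norm_num
  · right; norm_num

/-- the isomorphism `G ≃* N(⊥)/⊥` -/
theorem equiv_of {G : Type*} [Group G] {D : Subgroup G} (hD : D = ⊥) (hN : normalizer (D : Set G) = ⊤) :
    Nonempty (G ≃* ↥(normalizer (D : Set G)) ⧸ D.subgroupOf (normalizer (D : Set G))) := by
  have hmem : ∀ g : G, g ∈ normalizer (D : Set G) := fun g => by rw [hN]; trivial
  let f : G →* ↥(normalizer (D : Set G)) ⧸ D.subgroupOf (normalizer (D : Set G)) :=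
    (QuotientGroup.mk' _).comp
      { toFun := fun g => ⟨g, hmem g⟩
        map_one' := rfl
        map_mul' := fun _ _ => rfl }
  refine ⟨MulEquiv.ofBijective f ⟨?_, ?_⟩⟩
  · rw [injective_iff_map_eq_one]
    intro g hg
    have h1 : (⟨g, hmem g⟩ : ↥(normalizer (D : Set G))) ∈ D.subgroupOf (normalizer (D : Set G)) :=
      (QuotientGroup.eq_one_iff _).1 hg
    have h2 : g ∈ D := h1
    rw [hD, mem_bot] at h2
    exact h2
  · intro y
    obtain ⟨x, rfl⟩ := QuotientGroup.mk'_surjective _ y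
    exact ⟨x, rfl⟩

/-- **S1768** from `main`, `eqtop`, `false8`. -/
theorem result_of
    (main : ∀ (K : Type u) [Group K] [Finite K] (C : RuB.Core K), Ru127.Sg.Rel C → Cfsg.Spor.IsoRu K)
    (eqtop : ∀ (G K : Type u) [Group G] [Finite G] [Group K] [Finite K] (C : RuB.Core K) (_ : Ru127.Sg.Rel C)
      (M : Subgroup G) (φ : M →* K), RuC.Cov C M φ → M = ⊤)
    (false8 : ∀ (K : Type u) [Group K] [Finite K], Ru8.Core8 K → False)
    {G : Type u} [Group G] [Finite G] (hO : Cfsg.oddCore G = ⊥)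
    (A : Subgroup G) (hA : Cfsg.IsStandardSubgroup A) {F : Type*} [Field F] [Fintype F] (hF : Fintype.card F = 8)
    (hAX : Nonempty (↥A ≃* ↥(Cfsg.Lie.Sz F 4))) (hR : ¬ Cfsg.PRankLE 2 1 ↥(Subgroup.centralizer (A : Set G))) :
    A.Normal ∨ Cfsg.Spor.IsoRu ↥(Subgroup.normalClosure (A : Set G)) := by
  by_cases hN : A.Normal
  · exact Or.inl hN
  right
  obtain ⟨T, Z, ρ, i, h, E⟩ := exists_elem_of_standard hO hA hF hAX hN
  have hstd := std_of hA (isSz8_of hA hF hAX)
  rcases card_R E hR with h4 | h8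
  · have hc : Fintype.card F = 2 ^ (2 * 1 + 1) := by rw [hF]; norm_num
    have hF' : Nat.card F = 8 := by rw [Nat.card_eq_fintype_card, hF]
    obtain ⟨e⟩ := hAX
    have hw : RelW ((SzRel.ofGood (LieRecognition.SzMatrix.good hc)).map e.symm) :=
      (RelW.ofGood (LieRecognition.SzMatrix.good hc)).map e.symm
    obtain ⟨D, C, hD2, hDA, hrel, hcov⟩ := CoreCov.exists_cov E hstd h4 hF' _ hw
    have hr : Ru127.Sg.Rel C := Ru127.Bridge.rel_of hrel
    have hRu := main _ C hr
    have hsK := RuC.Trans.isSimple_of_isoRu hRu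
    have htop := eqtop _ _ C hr _ _ (hcov hsK)
    have hDn : D.Normal := normalizer_eq_top_iff.1 htop
    have hDbot : D = ⊥ := by
      rw [eq_bot_iff, ← hO]
      refine StrongEmb.TwoRank.le_oddCore hDn ?_
      rw [← Nat.not_even_iff_odd, even_iff_two_dvd]
      exact hD2
    obtain ⟨f⟩ := equiv_of hDbot htop
    obtain ⟨g⟩ := hRu
    have hRuG : Cfsg.Spor.IsoRu G := ⟨f.trans g⟩
    have hsG : IsSimpleGroup G := RuC.Trans.isSimple_of_isoRu hRuG
    have hcl : Subgroup.normalClosure (A : Set G) = ⊤ := by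
      refine (Subgroup.normalClosure_normal (s := (A : Set G))).eq_bot_or_eq_top.resolve_left (fun hb => ?_)
      have h1 : A ≤ ⊥ := by
        rw [← hb]; exact Subgroup.subset_normalClosure
      have h2 : A = ⊥ := le_bot_iff.1 h1
      apply hN
      rw [h2]
      infer_instance
    rw [hcl]
    exact ⟨Subgroup.topEquiv.trans (f.trans g)⟩
  · obtain ⟨D, ⟨C⟩⟩ := CoreCov.exists_core8 E hstd h8
    exact (false8 _ C).elim

end Cfsg.Agent.RuRed.Final768
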