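import Mathlib
import Cfsg.Agent.RuRed.CtxSz
import Cfsg.Agent.RuRed.SzRelMore
import Cfsg.Agent.StandardComponent.AltFinal

/-!
# Standard `Sz(q)` whose centralizer has 2-rank one and nonabelian Sylow 2-subgroups

If the Sylow 2-subgroup `R` of `C_G(A)` is not abelian and has only one involution `t`, then `t` is fixed by
`N_G(T)`, `T = R × S`, so `T` is a Sylow 2-subgroup of `G` and `t` is isolated in `T`, which is impossible in a
non-abelian simple group.
-/

set_option autoImplicit false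
set_option linter.unusedSectionVars false
set_option linter.style.haveILetI false

open scoped commutatorElement

namespace Cfsg.Agent.RuRed.RankOne

open Subgroup Cfsg.Agent.ThreePrime

variable {G : Type*} [Group G] {A S R : Subgroup G} {F : Type*} [Field F]

theorem split_eq (C : SC.Ctx A S R) {r r' s s' : G} (hr : r ∈ R) (hr' : r' ∈ R) (hs : s ∈ S) (hs' : s' ∈ S)
    (h : r * s = r' * s') : r = r' ∧ s = s' := by
  have h1 : r'⁻¹ * r = s' * s⁻¹ := by
    calc r'⁻¹ * r = r'⁻¹ * (r * s) * s⁻¹ := by group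
      _ = s' * s⁻¹ := by rw [h]; group
  have h2 : s' * s⁻¹ = 1 := C.inf _ (C.S_le (mul_mem hs' (inv_mem hs)))
    (by rw [← h1]; exact C.R_le (mul_mem (inv_mem hr') hr))
  have h3 : s = s' := (mul_inv_eq_one.1 h2).symm
  rw [h2] at h1
  exact ⟨(inv_mul_eq_one.1 h1).symm, h3⟩

/-- the multiplication in `T = R × S` -/
theorem mul_split (C : SC.Ctx A S R) {r r' s s' : G} (hr' : r' ∈ R) (hs : s ∈ S) :
    (r * s) * (r' * s') = (r * r') * (s * s') := by
  have h := C.comm (C.R_le hr') (C.S_le hs)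
  calc (r * s) * (r' * s') = r * (s * r') * s' := by group
    _ = r * (r' * s) * s' := by rw [h]
    _ = _ := by group

theorem commute_split (C : SC.Ctx A S R) {r r' s s' : G} (hr : r ∈ R) (hr' : r' ∈ R) (hs : s ∈ S) (hs' : s' ∈ S)
    (h : (r * s) * (r' * s') = (r' * s') * (r * s)) : r * r' = r' * r ∧ s * s' = s' * s := by
  rw [mul_split C hr' hs, mul_split C hr hs'] at h
  exact split_eq C (mul_mem hr hr') (mul_mem hr' hr) (mul_mem hs hs') (mul_mem hs' hs) h

theorem fst_cases (Rl : SzRel.Rel A F) {a c : F} (hc : c ≠ 0) (h : a * Rl.θ c = c * Rl.θ a) :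
    a = 0 ∨ a = c := by
  have h1 : Rl.θ (a / c) = a / c := by
    have hc' : Rl.θ c ≠ 0 := by
      intro h0
      exact hc (Rl.θ.injective (by rw [h0, map_zero]))
    rw [map_div₀, div_eq_div_iff hc' hc]
    rw [mul_comm, ← h]
  rcases Rl.fix_theta h1 with h2 | h2
  · left
    rcases div_eq_zero_iff.1 h2 with h3 | h3
    · exact h3
    · exact absurd h3 hc
  · right
    rwa [div_eq_one_iff_eq hc] at h2

/-- an element of `T` with `S`-component `u a b` -/
def Fst (R : Subgroup G) (Rl : SzRel.Rel A F) (x : G) (a : F) : Prop := ∃ r ∈ R, ∃ b : F, x = r * ((Rl.u a b : A) : G)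

theorem Fst.mul (C : SC.Ctx A S R) (Rl : SzRel.Rel A F) {x y : G} {a c : F} (hx : Fst R Rl x a)
    (hy : Fst R Rl y c) : Fst R Rl (x * y) (a + c) := by
  obtain ⟨r, hr, b, rfl⟩ := hx
  obtain ⟨r', hr', d, rfl⟩ := hy
  refine ⟨r * r', mul_mem hr hr', b + d + a * Rl.θ c, ?_⟩
  have h := C.comm (C.R_le hr') (Rl.u a b).2
  rw [← Rl.u_mul]
  push_cast
  calc (r * ((Rl.u a b : A) : G)) * (r' * ((Rl.u c d : A) : G)) =
      r * (((Rl.u a b : A) : G) * r') * ((Rl.u c d : A) : G) := by group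
    _ = r * (r' * ((Rl.u a b : A) : G)) * ((Rl.u c d : A) : G) := by rw [h]
    _ = _ := by group

theorem Fst.unique (C : SC.Ctx A S R) (Rl : SzRel.Rel A F) {x : G} {a c : F} (hx : Fst R Rl x a)
    (hy : Fst R Rl x c) : a = c := by
  obtain ⟨r, hr, b, rfl⟩ := hx
  obtain ⟨r', hr', d, h⟩ := hy
  have h1 : r'⁻¹ * r = ((Rl.u c d : A) : G) * ((Rl.u a b : A) : G)⁻¹ := by
    calc r'⁻¹ * r = r'⁻¹ * (r * ((Rl.u a b : A) : G)) * ((Rl.u a b : A) : G)⁻¹ := by group
      _ = _ := by rw [h]; group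
  have h2 : ((Rl.u c d : A) : G) * ((Rl.u a b : A) : G)⁻¹ = 1 :=
    C.inf _ (mul_mem (Rl.u c d).2 (inv_mem (Rl.u a b).2))
      (by rw [← h1]; exact C.R_le (mul_mem (inv_mem hr') hr))
  have h3 : Rl.u c d = Rl.u a b := Subtype.ext (mul_inv_eq_one.1 h2)
  exact (Rl.u_inj h3).1.symm

theorem Fst.commute (C : SC.Ctx A S R) (Rl : SzRel.Rel A F) {x y : G} {a c : F} (hx : Fst R Rl x a)
    (hy : Fst R Rl y c) (h : x * y = y * x) (hc : c ≠ 0) : a = 0 ∨ a = c := by
  obtain ⟨r, hr, b, rfl⟩ := hx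
  obtain ⟨r', hr', d, rfl⟩ := hy
  have h1 := C.comm (C.R_le hr') (Rl.u a b).2
  have h2 := C.comm (C.R_le hr) (Rl.u c d).2
  have h3 : (r * r') * ((Rl.u a b * Rl.u c d : A) : G) = (r' * r) * ((Rl.u c d * Rl.u a b : A) : G) := by
    push_cast
    calc (r * r') * (((Rl.u a b : A) : G) * ((Rl.u c d : A) : G))
        = r * (r' * ((Rl.u a b : A) : G)) * ((Rl.u c d : A) : G) := by group
      _ = r * (((Rl.u a b : A) : G) * r') * ((Rl.u c d : A) : G) := by rw [h1]
      _ = (r * ((Rl.u a b : A) : G)) * (r' * ((Rl.u c d : A) : G)) := by group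
      _ = (r' * ((Rl.u c d : A) : G)) * (r * ((Rl.u a b : A) : G)) := h
      _ = r' * (((Rl.u c d : A) : G) * r) * ((Rl.u a b : A) : G) := by group
      _ = r' * (r * ((Rl.u c d : A) : G)) * ((Rl.u a b : A) : G) := by rw [h2]
      _ = _ := by group
  have h4 : (r' * r)⁻¹ * (r * r') = ((Rl.u c d * Rl.u a b : A) : G) * ((Rl.u a b * Rl.u c d : A) : G)⁻¹ := by
    calc (r' * r)⁻¹ * (r * r') = (r' * r)⁻¹ * ((r * r') * ((Rl.u a b * Rl.u c d : A) : G)) *
        ((Rl.u a b * Rl.u c d : A) : G)⁻¹ := by group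
      _ = _ := by rw [h3]; group
  have h5 : ((Rl.u c d * Rl.u a b : A) : G) * ((Rl.u a b * Rl.u c d : A) : G)⁻¹ = 1 :=
    C.inf _ (mul_mem (Rl.u c d * Rl.u a b).2 (inv_mem (Rl.u a b * Rl.u c d).2))
      (by rw [← h4]; exact C.R_le (mul_mem (inv_mem (mul_mem hr' hr)) (mul_mem hr hr')))
  have h6 : Rl.u c d * Rl.u a b = Rl.u a b * Rl.u c d := Subtype.ext (mul_inv_eq_one.1 h5)
  exact fst_cases Rl hc ((Rl.comm_iff a b c d).1 h6.symm)

theorem comm_mem_R (C : SC.Ctx A S R) (Rl : SzRel.Rel A F) {x y : G} (hx : Fst R Rl x 0)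
    (hy : Fst R Rl y 0) : ⁅x, y⁆ ∈ R := by
  obtain ⟨r, hr, b, rfl⟩ := hx
  obtain ⟨r', hr', d, rfl⟩ := hy
  have h1 : Commute ((Rl.u 0 b : A) : G) r' := (C.comm (C.R_le hr') (Rl.u 0 b).2).symm
  have h2 : Commute r ((Rl.u 0 d : A) : G) := C.comm (C.R_le hr) (Rl.u 0 d).2
  have h3 : Commute ((Rl.u 0 b : A) : G) ((Rl.u 0 d : A) : G) := by
    have := (Rl.comm_iff 0 b 0 d).2 (by simp)
    exact congrArg Subtype.val this
  have h4 : Commute r ((Rl.u 0 b : A) : G) := C.comm (C.R_le hr) (Rl.u 0 b).2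
  have h5 : Commute r' ((Rl.u 0 d : A) : G) := C.comm (C.R_le hr') (Rl.u 0 d).2
  have h6 : ⁅r * ((Rl.u 0 b : A) : G), r' * ((Rl.u 0 d : A) : G)⁆ = ⁅r, r'⁆ := by
    have e1 : (r * ((Rl.u 0 b : A) : G)) * (r' * ((Rl.u 0 d : A) : G)) =
        (r * r') * (((Rl.u 0 b : A) : G) * ((Rl.u 0 d : A) : G)) := by
      calc (r * ((Rl.u 0 b : A) : G)) * (r' * ((Rl.u 0 d : A) : G)) =
          r * (((Rl.u 0 b : A) : G) * r') * ((Rl.u 0 d : A) : G) := by group
        _ = r * (r' * ((Rl.u 0 b : A) : G)) * ((Rl.u 0 d : A) : G) := by rw [h1.eq]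
        _ = _ := by group
    have e2 : (r' * ((Rl.u 0 d : A) : G)) * (r * ((Rl.u 0 b : A) : G)) =
        (r' * r) * (((Rl.u 0 b : A) : G) * ((Rl.u 0 d : A) : G)) := by
      calc (r' * ((Rl.u 0 d : A) : G)) * (r * ((Rl.u 0 b : A) : G)) =
          r' * (((Rl.u 0 d : A) : G) * r) * ((Rl.u 0 b : A) : G) := by group
        _ = r' * (r * ((Rl.u 0 d : A) : G)) * ((Rl.u 0 b : A) : G) := by rw [h2.eq]
        _ = (r' * r) * (((Rl.u 0 d : A) : G) * ((Rl.u 0 b : A) : G)) := by group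
        _ = _ := by rw [h3.eq]
    have e3 : ∀ x y : G, ⁅x, y⁆ = (x * y) * (y * x)⁻¹ := by
      intro x y; rw [commutatorElement_def]; group
    rw [e3, e3, e1, e2]
    group
  rw [h6]
  exact Subgroup.commutator_le_self R (Subgroup.commutator_mem_commutator hr hr')

theorem exists_fst (C : SC.Ctx A S R) (Rl : SzRel.Rel A F) (hS : S = Rl.T.map A.subtype) {x : G}
    (hx : x ∈ R ⊔ S) : ∃ a, Fst R Rl x a := by
  obtain ⟨r, hr, s, hs, rfl⟩ := C.mem_T hx
  rw [hS] at hs
  obtain ⟨y, ⟨a, b, hy⟩, rfl⟩ := hs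
  refine ⟨a, r, hr, b, ?_⟩
  rw [← hy]; rfl

/-- **Key step**: the involution of `R` is fixed by the normalizer of `T = R × S`. -/
theorem fix_t [Finite G] (C : SC.Ctx A S R) (Rl : SzRel.Rel A F) (hS : S = Rl.T.map A.subtype)
    [Finite F] (h8 : 8 ≤ Nat.card F)
    (hun : ∀ x ∈ R, ∀ y ∈ R, orderOf x = 2 → orderOf y = 2 → x = y)
    (hnc : ∃ x ∈ R, ∃ y ∈ R, x * y ≠ y * x) {t : G} (ht : t ∈ R) (ht2 : orderOf t = 2) {n : G}
    (hn : ∀ x ∈ R ⊔ S, n * x * n⁻¹ ∈ R ⊔ S) : n * t * n⁻¹ = t := by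
  classical
  have hRT : R ≤ R ⊔ S := le_sup_left
  have hST : S ≤ R ⊔ S := le_sup_right
  -- `n` normalises `T`
  have hmap : (R ⊔ S).map (MulAut.conj n).toMonoidHom = R ⊔ S := by
    refine eq_of_le_of_card_ge ?_ ?_
    · rintro _ ⟨x, hx, rfl⟩
      exact hn x hx
    · rw [Nat.card_congr ((R ⊔ S).equivMapOfInjective _ (MulAut.conj n).injective).toEquiv.symm]
  have hn' : ∀ x ∈ R ⊔ S, ∃ y ∈ R ⊔ S, x = n * y * n⁻¹ := by
    intro x hx
    rw [← hmap] at hx
    obtain ⟨y, hy, rfl⟩ := hx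
    exact ⟨y, hy, rfl⟩
  -- commutators
  have hconj : ∀ x y : G, n * ⁅x, y⁆ * n⁻¹ = ⁅n * x * n⁻¹, n * y * n⁻¹⁆ := by
    intro x y; rw [commutatorElement_def, commutatorElement_def]; group
  by_cases hX : ∀ x ∈ R, Fst R Rl (n * x * n⁻¹) 0
  · -- `R ^ n` lies in `R × Z(S)`
    have h1 : ⁅R, R⁆ ≤ R.comap (MulAut.conj n).toMonoidHom := by
      rw [Subgroup.commutator_le]
      intro x hx y hy
      change n * ⁅x, y⁆ * n⁻¹ ∈ R
      rw [hconj]
      exact comm_mem_R C Rl (hX x hx) (hX y hy)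
    -- `t ∈ ⁅R, R⁆`
    have h2 : t ∈ ⁅R, R⁆ := by
      have hR2 : IsPGroup 2 (⁅R, R⁆ : Subgroup G) :=
        (C.two.to_le hRT).to_le (Subgroup.commutator_le_self R)
      have hne : (⁅R, R⁆ : Subgroup G) ≠ ⊥ := by
        obtain ⟨x, hx, y, hy, hxy⟩ := hnc
        intro h
        have h3 := Subgroup.commutator_mem_commutator hx hy
        rw [h, mem_bot, commutatorElement_eq_one_iff_mul_comm] at h3
        exact hxy h3
      haveI : Nontrivial (⁅R, R⁆ : Subgroup G) := (nontrivial_iff_ne_bot _).2 hne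
      haveI : Fact (Nat.Prime 2) := ⟨Nat.prime_two⟩
      obtain ⟨k, hk0, hk⟩ := (hR2.nontrivial_iff_card).1 inferInstance
      obtain ⟨⟨s, hs⟩, hs2⟩ := exists_prime_orderOf_dvd_card' (G := (⁅R, R⁆ : Subgroup G)) 2
        (by rw [hk]; exact dvd_pow_self 2 (by omega))
      rw [← Subgroup.orderOf_coe] at hs2
      have h3 := hun s (Subgroup.commutator_le_self R hs) t ht hs2 ht2
      have hs2' : s ∈ (⁅R, R⁆ : Subgroup G) := hs
      rw [h3] at hs2'
      exact hs2'
    exact hun (n * t * n⁻¹) (h1 h2) t ht (by rw [SC.orderOf_conj']; exact ht2) ht2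
  · exfalso
    push Not at hX
    obtain ⟨x, hx, hx0⟩ := hX
    obtain ⟨c, hc⟩ := exists_fst C Rl hS (hn x (hRT hx))
    have hc0 : c ≠ 0 := by rintro rfl; exact hx0 hc
    -- elements of `S ^ n` commute with `x ^ n`
    have hY : ∀ y ∈ S, Fst R Rl (n * y * n⁻¹) 0 ∨ Fst R Rl (n * y * n⁻¹) c := by
      intro y hy
      obtain ⟨a, ha⟩ := exists_fst C Rl hS (hn y (hST hy))
      have h1 := C.comm (C.R_le hx) (C.S_le hy)
      have h2 : (n * y * n⁻¹) * (n * x * n⁻¹) = (n * x * n⁻¹) * (n * y * n⁻¹) := by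
        calc (n * y * n⁻¹) * (n * x * n⁻¹) = n * (y * x) * n⁻¹ := by group
          _ = n * (x * y) * n⁻¹ := by rw [h1]
          _ = _ := by group
      rcases ha.commute C Rl hc h2 hc0 with h | h
      · left; rw [← h]; exact ha
      · right; rw [← h]; exact ha
    by_cases hY0 : ∀ y ∈ S, Fst R Rl (n * y * n⁻¹) 0
    · -- `S ^ n` lies in `R × Z(S)`: the commutators of `S ^ n` lie in `R`
      have hmemS : ∀ a b, ((Rl.u a b : A) : G) ∈ S := fun a b => by
        rw [hS]; exact ⟨_, Rl.u_mem a b, rfl⟩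
      have h1 : ∀ z : A, z ∈ Rl.Z → n * (z : G) * n⁻¹ ∈ R := by
        intro z hz
        rw [Rl.Z_eq h8] at hz
        have h2 : (⁅Rl.T, Rl.T⁆ : Subgroup A) ≤ (R.comap (MulAut.conj n).toMonoidHom).comap A.subtype := by
          rw [Subgroup.commutator_le]
          intro y hy y' hy'
          change n * ((⁅y, y'⁆ : A) : G) * n⁻¹ ∈ R
          have h3 : ((⁅y, y'⁆ : A) : G) = ⁅(y : G), (y' : G)⁆ := rfl
          rw [h3, hconj]
          refine comm_mem_R C Rl (hY0 _ ?_) (hY0 _ ?_)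
          · rw [hS]; exact ⟨_, hy, rfl⟩
          · rw [hS]; exact ⟨_, hy', rfl⟩
        exact h2 hz
      -- two different involutions of `Z`
      obtain ⟨e, he0, he1⟩ : ∃ e : F, e ≠ 0 ∧ e ≠ 1 := by
        by_contra hcon
        push Not at hcon
        have h2 : (Set.univ : Set F) ⊆ {0, 1} := by
          intro e _
          by_cases he : e = 0
          · left; exact he
          · right; exact hcon e he
        have h3 := Set.ncard_le_ncard h2 (by simp)
        rw [Set.ncard_univ] at h3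
        have h4 : ({0, 1} : Set F).ncard ≤ 2 := by
          have := Set.ncard_insert_le (0 : F) {1}
          rwa [Set.ncard_singleton] at this
        omega
      have hord : ∀ b : F, b ≠ 0 → orderOf (n * ((Rl.u 0 b : A) : G) * n⁻¹) = 2 := by
        intro b hb
        rw [SC.orderOf_conj', Subgroup.orderOf_coe]
        refine SC.order_two ((Rl.u_sq_iff 0 b).2 rfl) (Rl.u_ne_one hb)
      have h3 := hun _ (h1 _ (Rl.u_zero_mem_Z 1)) _ (h1 _ (Rl.u_zero_mem_Z e)) (hord 1 one_ne_zero) (hord e he0)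
      have h4 : ((Rl.u 0 1 : A) : G) = ((Rl.u 0 e : A) : G) := by
        have := congrArg (fun z => n⁻¹ * z * n) h3
        simpa [mul_assoc] using this
      exact he1 (Rl.u_inj (Subtype.ext h4)).2.symm
    · push Not at hY0
      obtain ⟨y, hy, hy0⟩ := hY0
      have hyc : Fst R Rl (n * y * n⁻¹) c := (hY y hy).resolve_left hy0
      have hX : ∀ x ∈ R, Fst R Rl (n * x * n⁻¹) 0 ∨ Fst R Rl (n * x * n⁻¹) c := by
        intro x hx
        obtain ⟨a, ha⟩ := exists_fst C Rl hS (hn x (hRT hx))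
        have h1 := C.comm (C.R_le hx) (C.S_le hy)
        have h2 : (n * x * n⁻¹) * (n * y * n⁻¹) = (n * y * n⁻¹) * (n * x * n⁻¹) := by
          calc (n * x * n⁻¹) * (n * y * n⁻¹) = n * (x * y) * n⁻¹ := by group
            _ = n * (y * x) * n⁻¹ := by rw [h1]
            _ = _ := by group
        rcases ha.commute C Rl hyc h2 hc0 with h | h
        · left; rw [← h]; exact ha
        · right; rw [← h]; exact ha
      -- all first coordinates lie in `{0, c}`
      have hcc : c + c = 0 := Rl.add_self c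
      have hall : ∀ x ∈ R ⊔ S, Fst R Rl x 0 ∨ Fst R Rl x c := by
        intro x hx
        obtain ⟨y, hy, rfl⟩ := hn' x hx
        obtain ⟨r, hr, s, hs, rfl⟩ := C.mem_T hy
        have e : n * (r * s) * n⁻¹ = (n * r * n⁻¹) * (n * s * n⁻¹) := by group
        rw [e]
        rcases hX r hr with h1 | h1 <;> rcases hY s hs with h2 | h2
        · left; simpa using h1.mul C Rl h2
        · right; simpa using h1.mul C Rl h2
        · right; simpa using h1.mul C Rl h2
        · left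
          have := h1.mul C Rl h2
          rwa [hcc] at this
      have hsub : (Set.univ : Set F) ⊆ {0, c} := by
        intro e _
        have h1 : Fst R Rl ((Rl.u e 0 : A) : G) e := ⟨1, one_mem _, 0, by rw [one_mul]⟩
        have h2 : ((Rl.u e 0 : A) : G) ∈ R ⊔ S := hST (by rw [hS]; exact ⟨_, Rl.u_mem e 0, rfl⟩)
        rcases hall _ h2 with h | h
        · left; exact h1.unique C Rl h
        · right; exact h1.unique C Rl h
      have h3 := Set.ncard_le_ncard hsub (by simp)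
      rw [Set.ncard_univ] at h3
      have h4 : ({0, c} : Set F).ncard ≤ 2 := by
        have := Set.ncard_insert_le (0 : F) {c}
        rwa [Set.ncard_singleton] at this
      omega

/-- `T = R × S` is a Sylow 2-subgroup when the involution `t` of `R` is fixed by `N_G(T)`. -/
theorem isSylow [Finite G] (C : SC.Ctx A S R) {t : G} (ht : t ∈ R) (ht2 : orderOf t = 2)
    (hfix : ∀ n : G, (∀ x ∈ R ⊔ S, n * x * n⁻¹ ∈ R ⊔ S) → n * t * n⁻¹ = t) :
    ∃ P : Sylow 2 G, (P : Subgroup G) = R ⊔ S := by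
  haveI : Fact (Nat.Prime 2) := ⟨Nat.prime_two⟩
  obtain ⟨P, hP⟩ := C.two.exists_le_sylow
  refine ⟨P, ?_⟩
  by_contra hne
  have hlt : (R ⊔ S).subgroupOf (P : Subgroup G) < ⊤ := by
    rw [lt_top_iff_ne_top]
    intro h
    exact hne (le_antisymm (subgroupOf_eq_top.1 h) hP)
  haveI : Group.IsNilpotent P := P.isPGroup'.isNilpotent
  have h1 := Group.normalizerCondition_of_isNilpotent (G := P) _ hlt
  obtain ⟨⟨x, hxP⟩, hx1, hx2⟩ := SetLike.exists_of_lt h1
  rw [mem_subgroupOf] at hx2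
  have hnorm : ∀ y ∈ R ⊔ S, x * y * x⁻¹ ∈ R ⊔ S := by
    intro y hy
    have h3 := (mem_normalizer_iff.1 hx1 ⟨y, hP hy⟩).1 (mem_subgroupOf.2 hy)
    exact mem_subgroupOf.1 h3
  have hxM : x ∈ normalizer (A : Set G) :=
    C.tight x t (C.R_le ht) ht2 (by rw [hfix x hnorm]; exact C.R_le ht)
  have h2 : (R ⊔ S) ⊔ zpowers x = R ⊔ S := by
    refine C.eq_T (sup_le C.T_le ((zpowers_le).2 hxM)) ?_ le_sup_left
    exact P.isPGroup'.to_le (sup_le hP (by rwa [zpowers_le]))
  apply hx2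
  change x ∈ R ⊔ S
  rw [← h2]
  exact mem_sup_right (mem_zpowers x)

/-- A non-abelian `R` with one involution does not occur in a non-abelian simple group. -/
theorem false_of_noncomm [Finite G] [IsSimpleGroup G] (hG : ¬ IsMulCommutative G) (C : SC.Ctx A S R)
    (Rl : SzRel.Rel A F) (hS : S = Rl.T.map A.subtype) [Finite F] (h8 : 8 ≤ Nat.card F)
    (hun : ∀ x ∈ R, ∀ y ∈ R, orderOf x = 2 → orderOf y = 2 → x = y)
    (hnc : ∃ x ∈ R, ∃ y ∈ R, x * y ≠ y * x) : False := by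
  haveI : Fact (Nat.Prime 2) := ⟨Nat.prime_two⟩
  obtain ⟨t, ht, ht2, htc⟩ := C.exists_t0
  have hfix : ∀ n : G, (∀ x ∈ R ⊔ S, n * x * n⁻¹ ∈ R ⊔ S) → n * t * n⁻¹ = t := fun n hn =>
    fix_t C Rl hS h8 hun hnc ht ht2 hn
  obtain ⟨P, hP⟩ := isSylow C ht ht2 hfix
  obtain ⟨g, hg1, hg2⟩ := StandardComponent.AltFinal.exists_conj hG ht2
  set y := g * t * g⁻¹ with hy
  have hy2 : orderOf y = 2 := by rw [hy, SC.orderOf_conj']; exact ht2
  have hyM : y ∈ normalizer (A : Set G) := C.mem_M_of_comm (C.R_le ht) ht2 hg2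
  -- `y` is not in `C(A)`
  have hyy : zpowers y ⊔ zpowers t ≤ normalizer (A : Set G) :=
    sup_le (by rwa [zpowers_le]) (by rw [zpowers_le]; exact centralizer_le_normalizer _ (C.R_le ht))
  have hpg : IsPGroup 2 (zpowers y ⊔ zpowers t : Subgroup G) := by
    have hzy : IsPGroup 2 (zpowers y) := IsPGroup.of_card (n := 1) (by rw [Nat.card_zpowers, hy2, pow_one])
    have hzt : IsPGroup 2 (zpowers t) := IsPGroup.of_card (n := 1) (by rw [Nat.card_zpowers, ht2, pow_one])
    refine hzy.to_sup_of_normal_right' hzt ?_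
    rw [zpowers_le, mem_normalizer_iff]
    have h1 : ∀ x ∈ zpowers t, y * x * y⁻¹ = x := by
      rintro x ⟨k, rfl⟩
      have h2 : Commute y t := hg2
      exact (h2.zpow_right k).mul_inv_cancel
    intro x
    constructor
    · intro hx; rw [h1 x hx]; exact hx
    · intro hx
      have h2 := h1 _ hx
      have h3 : x = y * x * y⁻¹ := by
        calc x = y⁻¹ * (y * x * y⁻¹) * y := by group
          _ = y⁻¹ * (y * (y * x * y⁻¹) * y⁻¹) * y := by rw [h2]
          _ = _ := by group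
      rw [h3]; exact hx
  obtain ⟨m, hm, hmq⟩ := C.syl _ hyy hpg
  have hyT := hmq y (mem_sup_left (mem_zpowers y))
  have htT := hmq t (mem_sup_right (mem_zpowers t))
  have htR : m * t * m⁻¹ ∈ R := C.mem_R_of htT (C.conj_K hm (C.R_le ht))
  have hmt : m * t * m⁻¹ = t := hun _ htR t ht (by rw [SC.orderOf_conj']; exact ht2) ht2
  have hyK : m * y * m⁻¹ ∉ centralizer (A : Set G) := by
    intro h
    have h1 := C.mem_R_of hyT h
    have h2 := hun _ h1 t ht (by rw [SC.orderOf_conj']; exact hy2) ht2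
    rw [← hmt] at h2
    exact hg1 (mul_left_cancel (mul_right_cancel h2))
  -- involutions of `T` are central in `T`
  have hcen : ∀ x ∈ R ⊔ S, x * x = 1 → ∀ w ∈ R ⊔ S, w * x = x * w := by
    intro x hx hxx w hw
    obtain ⟨r, hr, s, hs, rfl⟩ := C.mem_T hx
    obtain ⟨r', hr', s', hs', rfl⟩ := C.mem_T hw
    have h1 := mul_split C (r := r) (s' := s) hr hs
    rw [hxx] at h1
    have h2 := split_eq C (one_mem R) (mul_mem hr hr) (one_mem S) (mul_mem hs hs) (by rw [mul_one]; exact h1)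
    have h3 : s' * s = s * s' := (C.central s hs h2.2.symm s' hs').symm
    have h4 : r' * r = r * r' := by
      by_cases hr1 : r = 1
      · rw [hr1, mul_one, one_mul]
      · have := hun r hr t ht (SC.order_two h2.1.symm hr1) ht2
        rw [this]
        exact htc r' (mem_sup_left hr')
    rw [mul_split C hr hs', mul_split C hr' hs, h3, h4]
  -- Burnside
  have hyy2 : (m * y * m⁻¹) * (m * y * m⁻¹) = 1 := SC.sq_one (by rw [SC.orderOf_conj']; exact hy2)
  have hb1 : t ∈ centralizer ((P : Subgroup G) : Set G) := by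
    rw [mem_centralizer_iff]
    intro w hw
    exact htc w (by rw [← hP]; exact hw)
  have he : m * y * m⁻¹ = (m * g)⁻¹⁻¹ * t * (m * g)⁻¹ := by rw [hy]; group
  have hb2 : (m * g)⁻¹⁻¹ * t * (m * g)⁻¹ ∈ centralizer ((P : Subgroup G) : Set G) := by
    rw [← he, mem_centralizer_iff]
    intro w hw
    exact hcen _ hyT hyy2 w (by rw [← hP]; exact hw)
  obtain ⟨n, hn, hne⟩ := P.conj_eq_normalizer_conj_of_mem_centralizer t (m * g)⁻¹ hb1 hb2
  have h1 := hfix n⁻¹ (by
    intro x hx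
    have h2 := (mem_normalizer_iff.1 (inv_mem hn) x).1 (by rw [hP]; exact hx)
    rw [← hP]; exact h2)
  rw [← he] at hne
  rw [inv_inv] at h1
  rw [h1] at hne
  apply hyK
  rw [hne]
  exact C.R_le ht

end Cfsg.Agent.RuRed.RankOne
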