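import Mathlib
import Cfsg.Agent.RuRed.RankOne
import Cfsg.Agent.StdSz.Final
import Cfsg.Agent.StdSz.GammaZero
import Cfsg.Agent.StdSz.OneBranch
import Cfsg.Agent.PLocal.PConstrained

/-!
# Standard `Sz(8)` in a simple group: the centralizer has 2-rank at least two

If the centralizer of the standard subgroup `A = Sz(8)` has 2-rank one, its Sylow 2-subgroups are cyclic by
`RankOne.false_of_noncomm`; then the analysis of `StdSz` gives a subgroup of index 2.
-/

set_option autoImplicit false
set_option linter.unusedSectionVars false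
set_option linter.style.haveILetI false

namespace Cfsg.Agent.RuRed.RankOneEnd

open Subgroup Cfsg Cfsg.Agent.ThreePrime Cfsg.Agent.StdSz.OutDef Cfsg.Agent.StdSz.Final
open Cfsg.Agent.StdSz.NextLevel Cfsg.Agent.StdSz.LevelOneEnd

/-- A commutative finite 2-group with at most one involution is cyclic. -/
theorem isCyclic_of_comm {R : Type*} [Group R] [Finite R] (hc : ∀ x y : R, x * y = y * x) (h2 : IsPGroup 2 R)
    (hun : ∀ x y : R, orderOf x = 2 → orderOf y = 2 → x = y) : IsCyclic R := by
  haveI : Fact (Nat.Prime 2) := ⟨Nat.prime_two⟩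
  classical
  -- an element of maximal order
  obtain ⟨g, hg⟩ := Finite.exists_max (fun x : R => orderOf x)
  by_cases htop : ∀ x : R, x ∈ zpowers g
  · exact ⟨g, htop⟩
  exfalso
  push Not at htop
  obtain ⟨x, hx⟩ := htop
  obtain ⟨n, hn⟩ := h2 x
  -- the last power of `x` outside `⟨g⟩`
  have hex : ∃ k, x ^ 2 ^ k ∈ zpowers g := ⟨n, by rw [hn]; exact one_mem _⟩
  set k := Nat.find hex with hk
  have hk1 : x ^ 2 ^ k ∈ zpowers g := Nat.find_spec hex
  have hk0 : k ≠ 0 := by
    intro h
    rw [h, pow_zero, pow_one] at hk1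
    exact hx hk1
  obtain ⟨j, hj⟩ := Nat.exists_eq_succ_of_ne_zero hk0
  have hj1 : x ^ 2 ^ j ∉ zpowers g := Nat.find_min hex (by omega)
  set y := x ^ 2 ^ j with hy
  have hyy : y * y ∈ zpowers g := by
    rw [hj, pow_succ, pow_mul, pow_two] at hk1
    exact hk1
  obtain ⟨i, hi⟩ := hyy
  have hi' : g ^ i = y * y := hi
  have hcy : Commute y g := hc y g
  -- `g` is not trivial
  have hg1 : g ≠ 1 := by
    rintro rfl
    have h3 := hg y
    rw [orderOf_one] at h3
    have h4 : orderOf y = 1 := le_antisymm h3 (orderOf_pos y)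
    rw [orderOf_eq_one_iff] at h4
    exact hj1 (by rw [h4]; exact one_mem _)
  obtain ⟨a, ha⟩ := (IsPGroup.iff_orderOf.1 h2) g
  have ha0 : a ≠ 0 := by
    rintro rfl
    rw [pow_zero, orderOf_eq_one_iff] at ha
    exact hg1 ha
  obtain ⟨b, rfl⟩ := Nat.exists_eq_succ_of_ne_zero ha0
  -- the involution of `⟨g⟩`
  have hz2 : orderOf (g ^ 2 ^ b) = 2 := by
    rw [orderOf_pow_of_dvd (by positivity) (by rw [ha, pow_succ]; exact Dvd.intro _ rfl), ha, pow_succ,
      Nat.mul_div_cancel_left _ (by positivity)]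
  rcases Int.even_or_odd i with ⟨c, hc2⟩ | ⟨c, hc2⟩
  · -- `y g^(-c)` is an involution outside `⟨g⟩`
    have h3 : (y * g ^ (-c)) * (y * g ^ (-c)) = 1 := by
      have h4 : Commute y (g ^ (-c)) := hcy.zpow_right _
      calc (y * g ^ (-c)) * (y * g ^ (-c)) = y * (g ^ (-c) * y) * g ^ (-c) := by group
        _ = y * (y * g ^ (-c)) * g ^ (-c) := by rw [h4.eq]
        _ = (y * y) * (g ^ (-c) * g ^ (-c)) := by group
        _ = g ^ i * (g ^ (-c) * g ^ (-c)) := by rw [hi']
        _ = 1 := by rw [hc2]; group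
    have h4 : y * g ^ (-c) ≠ 1 := by
      intro h
      apply hj1
      have : y = g ^ c := by
        calc y = (y * g ^ (-c)) * g ^ c := by group
          _ = g ^ c := by rw [h, one_mul]
      rw [this]
      exact zpow_mem (mem_zpowers g) _
    have h5 := hun _ _ (SC.order_two h3 h4) hz2
    apply hj1
    have h6 : y = g ^ 2 ^ b * g ^ c := by
      calc y = (y * g ^ (-c)) * g ^ c := by group
        _ = _ := by rw [h5]
    rw [h6]
    exact mul_mem (pow_mem (mem_zpowers g) _) (zpow_mem (mem_zpowers g) _)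
  · -- `y` has larger order than `g`
    have h3 := hg y
    have h4 : orderOf (y * y) = orderOf g := by
      rw [← hi', hc2]
      have h5 : Nat.Coprime (orderOf g) (2 * c + 1).natAbs := by
        rw [ha]
        apply Nat.Coprime.pow_left
        rw [Nat.coprime_two_left, Int.natAbs_odd]
        exact ⟨c, rfl⟩
      rcases Int.natAbs_eq (2 * c + 1) with h6 | h6
      · rw [h6, zpow_natCast]
        exact h5.orderOf_pow
      · rw [h6, zpow_neg, orderOf_inv, zpow_natCast]
        exact h5.orderOf_pow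
    have h5 : orderOf (y ^ 2) = orderOf y / Nat.gcd (orderOf y) 2 := orderOf_pow y
    rw [pow_two, h4] at h5
    have h6 : orderOf g < orderOf y := by
      rw [h5]
      apply Nat.div_lt_self (orderOf_pos y)
      obtain ⟨d, hd⟩ := (IsPGroup.iff_orderOf.1 h2) y
      have hd0 : d ≠ 0 := by
        rintro rfl
        rw [pow_zero, orderOf_eq_one_iff] at hd
        exact hj1 (by rw [hd]; exact one_mem _)
      obtain ⟨e, rfl⟩ := Nat.exists_eq_succ_of_ne_zero hd0
      have : Nat.gcd (orderOf y) 2 = 2 := by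
        rw [hd, pow_succ]
        exact Nat.gcd_eq_right (Dvd.intro_left _ rfl)
      rw [this]
      norm_num
    omega

/-- the data `OutBase` do not exist in a non-abelian simple group. -/
theorem false_of_base {G : Type*} [Group G] [Finite G] [IsSimpleGroup G] (hG : ¬ IsMulCommutative G)
    {F : Type*} [Field F] [Fintype F] (hF : 2 < Fintype.card F) {t : G} (O : OutBase G F t) : False := by
  obtain ⟨N, hN, hi, -, -⟩ := StdSz.Out.exists_normal O hF
  rcases hN.eq_bot_or_eq_top with h | h
  · apply hG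
    rw [h, index_bot] at hi
    have : Fact (Nat.Prime 2) := ⟨Nat.prime_two⟩
    have hcyc : IsCyclic G := isCyclic_of_prime_card hi
    exact ⟨⟨fun a b => by
      obtain ⟨g, hg⟩ := hcyc
      obtain ⟨i, rfl⟩ := hg a
      obtain ⟨j, rfl⟩ := hg b
      exact (Commute.refl g).zpow_zpow i j⟩⟩
  · rw [h, index_top] at hi
    exact absurd hi (by decide)

/-- Commuting involutions coincide in a group of 2-rank one. -/
theorem eq_of_rankOne {K : Type*} [Group K] [Finite K] (hr : Cfsg.PRankLE 2 1 K) {x y : K} (hx : orderOf x = 2)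
    (hy : orderOf y = 2) (hxy : x * y = y * x) : x = y := by
  by_contra hne
  have hxx := SC.sq_one hx
  have hyy := SC.sq_one hy
  let V : Subgroup K := closure {x, y}
  have hcomm : IsMulCommutative V := by
    refine Subgroup.isMulCommutative_closure ?_
    rintro a (rfl | rfl) b (rfl | rfl)
    · rfl
    · exact hxy
    · exact hxy.symm
    · rfl
  have hc : ∀ a ∈ V, ∀ b ∈ V, a * b = b * a := fun a ha b hb =>
    congrArg Subtype.val (hcomm.is_comm.comm (⟨a, ha⟩ : V) ⟨b, hb⟩)
  have hsq : ∀ a ∈ V, a ^ 2 = 1 := by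
    intro a ha
    induction ha using closure_induction with
    | mem a ha =>
      rcases ha with rfl | rfl
      · rw [pow_two]; exact hxx
      · rw [pow_two]; exact hyy
    | one => exact one_pow 2
    | mul a b ha hb h1 h2 =>
      rw [(show Commute a b from hc a ha b hb).mul_pow, h1, h2, one_mul]
    | inv a _ h1 => rw [inv_pow, h1, inv_one]
  have h1 := hr V hcomm hsq
  have hxV : x ∈ V := subset_closure (by simp)
  have hyV : y ∈ V := subset_closure (by simp)
  have h2 : Nat.card (Fin 3) ≤ Nat.card V := by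
    refine Nat.card_le_card_of_injective (fun i : Fin 3 => (![(1 : V), ⟨x, hxV⟩, ⟨y, hyV⟩] i)) ?_
    have e1 : x ≠ 1 := SC.ne_one hx
    have e2 : y ≠ 1 := SC.ne_one hy
    intro i j hij
    fin_cases i <;> fin_cases j
    · rfl
    · exact absurd (congrArg Subtype.val hij) e1.symm
    · exact absurd (congrArg Subtype.val hij) e2.symm
    · exact absurd (congrArg Subtype.val hij) e1
    · rfl
    · exact absurd (congrArg Subtype.val hij) hne
    · exact absurd (congrArg Subtype.val hij) e2
    · exact absurd (congrArg Subtype.val hij) (Ne.symm hne)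
    · rfl
  rw [Nat.card_eq_fintype_card, Fintype.card_fin] at h2
  omega

/-- The involution `t` lies outside the layer, without the classification theorems. -/
theorem false_of_simple {G : Type*} [Group G] [Finite G] [IsSimpleGroup G] (hG : ¬ IsMulCommutative G)
    {A : Subgroup G} (S : StdSz.Reduce.Simple A)
    (hR : ∀ R : Sylow 2 ↥(centralizer (A : Set G)), IsCyclic ↥(R : Subgroup ↥(centralizer (A : Set G))))
    {t : G} (ht : orderOf t = 2) (htA : t ∈ centralizer (A : Set G))
    {F : Type*} [Field F] [Fintype F] {m : ℕ} (hm : 1 ≤ m)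
    (hF : Fintype.card F = 2 ^ (2 * m + 1))
    (hAX : Nonempty (↥A ⧸ center ↥A ≃* ↥(Cfsg.Lie.Sz F (2 ^ (m + 1))))) : False := by
  haveI := StdSz.EquivMaps.charP_two hF
  have hF2 : 2 < Fintype.card F := by
    rw [hF]
    calc 2 < 2 ^ 3 := by norm_num
      _ ≤ 2 ^ (2 * m + 1) := Nat.pow_le_pow_right (by norm_num) (by omega)
  have hZ : Odd (Nat.card (center A)) := by
    obtain ⟨e⟩ := hAX
    exact StdSz.CoverD.odd_center S hm hF e hR ht htA
  obtain ⟨C⟩ := StdSz.FromStd.exists_ctx S ht htA hm hF hAX hZ hR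
  obtain ⟨D⟩ := exists_data C
  rcases trichotomy D.P D.tmax D.hK with ⟨hQ, hf⟩ | ⟨hd, hg, ⟨hN⟩⟩ | ⟨hd, hg, hN⟩
  · obtain ⟨O, -⟩ := StdSz.OutOne.out_of_maximal D.P hQ hf
    exact false_of_base hG hF2 O.toOutBase
  · obtain ⟨O, -⟩ := StdSz.GammaZero.out_of_gammaZero D.tmax hd hg hN
    exact false_of_base hG hF2 O.toOutBase
  · rcases StdSz.OneBranch.oneBranch D hd hg hN with ⟨O, -⟩ | ⟨⟨O⟩⟩
    · exact false_of_base hG hF2 O.toOutBase
    · exact false_of_base hG hF2 O.toOutBase

theorem oddCore_eq_bot {G : Type*} [Group G] [Finite G] [IsSimpleGroup G] {z : G} (hz : orderOf z = 2) :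
    Cfsg.oddCore G = ⊥ := by
  have hn : (Cfsg.pPrimeCore 2 G).Normal := inferInstance
  rcases hn.eq_bot_or_eq_top with h | h
  · exact h
  · exfalso
    have h1 := Cfsg.Agent.PLocal.PConstrained.coprime_card_pPrimeCore (G := G) (p := 2)
    rw [h, Subgroup.card_top] at h1
    have h2 : 2 ∣ Nat.card G := by rw [← hz]; exact orderOf_dvd_natCard z
    have h3 : 2 ∣ Nat.gcd (Nat.card G) 2 := Nat.dvd_gcd h2 (dvd_refl 2)
    rw [h1] at h3
    exact absurd h3 (by norm_num)

/-- the layer of a simple group is not `A × A`. -/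
theorem false_of_prod {G : Type*} [Group G] [IsSimpleGroup G] {A : Subgroup G} {a : A} (ha : a ≠ 1)
    (h : Nonempty (↥(Cfsg.layer G) ≃* ↥A × ↥A)) : False := by
  obtain ⟨φ⟩ := h
  let K : Subgroup (Cfsg.layer G) := (Subgroup.prod (⊤ : Subgroup A) (⊥ : Subgroup A)).comap φ.toMonoidHom
  rcases (Cfsg.Agent.SignalizersComponents.Components.layer_normal G).eq_bot_or_eq_top with h1 | h1
  · have h2 : ∀ x : Cfsg.layer G, x = 1 := fun x => Subtype.ext ((Subgroup.eq_bot_iff_forall _).1 h1 x x.2)
    have h3 := h2 (φ.symm (a, 1))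
    rw [MulEquiv.map_eq_one_iff, Prod.mk_eq_one] at h3
    exact ha h3.1
  · let ι : G ≃* A × A := (Subgroup.topEquiv.symm.trans (MulEquiv.subgroupCongr h1.symm)).trans φ
    let N : Subgroup G := (Subgroup.prod (⊤ : Subgroup A) (⊥ : Subgroup A)).comap ι.toMonoidHom
    have hN : N.Normal := inferInstance
    rcases hN.eq_bot_or_eq_top with h2 | h2
    · have h3 : ι.symm (a, 1) ∈ N := by
        change ι (ι.symm (a, 1)) ∈ Subgroup.prod (⊤ : Subgroup A) (⊥ : Subgroup A)
        rw [MulEquiv.apply_symm_apply, Subgroup.mem_prod]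
        exact ⟨mem_top _, mem_bot.2 rfl⟩
      rw [h2, mem_bot, MulEquiv.map_eq_one_iff, Prod.mk_eq_one] at h3
      exact ha h3.1
    · have h3 : ι.symm (1, a) ∈ N := by rw [h2]; exact mem_top _
      change ι (ι.symm (1, a)) ∈ Subgroup.prod (⊤ : Subgroup A) (⊥ : Subgroup A) at h3
      rw [MulEquiv.apply_symm_apply, Subgroup.mem_prod, mem_bot] at h3
      exact ha h3.2

/-- **Rank one**: a standard subgroup `Sz(8)` of a non-abelian simple group has a centralizer of
2-rank at least two. -/
theorem false_of_rankOne {G : Type*} [Group G] [Finite G] [IsSimpleGroup G] (hG : ¬ IsMulCommutative G)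
    {A : Subgroup G} (hA : Cfsg.IsStandardSubgroup A) {F : Type*} [Field F] [Fintype F]
    (hF : Fintype.card F = 8) (hAX : Nonempty (↥A ≃* ↥(Cfsg.Lie.Sz F 4)))
    (hr : Cfsg.PRankLE 2 1 ↥(centralizer (A : Set G))) : False := by
  haveI : Fact (Nat.Prime 2) := ⟨Nat.prime_two⟩
  have hF' : Fintype.card F = 2 ^ (2 * 1 + 1) := by rw [hF]; norm_num
  have h8 : 8 ≤ Nat.card F := by rw [Nat.card_eq_fintype_card, hF]
  obtain ⟨e⟩ := hAX
  let Rl : SzRel.Rel A F := (SzRel.ofGood (Cfsg.Agent.LieRecognition.SzMatrix.good hF')).map e.symm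
  obtain ⟨R, C⟩ := CtxSz.exists_ctx hA hF Rl
  -- commuting involutions of `C(A)` coincide
  have hcom : ∀ x ∈ centralizer (A : Set G), ∀ y ∈ centralizer (A : Set G), orderOf x = 2 → orderOf y = 2 →
      x * y = y * x → x = y := by
    intro x hx y hy hx2 hy2 hxy
    have := eq_of_rankOne hr (x := ⟨x, hx⟩) (y := ⟨y, hy⟩) (by rw [← Subgroup.orderOf_coe]; exact hx2)
      (by rw [← Subgroup.orderOf_coe]; exact hy2) (Subtype.ext hxy)
    exact congrArg Subtype.val this
  obtain ⟨t, ht, ht2, htc⟩ := C.exists_t0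
  have hun : ∀ x ∈ R, ∀ y ∈ R, orderOf x = 2 → orderOf y = 2 → x = y := by
    intro x hx y hy hx2 hy2
    have h1 := hcom x (C.R_le hx) t (C.R_le ht) hx2 ht2 (htc x (mem_sup_left hx))
    have h2 := hcom y (C.R_le hy) t (C.R_le ht) hy2 ht2 (htc y (mem_sup_left hy))
    rw [h1, h2]
  by_cases hnc : ∃ x ∈ R, ∃ y ∈ R, x * y ≠ y * x
  · exact RankOne.false_of_noncomm hG C Rl rfl h8 hun hnc
  push Not at hnc
  have hR2 : IsPGroup 2 R := C.two.to_le le_sup_left
  have hRc : IsCyclic R := isCyclic_of_comm (fun x y => Subtype.ext (hnc x x.2 y y.2)) hR2 (by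
    intro x y hx hy
    exact Subtype.ext (hun x x.2 y y.2 (by rw [Subgroup.orderOf_coe]; exact hx)
      (by rw [Subgroup.orderOf_coe]; exact hy)))
  -- the Sylow 2-subgroups of `C(A)` are cyclic
  have hcyc : ∀ P : Sylow 2 ↥(centralizer (A : Set G)),
      IsCyclic ↥(P : Subgroup ↥(centralizer (A : Set G))) := by
    intro P
    set Q := (P : Subgroup (centralizer (A : Set G))).map (centralizer (A : Set G)).subtype with hQ
    have hQ2 : IsPGroup 2 Q := P.isPGroup'.map _
    have hQK : ∀ q ∈ Q, q ∈ centralizer (A : Set G) := by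
      rintro _ ⟨q, -, rfl⟩; exact q.2
    obtain ⟨m, hm, hmq⟩ := C.syl Q (fun q hq => centralizer_le_normalizer _ (hQK q hq)) hQ2
    have hmR : ∀ q ∈ Q, m * q * m⁻¹ ∈ R := fun q hq => C.mem_R_of (hmq q hq) (C.conj_K hm (hQK q hq))
    let f : (P : Subgroup (centralizer (A : Set G))) →* R :=
      { toFun := fun q => ⟨m * (q : centralizer (A : Set G)) * m⁻¹, hmR _ ⟨q, q.2, rfl⟩⟩
        map_one' := by
          apply Subtype.ext
          show m * ((1 : centralizer (A : Set G)) : G) * m⁻¹ = 1
          rw [OneMemClass.coe_one]; group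
        map_mul' := by
          intro q q'
          apply Subtype.ext
          show m * (((q * q' : (P : Subgroup (centralizer (A : Set G)))) : centralizer (A : Set G)) : G) * m⁻¹ = _
          push_cast
          show _ = (m * ((q : centralizer (A : Set G)) : G) * m⁻¹) * (m * ((q' : centralizer (A : Set G)) : G) * m⁻¹)
          group }
    have hf : Function.Injective f := by
      intro q q' h
      have h1 : m * ((q : centralizer (A : Set G)) : G) * m⁻¹ = m * ((q' : centralizer (A : Set G)) : G) * m⁻¹ :=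
        congrArg Subtype.val h
      exact Subtype.ext (Subtype.ext (mul_left_cancel (mul_right_cancel h1)))
    exact isCyclic_of_injective f hf
  -- the reduction
  have htA : t ∈ centralizer (A : Set G) := C.R_le ht
  have hnA : ¬ A.Normal := by
    intro h
    rcases h.eq_bot_or_eq_top with h1 | h1
    · have h2 : ((Rl.u 0 1 : A) : G) ∈ A := (Rl.u 0 1).2
      have h3 : ((Rl.u 0 1 : A) : G) = 1 := (Subgroup.eq_bot_iff_forall A).1 h1 _ h2
      exact Rl.u_ne_one one_ne_zero (Subtype.ext h3)
    · exact SC.ne_one ht2 (C.inf t (by rw [h1]; exact mem_top t) htA)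
  rcases StdSz.Reduce.prod_or_simple hA hnA (oddCore_eq_bot ht2) ht2 htA with h | S
  · exact false_of_prod (Rl.u_ne_one (a := 0) one_ne_zero) h
  · refine false_of_simple hG S hcyc ht2 htA le_rfl hF' ?_
    have hc : center A = ⊥ := by
      rw [eq_bot_iff]
      intro x hx
      rw [mem_bot]
      exact CtxSz.center_trivial Rl fun y => (mem_center_iff.1 hx y).symm
    exact ⟨((QuotientGroup.quotientMulEquivOfEq hc).trans QuotientGroup.quotientBot).trans e⟩

end Cfsg.Agent.RuRed.RankOneEnd
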